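import Mathlib.RingTheory.SimpleModule.WedderburnArtin
import Mathlib.LinearAlgebra.Matrix.ToLin
import Mathlib.LinearAlgebra.Matrix.Action
import Mathlib.LinearAlgebra.Dimension.Constructions
import Mathlib.LinearAlgebra.FiniteDimensional.Lemmas
import Mathlib.LinearAlgebra.FreeModule.Finite.Matrix
import Mathlib.RingTheory.SimpleRing.Matrix
import Mathlib.RingTheory.SimpleRing.Congr

/-!
Modules over finite dimensional simple algebras: classified by dimension; the uniqueness half of
the Wedderburn theorem.
-/

universe u v w x y

namespace Groth.Agent.CSALib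

variable (k : Type u) [Field k]

section Modules

variable (R : Type v) [Ring R] [Algebra k R] [IsSimpleRing R] [Module.Finite k R]

/-- All finite modules over a finite dimensional simple algebra are powers of one simple module. -/
theorem exists_simple_power :
    ∃ (S : Ideal R), IsSimpleModule R S ∧ 0 < Module.finrank k S ∧
      ∀ (M : Type w) [AddCommGroup M] [Module R M] [Module.Finite R M],
        ∃ n : ℕ, Nonempty (M ≃ₗ[R] (Fin n → S)) := by
  have := IsArtinianRing.of_finite k R
  obtain ⟨n₀, _, S, hS, -⟩ := (IsSimpleRing.isIsotypic R R).linearEquiv_fun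
  have : Module.Finite k S :=
    Module.Finite.of_injective (S.subtype.restrictScalars k) S.injective_subtype
  have := IsSimpleModule.nontrivial R S
  refine ⟨S, hS, Module.finrank_pos, fun M _ _ _ => ?_⟩
  have hof : IsIsotypicOfType R M S := fun m _ => by
    obtain ⟨I, ⟨e⟩⟩ := IsSemisimpleRing.exists_linearEquiv_ideal_of_isSimpleModule R m
    have := IsSimpleModule.congr e.symm
    obtain ⟨e'⟩ := IsSimpleRing.isIsotypic R R S I
    exact ⟨e.trans e'⟩
  exact hof.linearEquiv_fun

/-- Modules of the same dimension over a simple algebra are isomorphic. -/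
theorem nonempty_linearEquiv_of_finrank_eq
    (M : Type w) [AddCommGroup M] [Module k M] [Module R M] [IsScalarTower k R M] [Module.Finite k M]
    (N : Type w) [AddCommGroup N] [Module k N] [Module R N] [IsScalarTower k R N] [Module.Finite k N]
    (h : Module.finrank k M = Module.finrank k N) : Nonempty (M ≃ₗ[R] N) := by
  have := Module.Finite.of_restrictScalars_finite k R M
  have := Module.Finite.of_restrictScalars_finite k R N
  obtain ⟨S, -, hpos, hpow⟩ := exists_simple_power.{u, v, w} k R
  obtain ⟨n, ⟨e⟩⟩ := hpow M
  obtain ⟨m, ⟨e'⟩⟩ := hpow N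
  have : Module.Finite k S :=
    Module.Finite.of_injective (S.subtype.restrictScalars k) S.injective_subtype
  have hn : n = m := by
    rw [(e.restrictScalars k).finrank_eq, (e'.restrictScalars k).finrank_eq, Module.finrank_pi_fintype,
      Module.finrank_pi_fintype] at h
    simpa [hpos.ne'] using h
  subst hn
  exact ⟨e.trans e'.symm⟩

/-- The endomorphism algebra of a nonzero module over a simple algebra is simple, and its dimension
is determined by the dimensions of the module and of the algebra. -/
theorem moduleEnd_isSimpleRing_and_finrank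
    (M : Type w) [AddCommGroup M] [Module k M] [Module R M] [IsScalarTower k R M] [Module.Finite k M]
    [Nontrivial M] :
    IsSimpleRing (Module.End R M) ∧
      Module.finrank k (Module.End R M) * Module.finrank k R =
        Module.finrank k M * Module.finrank k M := by
  classical
  have := Module.Finite.of_restrictScalars_finite k R M
  obtain ⟨S, hS, hpos, hpow⟩ := exists_simple_power.{u, v, w} k R
  obtain ⟨r, ⟨e⟩⟩ := hpow M
  have hr : r ≠ 0 := by
    rintro rfl
    exact not_subsingleton M e.subsingleton
  have : NeZero r := ⟨hr⟩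
  obtain ⟨S', hS', hpos', hpow'⟩ := exists_simple_power.{u, v, v} k R
  have := IsArtinianRing.of_finite k R
  obtain ⟨eS⟩ := IsSimpleRing.isIsotypic R R S' S
  obtain ⟨s, ⟨eR⟩⟩ := hpow' R
  have eR' : R ≃ₗ[R] (Fin s → S) := eR.trans (LinearEquiv.piCongrRight fun _ => eS.symm)
  have : Module.Finite k S :=
    Module.Finite.of_injective (S.subtype.restrictScalars k) S.injective_subtype
  let E : Module.End R M ≃ₐ[k] Matrix (Fin r) (Fin r) (Module.End R S) :=
    (e.conjAlgEquiv k).trans (endVecAlgEquivMatrixEnd (Fin r) k R S)
  let F : Rᵐᵒᵖ ≃ₐ[k] Matrix (Fin s) (Fin s) (Module.End R S) :=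
    (AlgEquiv.moduleEndSelf k).trans
      ((eR'.conjAlgEquiv k).trans (endVecAlgEquivMatrixEnd (Fin s) k R S))
  refine ⟨IsSimpleRing.of_ringEquiv E.symm.toRingEquiv inferInstance, ?_⟩
  have hR : Module.finrank k R = Module.finrank k Rᵐᵒᵖ :=
    (MulOpposite.opLinearEquiv k).finrank_eq
  have hR1 : Module.finrank k R = s * Module.finrank k S := by
    rw [(eR'.restrictScalars k).finrank_eq, Module.finrank_pi_fintype]
    simp
  have hM : Module.finrank k M = r * Module.finrank k S := by
    rw [(e.restrictScalars k).finrank_eq, Module.finrank_pi_fintype]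
    simp
  have hE : Module.finrank k (Module.End R M) = r * r * Module.finrank k (Module.End R S) := by
    rw [E.toLinearEquiv.finrank_eq, Module.finrank_matrix]
    simp
  have hR2 : Module.finrank k R = s * s * Module.finrank k (Module.End R S) := by
    rw [hR, F.toLinearEquiv.finrank_eq, Module.finrank_matrix]
    simp
  have hs : Module.finrank k S = s * Module.finrank k (Module.End R S) := by
    have hs0 : 0 < s := by
      rcases Nat.eq_zero_or_pos s with h0 | h0
      · subst h0
        rw [zero_mul] at hR1
        exact absurd hR1 Module.finrank_pos.ne'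
      · exact h0
    exact Nat.eq_of_mul_eq_mul_left hs0 (by rw [← mul_assoc, ← hR2, hR1])
  rw [hM, hE, hR1, hs]
  ring

end Modules

section Uniqueness

variable {D : Type w} [DivisionRing D] [Algebra k D] {n : ℕ} [NeZero n]

/-- The columns form a simple module over the matrices. -/
theorem isSimpleModule_columns :
    IsSimpleModule (Matrix (Fin n) (Fin n) D) (Fin n → D) where
  eq_bot_or_eq_top P := by
    by_cases h : P = ⊥
    · exact Or.inl h
    right
    obtain ⟨v, hv, hv0⟩ := P.ne_bot_iff.1 h
    obtain ⟨j, hj⟩ := Function.ne_iff.1 hv0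
    refine Submodule.eq_top_iff'.2 fun w => ?_
    have hw : (Matrix.of fun i l => if l = j then w i * (v j)⁻¹ else 0) • v = w := by
      funext i
      show ((Matrix.of fun i l => if l = j then w i * (v j)⁻¹ else 0).mulVec v) i = w i
      simp [Matrix.mulVec, dotProduct, ite_mul, inv_mul_cancel_right₀ (show v j ≠ 0 from hj)]
    rw [← hw]
    exact P.smul_mem _ hv

/-- Endomorphisms of the column module are the right multiplications. -/
theorem nonempty_columns_end_algEquiv [IsScalarTower k (Matrix (Fin n) (Fin n) D) (Fin n → D)] :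
    Nonempty (Dᵐᵒᵖ ≃ₐ[k] Module.End (Matrix (Fin n) (Fin n) D) (Fin n → D)) := by
  let φ : Dᵐᵒᵖ →ₐ[k] Module.End (Matrix (Fin n) (Fin n) D) (Fin n → D) :=
    { toFun := fun d =>
        { toFun := fun v i => v i * d.unop
          map_add' := fun v w => funext fun i => add_mul _ _ _
          map_smul' := fun M v => by
            funext i
            show (M.mulVec v) i * d.unop = M.mulVec (fun l => v l * d.unop) i
            simp [Matrix.mulVec, dotProduct, Finset.sum_mul, mul_assoc] }
      map_one' := LinearMap.ext fun v => funext fun i => mul_one _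
      map_mul' := fun a b => LinearMap.ext fun v => funext fun i => (mul_assoc _ _ _).symm
      map_zero' := LinearMap.ext fun v => funext fun i => mul_zero _
      map_add' := fun a b => LinearMap.ext fun v => funext fun i => mul_add _ _ _
      commutes' := fun c => LinearMap.ext fun v => funext fun i => by
        show v i * algebraMap k D c = c • v i
        rw [Algebra.smul_def, Algebra.commutes] }
  refine ⟨AlgEquiv.ofBijective φ ⟨fun a b h => ?_, fun f => ?_⟩⟩
  · have := congrFun (LinearMap.congr_fun h fun _ => 1) 0
    exact MulOpposite.unop_injective (by simpa [φ] using this)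
  · refine ⟨MulOpposite.op (f (fun i => if i = 0 then 1 else 0) 0), LinearMap.ext fun v => ?_⟩
    have hv : (Matrix.of fun (i l : Fin n) => if l = 0 then v i else 0) •
        (fun i : Fin n => if i = 0 then (1 : D) else 0) = v := by
      funext i
      show ((Matrix.of fun (i l : Fin n) => if l = 0 then v i else 0).mulVec _) i = v i
      simp [Matrix.mulVec, dotProduct, ite_mul]
    conv_rhs => rw [← hv, map_smul]
    funext i
    show v i * f _ 0 = ((Matrix.of fun (i l : Fin n) => if l = 0 then v i else 0).mulVec _) i
    simp [Matrix.mulVec, dotProduct, ite_mul]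

/-- Uniqueness in the Wedderburn theorem. -/
theorem wedderburn_unique {D' : Type x} [DivisionRing D'] [Algebra k D'] {m : ℕ} [NeZero m]
    [Module.Finite k D]
    (e : Matrix (Fin n) (Fin n) D ≃ₐ[k] Matrix (Fin m) (Fin m) D') :
    n = m ∧ Nonempty (D ≃ₐ[k] D') := by
  classical
  have hfinD' : Module.Finite k D' := by
    have := Module.Finite.equiv e.toLinearEquiv
    exact Module.Finite.of_surjective (Matrix.entryLinearMap k D' (0 : Fin m) (0 : Fin m))
      fun d => ⟨fun _ _ => d, rfl⟩
  have := IsArtinianRing.of_finite k (Matrix (Fin n) (Fin n) D)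
  let _ : Module (Matrix (Fin n) (Fin n) D) (Fin m → D') :=
    Module.compHom (Fin m → D') (e : Matrix (Fin n) (Fin n) D →+* Matrix (Fin m) (Fin m) D')
  have hsmul : ∀ (M : Matrix (Fin n) (Fin n) D) (v : Fin m → D'), M • v = (e M).mulVec v :=
    fun _ _ => rfl
  have _ : IsScalarTower k (Matrix (Fin n) (Fin n) D) (Fin m → D') :=
    ⟨fun c M v => by rw [hsmul, hsmul, map_smul, Matrix.smul_mulVec]⟩
  have _ : IsScalarTower k (Matrix (Fin n) (Fin n) D) (Fin n → D) :=
    ⟨fun c M v => Matrix.smul_mulVec c M v⟩
  have _ : IsScalarTower k (Matrix (Fin m) (Fin m) D') (Fin m → D') :=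
    ⟨fun c M v => Matrix.smul_mulVec c M v⟩
  have hsimp : IsSimpleModule (Matrix (Fin n) (Fin n) D) (Fin m → D') := by
    have h' : IsSimpleModule (Matrix (Fin m) (Fin m) D') (Fin m → D') := isSimpleModule_columns
    rw [isSimpleModule_iff] at h' ⊢
    let o : Submodule (Matrix (Fin n) (Fin n) D) (Fin m → D') ≃o
        Submodule (Matrix (Fin m) (Fin m) D') (Fin m → D') :=
      { toFun := fun P => { P.toAddSubgroup with
          smul_mem' := fun M v hv => by
            have := P.smul_mem (e.symm M) hv
            rw [hsmul, e.apply_symm_apply] at this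
            exact this }
        invFun := fun P => { P.toAddSubgroup with smul_mem' := fun M v hv => P.smul_mem (e M) hv }
        left_inv := fun P => rfl
        right_inv := fun P => rfl
        map_rel_iff' := Iff.rfl }
    exact o.isSimpleOrder
  have hcol : IsSimpleModule (Matrix (Fin n) (Fin n) D) (Fin n → D) := isSimpleModule_columns
  obtain ⟨I, ⟨e₁⟩⟩ := IsSemisimpleRing.exists_linearEquiv_ideal_of_isSimpleModule
    (Matrix (Fin n) (Fin n) D) (Fin n → D)
  obtain ⟨J, ⟨e₂⟩⟩ := IsSemisimpleRing.exists_linearEquiv_ideal_of_isSimpleModule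
    (Matrix (Fin n) (Fin n) D) (Fin m → D')
  have := IsSimpleModule.congr e₁.symm
  have := IsSimpleModule.congr e₂.symm
  obtain ⟨e₃⟩ := IsSimpleRing.isIsotypic (Matrix (Fin n) (Fin n) D) (Matrix (Fin n) (Fin n) D) J I
  let ψ : (Fin n → D) ≃ₗ[Matrix (Fin n) (Fin n) D] (Fin m → D') := e₁.trans (e₃.trans e₂.symm)
  let E₁ : Module.End (Matrix (Fin n) (Fin n) D) (Fin m → D') ≃ₐ[k]
      Module.End (Matrix (Fin m) (Fin m) D') (Fin m → D') :=
    { toFun := fun f =>
        { toFun := f
          map_add' := f.map_add
          map_smul' := fun M v => by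
            have := f.map_smul (e.symm M) v
            simp only [hsmul, e.apply_symm_apply] at this
            exact this }
      invFun := fun f =>
        { toFun := f
          map_add' := f.map_add
          map_smul' := fun M v => f.map_smul (e M) v }
      left_inv := fun f => rfl
      right_inv := fun f => rfl
      map_mul' := fun f g => rfl
      map_add' := fun f g => rfl
      commutes' := fun c => rfl }
  obtain ⟨a⟩ := nonempty_columns_end_algEquiv k (D := D) (n := n)
  obtain ⟨b⟩ := nonempty_columns_end_algEquiv k (D := D') (n := m)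
  let d : D ≃ₐ[k] D' :=
    (AlgEquiv.op.symm (a.trans ((ψ.conjAlgEquiv k).trans (E₁.trans b.symm))))
  refine ⟨?_, ⟨d⟩⟩
  have h := e.toLinearEquiv.finrank_eq
  rw [Module.finrank_matrix, Module.finrank_matrix, d.toLinearEquiv.finrank_eq] at h
  simp only [Fintype.card_fin] at h
  exact Nat.mul_self_inj.1 (Nat.eq_of_mul_eq_mul_right Module.finrank_pos h)

end Uniqueness

end Groth.Agent.CSALib
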