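import Groth.Agent.CSALib.Basic
import Groth.Agent.CSALib.Modules
import Mathlib.RingTheory.TensorProduct.Finite

/-!
The Skolem–Noether theorem and the double centralizer theorem.
-/

universe u v w

namespace Groth.Agent.CSALib

open TensorProduct

variable (k : Type u) [Field k] {A : Type v} [Ring A] [Algebra k A] {B : Type w} [Ring B] [Algebra k B]

/-- `A` regarded as a module over `A ⊗ Bᵐᵒᵖ` through `f : B → A`: `(a ⊗ b) • x = a * x * f b`. -/
def Twist (_f : B →ₐ[k] A) : Type v := A

variable (f : B →ₐ[k] A)

instance instTwistAddCommGroup : AddCommGroup (Twist k f) := inferInstanceAs (AddCommGroup A)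

instance instTwistModuleBase : Module k (Twist k f) := inferInstanceAs (Module k A)

/-- The identification of `A` with its twist. -/
def toTwist : A ≃ₗ[k] Twist k f := LinearEquiv.refl k A

/-- The action defining the twist. -/
noncomputable def twistAction : (A ⊗[k] Bᵐᵒᵖ) →ₐ[k] Module.End k A :=
  (AlgHom.mulLeftRight k A).comp (Algebra.TensorProduct.map (AlgHom.id k A) (AlgHom.op f))

noncomputable instance instTwistModule : Module (A ⊗[k] Bᵐᵒᵖ) (Twist k f) :=
  Module.compHom A (twistAction k f).toRingHom

lemma twist_smul (r : A ⊗[k] Bᵐᵒᵖ) (x : A) :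
    r • toTwist k f x = toTwist k f (twistAction k f r x) := rfl

lemma twist_tmul_smul (a : A) (b : B) (x : A) :
    (a ⊗ₜ[k] MulOpposite.op b) • toTwist k f x = toTwist k f (a * x * f b) := by
  rw [twist_smul]
  simp [twistAction, AlgHom.op]

instance instTwistTower : IsScalarTower k (A ⊗[k] Bᵐᵒᵖ) (Twist k f) := by
  refine ⟨fun c r x => ?_⟩
  obtain ⟨y, rfl⟩ := (toTwist k f).surjective x
  rw [twist_smul, twist_smul, map_smul, LinearMap.smul_apply, map_smul]

instance instTwistFinite [FiniteDimensional k A] : Module.Finite k (Twist k f) :=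
  Module.Finite.equiv (toTwist k f)

variable [IsSimpleRing A] [Algebra.IsCentral k A] [FiniteDimensional k A] [IsSimpleRing B]

omit [FiniteDimensional k A] in
lemma isSimpleRing_twistRing : IsSimpleRing (A ⊗[k] Bᵐᵒᵖ) :=
  isSimpleRing_tensorProduct k A Bᵐᵒᵖ

include f in
lemma finite_of_algHom : Module.Finite k B :=
  Module.Finite.of_injective f.toLinearMap (RingHom.injective f.toRingHom)

include f in
lemma finite_twistRing : Module.Finite k (A ⊗[k] Bᵐᵒᵖ) := by
  have := finite_of_algHom k f
  have : Module.Finite k Bᵐᵒᵖ := Module.Finite.equiv (MulOpposite.opLinearEquiv k)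
  infer_instance

variable {f} in
/-- The Skolem–Noether theorem. -/
theorem skolem_noether (f g : B →ₐ[k] A) : ∃ c : Aˣ, ∀ b, g b = c * f b * (c⁻¹ : Aˣ) := by
  have := isSimpleRing_twistRing k (A := A) (B := B)
  have := finite_twistRing k f
  obtain ⟨φ⟩ := nonempty_linearEquiv_of_finrank_eq k (A ⊗[k] Bᵐᵒᵖ) (Twist k f) (Twist k g)
    (((toTwist k f).symm.trans (toTwist k g)).finrank_eq)
  let ψ : A → A := fun x => (toTwist k g).symm (φ (toTwist k f x))
  have hψ : ∀ (a x : A) (b : B), ψ (a * x * f b) = a * ψ x * g b := by
    intro a x b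
    apply (toTwist k g).injective
    simp only [ψ, LinearEquiv.apply_symm_apply, ← twist_tmul_smul, map_smul]
  have hl : ∀ a, ψ a = a * ψ 1 := fun a => by simpa using hψ a 1 1
  have hbij : Function.Bijective ψ :=
    ((toTwist k g).symm.bijective.comp φ.bijective).comp (toTwist k f).bijective
  obtain ⟨d, hd⟩ := hbij.2 1
  rw [hl] at hd
  have hd' : ψ 1 * d = 1 := hbij.1 (by rw [hl, hl 1, one_mul, mul_assoc, hd, mul_one])
  refine ⟨⟨d, ψ 1, hd, hd'⟩, fun b => ?_⟩
  have h1 := hψ 1 1 b
  rw [one_mul, one_mul, one_mul, hl (f b)] at h1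
  show g b = d * f b * ψ 1
  rw [mul_assoc, h1, ← mul_assoc, hd, one_mul]

/-- Endomorphisms of the twist are the right multiplications by the centralizer. -/
theorem nonempty_twistEnd_algEquiv :
    Nonempty ((Subalgebra.centralizer k (f.range : Set A))ᵐᵒᵖ ≃ₐ[k]
      Module.End (A ⊗[k] Bᵐᵒᵖ) (Twist k f)) := by
  let φ : (Subalgebra.centralizer k (f.range : Set A))ᵐᵒᵖ →ₐ[k]
      Module.End (A ⊗[k] Bᵐᵒᵖ) (Twist k f) :=
    { toFun := fun c =>
        { toFun := fun x => toTwist k f ((toTwist k f).symm x * (c.unop : A))
          map_add' := fun x y => by simp [add_mul]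
          map_smul' := fun r x => by
            obtain ⟨y, rfl⟩ := (toTwist k f).surjective x
            simp only [RingHom.id_apply, LinearEquiv.symm_apply_apply]
            induction r with
            | zero => simp [twist_smul]
            | tmul a b =>
              obtain ⟨b, rfl⟩ := MulOpposite.op_surjective b
              rw [twist_tmul_smul, twist_tmul_smul, LinearEquiv.symm_apply_apply]
              have hc : f b * (c.unop : A) = (c.unop : A) * f b :=
                (Subalgebra.mem_centralizer_iff k).1 c.unop.2 _ ⟨b, rfl⟩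
              rw [mul_assoc _ (f b), hc]
              simp only [mul_assoc]
            | add r s hr hs =>
              rw [add_smul, add_smul, map_add, add_mul, map_add, hr, hs] }
      map_one' := LinearMap.ext fun x => by
        show toTwist k f ((toTwist k f).symm x * ((1 : Subalgebra.centralizer k (f.range : Set A)) : A)) = x
        rw [Subalgebra.coe_one, mul_one, LinearEquiv.apply_symm_apply]
      map_mul' := fun a b => LinearMap.ext fun x => by
        show toTwist k f ((toTwist k f).symm x * ((b.unop * a.unop : Subalgebra.centralizer k (f.range : Set A)) : A)) = _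
        simp [mul_assoc]
      map_zero' := LinearMap.ext fun x => by simp
      map_add' := fun a b => LinearMap.ext fun x => by simp [mul_add]
      commutes' := fun c => LinearMap.ext fun x => by
        simp [← Algebra.commutes, ← Algebra.smul_def] }
  refine ⟨AlgEquiv.ofBijective φ ⟨fun a b h => ?_, fun g => ?_⟩⟩
  · have := congrArg (toTwist k f).symm (LinearMap.congr_fun h (toTwist k f 1))
    exact MulOpposite.unop_injective (Subtype.ext (by simpa [φ] using this))
  · let ψ : A → A := fun x => (toTwist k f).symm (g (toTwist k f x))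
    have hψ : ∀ (a x : A) (b : B), ψ (a * x * f b) = a * ψ x * f b := by
      intro a x b
      apply (toTwist k f).injective
      simp only [ψ, LinearEquiv.apply_symm_apply, ← twist_tmul_smul, map_smul]
    have hl : ∀ a, ψ a = a * ψ 1 := fun a => by simpa using hψ a 1 1
    have hc : ψ 1 ∈ Subalgebra.centralizer k (f.range : Set A) := by
      rw [Subalgebra.mem_centralizer_iff]
      rintro _ ⟨b, rfl⟩
      have h1 := hψ 1 1 b
      rw [one_mul, one_mul, one_mul, hl] at h1
      exact h1
    refine ⟨MulOpposite.op ⟨ψ 1, hc⟩, LinearMap.ext fun x => ?_⟩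
    obtain ⟨y, rfl⟩ := (toTwist k f).surjective x
    show toTwist k f ((toTwist k f).symm (toTwist k f y) * ψ 1) = _
    rw [LinearEquiv.symm_apply_apply, ← hl]
    exact LinearEquiv.apply_symm_apply _ _

/-- The centralizer theorem: the centralizer of a simple subalgebra is simple, and dimensions
multiply. -/
theorem centralizer_isSimpleRing_and_finrank :
    IsSimpleRing (Subalgebra.centralizer k (f.range : Set A)) ∧
      Module.finrank k B * Module.finrank k (Subalgebra.centralizer k (f.range : Set A)) =
        Module.finrank k A := by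
  have := isSimpleRing_twistRing k (A := A) (B := B)
  have := finite_twistRing k f
  have : Nontrivial (Twist k f) := inferInstanceAs (Nontrivial A)
  obtain ⟨h1, h2⟩ := moduleEnd_isSimpleRing_and_finrank k (A ⊗[k] Bᵐᵒᵖ) (Twist k f)
  obtain ⟨e⟩ := nonempty_twistEnd_algEquiv k f
  have h3 : IsSimpleRing (Subalgebra.centralizer k (f.range : Set A))ᵐᵒᵖ :=
    IsSimpleRing.of_ringEquiv e.symm.toRingEquiv h1
  refine ⟨IsSimpleRing.of_ringEquiv (RingEquiv.opOp _).symm inferInstance, ?_⟩
  rw [← e.toLinearEquiv.finrank_eq, ← (MulOpposite.opLinearEquiv k).finrank_eq,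
    Module.finrank_tensorProduct, ← (MulOpposite.opLinearEquiv k (M := B)).finrank_eq,
    ← (toTwist k f).finrank_eq] at h2
  have hA : 0 < Module.finrank k A := Module.finrank_pos
  refine Nat.eq_of_mul_eq_mul_left hA ?_
  rw [← h2]
  ring

/-- The double centralizer theorem. -/
theorem centralizer_centralizer :
    Subalgebra.centralizer k ((Subalgebra.centralizer k (f.range : Set A) : Subalgebra k A) : Set A) =
      f.range := by
  obtain ⟨hs, h1⟩ := centralizer_isSimpleRing_and_finrank k f
  set C := Subalgebra.centralizer k (f.range : Set A) with hC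
  obtain ⟨-, h2⟩ := centralizer_isSimpleRing_and_finrank k C.val
  rw [Subalgebra.range_val] at h2
  symm
  refine Subalgebra.eq_of_le_of_finrank_eq ?_ ?_
  · intro x hx
    rw [Subalgebra.mem_centralizer_iff]
    intro y hy
    exact ((Subalgebra.mem_centralizer_iff k).1 hy x hx).symm
  · have hB : Module.finrank k f.range = Module.finrank k B :=
      (LinearEquiv.ofInjective f.toLinearMap (RingHom.injective f.toRingHom)).finrank_eq.symm
    have hC0 : 0 < Module.finrank k C := Module.finrank_pos
    rw [hB]
    refine Nat.eq_of_mul_eq_mul_left hC0 ?_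
    rw [h2, ← h1, mul_comm]

end Groth.Agent.CSALib
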