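import Groth.Agent.CSALib.BaseChange
import Groth.Agent.CSALib.SkolemNoether
import Mathlib.FieldTheory.JacobsonNoether
import Mathlib.FieldTheory.IsSepClosed
import Mathlib.FieldTheory.SeparableDegree
import Mathlib.FieldTheory.PrimitiveElement
import Mathlib.FieldTheory.IntermediateField.Adjoin.Basic
import Mathlib.FieldTheory.Minpoly.Finite
import Mathlib.FieldTheory.Galois.Basic
import Mathlib.FieldTheory.Normal.Closure
import Mathlib.LinearAlgebra.Matrix.ToLin
import Mathlib.LinearAlgebra.FiniteDimensional.Basic
import Mathlib.RingTheory.AdjoinRoot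

/-!
Splitting fields of central simple algebras.
-/

universe u v w x

namespace Groth.Agent.CSALib

set_option linter.style.haveILetI false

open TensorProduct Polynomial

variable (k : Type u) [Field k]

section SepClosed

/-- A central division algebra over a separably closed field is trivial. -/
theorem bot_eq_top_of_isSepClosed [IsSepClosed k] (D : Type v) [DivisionRing D] [Algebra k D]
    [Algebra.IsCentral k D] [Module.Finite k D] : (⊥ : Subalgebra k D) = ⊤ := by
  by_contra hne
  have : Algebra.IsAlgebraic k D := Algebra.IsAlgebraic.of_finite k D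
  obtain ⟨x, hx, hsep⟩ := JacobsonNoether.exists_separable_and_not_isCentral' (L := k) hne
  have hi : IsIntegral k x := Algebra.IsIntegral.isIntegral x
  have hd := IsSepClosed.degree_eq_one_of_irreducible k (minpoly.irreducible hi) hsep
  obtain ⟨r, hr⟩ := minpoly.degree_eq_one_iff.1 hd
  exact hx (Algebra.mem_bot.2 ⟨r, hr⟩)

/-- Central simple algebras over a separably closed field are split. -/
theorem exists_algEquiv_matrix_of_isSepClosed [IsSepClosed k] (A : Type v) [Ring A] [Algebra k A]
    [Algebra.IsCentral k A] [IsSimpleRing A] [FiniteDimensional k A] :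
    ∃ (n : ℕ) (_ : NeZero n), Nonempty (A ≃ₐ[k] Matrix (Fin n) (Fin n) k) := by
  obtain ⟨n, hn, D, _, _, _, _, ⟨e⟩⟩ := exists_division k A
  have h := bot_eq_top_of_isSepClosed k D
  exact ⟨n, hn, ⟨e.trans (AlgEquiv.mapMatrix (((Algebra.botEquiv k D).symm.trans
    ((Subalgebra.equivOfEq _ _ h).trans Subalgebra.topEquiv)).symm))⟩⟩

end SepClosed

section MaximalSubfield

/-- Sending the root to `x`. -/
noncomputable def adjoinRootHom {D : Type v} [Ring D] [Algebra k D] (x : D) :
    AdjoinRoot (minpoly k x) →ₐ[k] D :=
  Ideal.Quotient.liftₐ (Ideal.span {minpoly k x}) (aeval x) fun a ha => by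
    obtain ⟨b, rfl⟩ := Ideal.mem_span_singleton'.1 ha
    simp [minpoly.aeval]

lemma adjoinRootHom_root {D : Type v} [Ring D] [Algebra k D] (x : D) :
    adjoinRootHom k x (AdjoinRoot.root (minpoly k x)) = x := by
  show Polynomial.aeval x (X : k[X]) = x
  simp

/-- An extension generated by a root of a separable irreducible polynomial is separable. -/
lemma isSeparable_adjoinRoot {F : Type w} [Field F] (p : F[X]) [Fact (Irreducible p)]
    (hp : p.Separable) : Algebra.IsSeparable F (AdjoinRoot p) := by
  have hp0 : p ≠ 0 := (Fact.out (p := Irreducible p)).ne_zero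
  have h : IsSeparable F (AdjoinRoot.root p) := by
    unfold IsSeparable
    rw [AdjoinRoot.minpoly_root hp0]
    exact hp.mul_unit (isUnit_C.2 (by simp [hp0]))
  have := (IntermediateField.isSeparable_adjoin_simple_iff_isSeparable F (AdjoinRoot p)).2 h
  rw [IntermediateField.adjoin_root_eq_top] at this
  exact AlgEquiv.Algebra.isSeparable IntermediateField.topEquiv

/-- A central division algebra contains a separable subfield which is its own centralizer. -/
theorem exists_separable_maximal_subfield (D : Type v) [DivisionRing D] [Algebra k D]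
    [Algebra.IsCentral k D] [Module.Finite k D] :
    ∃ (F : Type u) (_ : Field F) (_ : Algebra k F) (f : F →ₐ[k] D),
      Algebra.IsSeparable k F ∧ Module.Finite k F ∧
        Subalgebra.centralizer k (f.range : Set D) = f.range := by
  classical
  let P : ℕ → Prop := fun m => ∃ x : D, IsSeparable k x ∧ (minpoly k x).natDegree = m
  have hP1 : P 1 := ⟨1, by
    unfold IsSeparable
    rw [minpoly.one]; exact ⟨separable_X_sub_C, natDegree_X_sub_C 1⟩⟩
  have hbd : ∀ m, P m → m ≤ Module.finrank k D := fun m ⟨x, _, hm⟩ => hm ▸ minpoly.natDegree_le x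
  let m := Nat.findGreatest P (Module.finrank k D)
  obtain ⟨x, hxsep, hxdeg⟩ : P m := Nat.findGreatest_spec (hbd 1 hP1) hP1
  have hmax : ∀ y : D, IsSeparable k y → (minpoly k y).natDegree ≤ (minpoly k x).natDegree :=
    fun y hy => hxdeg ▸ Nat.le_findGreatest (hbd _ ⟨y, hy, rfl⟩) ⟨y, hy, rfl⟩
  have hi : IsIntegral k x := Algebra.IsIntegral.isIntegral x
  haveI : Fact (Irreducible (minpoly k x)) := ⟨minpoly.irreducible hi⟩
  let f := adjoinRootHom k x
  haveI hFfin : Module.Finite k (AdjoinRoot (minpoly k x)) := (minpoly.monic hi).finite_adjoinRoot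
  haveI hFsep : Algebra.IsSeparable k (AdjoinRoot (minpoly k x)) := isSeparable_adjoinRoot _ hxsep
  refine ⟨AdjoinRoot (minpoly k x), inferInstance, inferInstance, f, hFsep, hFfin, ?_⟩
  set F := AdjoinRoot (minpoly k x) with hF
  set C := Subalgebra.centralizer k (f.range : Set D) with hC
  have hfC : f.range ≤ C := by
    rintro _ ⟨a, rfl⟩
    refine (Subalgebra.mem_centralizer_iff k).2 ?_
    rintro _ ⟨b, rfl⟩
    show f b * f a = f a * f b
    rw [← map_mul, ← map_mul, mul_comm]
  by_contra hne
  let i : F →ₐ[k] C := AlgHom.codRestrict f C fun a => hfC ⟨a, rfl⟩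
  have hcomm : ∀ a (c : C), i a * c = c * i a := fun a c => Subtype.ext
    ((Subalgebra.mem_centralizer_iff k).1 c.2 (f a) ⟨a, rfl⟩)
  letI : Algebra F C := RingHom.toAlgebra' i.toRingHom hcomm
  haveI : IsScalarTower k F C := IsScalarTower.of_algebraMap_eq fun r => (i.commutes r).symm
  haveI : Module.Finite F C := Module.Finite.of_restrictScalars_finite k F C
  haveI : IsDomain C := inferInstance
  letI : DivisionRing C := divisionRingOfFiniteDimensional k C
  haveI : Algebra.IsCentral F C := ⟨fun z hz => by
    have h1 : (z : D) ∈ Subalgebra.centralizer k (C : Set D) :=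
      (Subalgebra.mem_centralizer_iff k).2 fun c hc =>
        congrArg Subtype.val (Subalgebra.mem_center_iff.1 hz ⟨c, hc⟩)
    have hcc : Subalgebra.centralizer k (C : Set D) = f.range := centralizer_centralizer k f
    rw [hcc] at h1
    obtain ⟨a, ha⟩ := h1
    exact Algebra.mem_bot.2 ⟨a, Subtype.ext ha⟩⟩
  have : Algebra.IsAlgebraic F C := Algebra.IsAlgebraic.of_finite F C
  have hnb : (⊥ : Subalgebra F C) ≠ ⊤ := fun h => hne (le_antisymm (fun c hc => by
    obtain ⟨a, ha⟩ := Algebra.mem_bot.1 (h ▸ Algebra.mem_top : (⟨c, hc⟩ : C) ∈ (⊥ : Subalgebra F C))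
    exact ⟨a, congrArg Subtype.val ha⟩) hfC)
  obtain ⟨y, hy, hysep⟩ := JacobsonNoether.exists_separable_and_not_isCentral' (L := F) hnb
  have hyi : IsIntegral F y := Algebra.IsIntegral.isIntegral y
  haveI : Fact (Irreducible (minpoly F y)) := ⟨minpoly.irreducible hyi⟩
  haveI : Module.Finite F (AdjoinRoot (minpoly F y)) := (minpoly.monic hyi).finite_adjoinRoot
  haveI : Module.Finite k (AdjoinRoot (minpoly F y)) := Module.Finite.trans F _
  haveI := isSeparable_adjoinRoot _ hysep
  haveI : Algebra.IsSeparable k (AdjoinRoot (minpoly F y)) := Algebra.IsSeparable.trans k F _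
  obtain ⟨z, hz⟩ := Field.exists_primitive_element k (AdjoinRoot (minpoly F y))
  let g : AdjoinRoot (minpoly F y) →ₐ[k] D :=
    C.val.comp ((adjoinRootHom F y).restrictScalars k)
  have hdz : (minpoly k (g z)).natDegree = Module.finrank k (AdjoinRoot (minpoly F y)) := by
    rw [minpoly.algHom_eq g (RingHom.injective g.toRingHom),
      ← IntermediateField.adjoin.finrank (Algebra.IsIntegral.isIntegral z), hz,
      IntermediateField.finrank_top']
  have hsz : IsSeparable k (g z) := by
    unfold IsSeparable
    rw [minpoly.algHom_eq g (RingHom.injective g.toRingHom)]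
    exact Algebra.IsSeparable.isSeparable k z
  have h2 := hmax _ hsz
  rw [hdz, ← Module.finrank_mul_finrank k F (AdjoinRoot (minpoly F y)),
    PowerBasis.finrank (AdjoinRoot.powerBasis (minpoly.ne_zero hyi)), AdjoinRoot.powerBasis_dim,
    show Module.finrank k F = (minpoly k x).natDegree from
      (PowerBasis.finrank (AdjoinRoot.powerBasis (minpoly.ne_zero hi))).trans
        (AdjoinRoot.powerBasis_dim _)] at h2
  have hpos : 0 < (minpoly k x).natDegree := minpoly.natDegree_pos hi
  have hy1 : (minpoly F y).natDegree ≠ 1 := fun h => hy (Algebra.mem_bot.2 <|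
    minpoly.degree_eq_one_iff.1 (by rw [degree_eq_natDegree (minpoly.ne_zero hyi), h]; rfl))
  have hy0 : 0 < (minpoly F y).natDegree := minpoly.natDegree_pos hyi
  have h2y : 2 ≤ (minpoly F y).natDegree := by omega
  nlinarith

end MaximalSubfield

section SelfCentralizing

variable (A : Type v) [Ring A] [Algebra k A] [Algebra.IsCentral k A] [IsSimpleRing A]
  [FiniteDimensional k A]

/-- A subfield which is its own centralizer splits the algebra. -/
theorem exists_algEquiv_matrix_of_centralizer_eq {F : Type w} [Field F] [Algebra k F]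
    (f : F →ₐ[k] A) (hf : Subalgebra.centralizer k (f.range : Set A) = f.range) :
    ∃ (n : ℕ) (_ : NeZero n), Nonempty (F ⊗[k] A ≃ₐ[F] Matrix (Fin n) (Fin n) F) ∧
      n = Module.finrank k F := by
  have hFfin : Module.Finite k F := finite_of_algHom k f
  letI : Module F A :=
    { smul := fun x a => a * f x
      mul_smul := fun x y a => by
        show a * f (x * y) = a * f y * f x
        rw [mul_comm x y, map_mul, mul_assoc]
      one_smul := fun a => by show a * f 1 = a; rw [map_one, mul_one]
      smul_zero := fun x => zero_mul (f x)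
      smul_add := fun x a b => add_mul a b (f x)
      add_smul := fun x y a => by show a * f (x + y) = a * f x + a * f y; rw [map_add, mul_add]
      zero_smul := fun a => by show a * f 0 = 0; rw [map_zero, mul_zero] }
  have hsm : ∀ (x : F) (a : A), x • a = a * f x := fun _ _ => rfl
  haveI : IsScalarTower k F A := ⟨fun c x a => by rw [hsm, hsm, map_smul, mul_smul_comm]⟩
  haveI : Module.Finite F A := Module.Finite.of_restrictScalars_finite k F A
  haveI : SMulCommClass F k A := ⟨fun x c a => by rw [hsm, hsm, smul_mul_assoc]⟩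
  let L : A →ₐ[k] Module.End F A :=
    { toFun := fun a =>
        { toFun := fun b => a * b
          map_add' := mul_add a
          map_smul' := fun x b => by simp [hsm, mul_assoc] }
      map_one' := LinearMap.ext one_mul
      map_mul' := fun a b => LinearMap.ext (mul_assoc a b)
      map_zero' := LinearMap.ext zero_mul
      map_add' := fun a b => LinearMap.ext fun c => add_mul a b c
      commutes' := fun r => LinearMap.ext fun b => by
        show algebraMap k A r * b = _
        simp [Algebra.smul_def] }
  let φ : F ⊗[k] A →ₐ[F] Module.End F A :=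
    Algebra.TensorProduct.lift (Algebra.ofId F _) L fun x a => Algebra.commutes x (L a)
  haveI := isSimpleRing_baseChange k A F
  have hinj : Function.Injective φ := RingHom.injective φ.toRingHom
  have hd : Module.finrank k F * Module.finrank k F = Module.finrank k A := by
    have h := (centralizer_isSimpleRing_and_finrank k f).2
    have h' : Module.finrank k (Subalgebra.centralizer k (f.range : Set A)) =
        Module.finrank k F := by
      rw [hf]
      exact (LinearEquiv.ofInjective f.toLinearMap (RingHom.injective f.toRingHom)).finrank_eq.symm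
    rwa [h'] at h
  have hpos : 0 < Module.finrank k F := Module.finrank_pos
  have hA : Module.finrank F A = Module.finrank k F := by
    have h := Module.finrank_mul_finrank k F A
    rw [← hd] at h
    exact Nat.eq_of_mul_eq_mul_left hpos h
  have hdim : Module.finrank F (F ⊗[k] A) = Module.finrank F (Module.End F A) := by
    rw [Module.finrank_baseChange, Module.finrank_linearMap, hA, hd]
  have hsurj : Function.Surjective φ :=
    (LinearMap.injective_iff_surjective_of_finrank_eq_finrank hdim (f := φ.toLinearMap)).1 hinj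
  exact ⟨Module.finrank k F, ⟨hpos.ne'⟩,
    ⟨(AlgEquiv.ofBijective φ ⟨hinj, hsurj⟩).trans
      (algEquivMatrix ((Module.finBasis F A).reindex (finCongr hA)))⟩, rfl⟩

end SelfCentralizing

section Monotone

variable {k} {A : Type v} [Ring A] [Algebra k A] {K : Type w} [Field K] [Algebra k K]
  (L : Type x) [Field L] [Algebra k L] [Algebra K L] [IsScalarTower k K L] {n : ℕ}

/-- A matrix algebra base changes to a matrix algebra. -/
noncomputable def baseChangeMatrixSelf (K : Type w) [Field K] (L : Type x) [Field L] [Algebra K L]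
    (n : ℕ) : L ⊗[K] Matrix (Fin n) (Fin n) K ≃ₐ[L] Matrix (Fin n) (Fin n) L :=
  (baseChangeMatrix K K L (Fin n)).trans
    (AlgEquiv.mapMatrix (Algebra.TensorProduct.rid K L L))

/-- The cancellation of base change for a noncommutative algebra. -/
noncomputable def cancelBase : L ⊗[K] (K ⊗[k] A) ≃ₐ[L] L ⊗[k] A :=
  AlgEquiv.symm <| AlgEquiv.ofLinearEquiv
    (TensorProduct.AlgebraTensorModule.cancelBaseChange k K L L A).symm
    (by simp [Algebra.TensorProduct.one_def]) <|
      LinearMap.map_mul_of_map_mul_tmul (fun _ _ _ _ ↦ by simp)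

/-- Splitting is monotone in the field. -/
noncomputable def splitTrans (e : K ⊗[k] A ≃ₐ[K] Matrix (Fin n) (Fin n) K) :
    L ⊗[k] A ≃ₐ[L] Matrix (Fin n) (Fin n) L :=
  ((cancelBase (k := k) (A := A) (K := K) L).symm.trans
    (Algebra.TensorProduct.congr AlgEquiv.refl e)).trans (baseChangeMatrixSelf K L n)

end Monotone

section Galois

variable (A : Type v) [Ring A] [Algebra k A] [Algebra.IsCentral k A] [IsSimpleRing A]
  [FiniteDimensional k A]

/-- A central simple algebra has a finite separable splitting field. -/
theorem exists_separable_splitting :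
    ∃ (F : Type u) (_ : Field F) (_ : Algebra k F) (n : ℕ) (_ : NeZero n),
      Algebra.IsSeparable k F ∧ Module.Finite k F ∧
        Nonempty (F ⊗[k] A ≃ₐ[F] Matrix (Fin n) (Fin n) F) := by
  obtain ⟨m, hm, D, _, _, _, _, ⟨e⟩⟩ := exists_division k A
  obtain ⟨F, _, _, f, hsep, hfin, hf⟩ := exists_separable_maximal_subfield k D
  obtain ⟨d, hd, ⟨e'⟩, -⟩ := exists_algEquiv_matrix_of_centralizer_eq k D f hf
  exact ⟨F, ‹_›, ‹_›, m * d, ⟨Nat.mul_ne_zero hm.out hd.out⟩, hsep, hfin,
    ⟨(Algebra.TensorProduct.congr AlgEquiv.refl e).trans ((baseChangeMatrix k D F (Fin m)).trans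
      (e'.mapMatrix.trans (matrixMatrix F F m d)))⟩⟩

/-- A central simple algebra has a finite Galois splitting field. -/
theorem exists_galois_splitting :
    ∃ (L : Type u) (_ : Field L) (_ : Algebra k L) (n : ℕ) (_ : NeZero n),
      IsGalois k L ∧ Module.Finite k L ∧
        Nonempty (L ⊗[k] A ≃ₐ[L] Matrix (Fin n) (Fin n) L) := by
  obtain ⟨F, _, _, n, hn, hsep, hfin, ⟨e⟩⟩ := exists_separable_splitting k A
  let σ : F →ₐ[k] SeparableClosure k := IsSepClosed.lift
  letI : Algebra F (SeparableClosure k) := σ.toRingHom.toAlgebra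
  haveI : IsScalarTower k F (SeparableClosure k) :=
    IsScalarTower.of_algebraMap_eq fun r => (σ.commutes r).symm
  let L := IntermediateField.normalClosure k F (SeparableClosure k)
  exact ⟨L, inferInstance, inferInstance, n, hn, inferInstance, inferInstance, ⟨splitTrans L e⟩⟩

end Galois

end Groth.Agent.CSALib
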