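import Groth.Agent.CSALib.Basic
import Groth.Agent.CSALib.Modules
import Mathlib.Algebra.Algebra.Subalgebra.Centralizer
import Mathlib.Algebra.Central.Matrix
import Mathlib.RingTheory.MatrixAlgebra
import Mathlib.Data.Matrix.Composition
import Mathlib.LinearAlgebra.Matrix.Reindex
import Mathlib.RingTheory.TensorProduct.Maps
import Mathlib.RingTheory.TensorProduct.Finite
import Mathlib.RingTheory.SimpleModule.IsAlgClosed
import Mathlib.FieldTheory.IsAlgClosed.AlgebraicClosure

/-!
Base change and tensor products of central simple algebras; matrices.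
-/

universe u v w

namespace Groth.Agent.CSALib

open TensorProduct

variable (k : Type u) [Field k] (A : Type v) [Ring A] [Algebra k A]

/-- A base change of a central algebra is central. -/
theorem isCentral_baseChange [Algebra.IsCentral k A] (K : Type w) [CommRing K] [Algebra k K] :
    Algebra.IsCentral K (K ⊗[k] A) where
  out x hx := by
    have h : x ∈ Subalgebra.centralizer k
        ((Algebra.TensorProduct.includeRight : A →ₐ[k] K ⊗[k] A).range : Set (K ⊗[k] A)) :=
      (Subalgebra.mem_centralizer_iff k).2 fun g _ => Subalgebra.mem_center_iff.1 hx g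
    rw [Subalgebra.centralizer_range_includeRight_eq_center_tensorProduct] at h
    obtain ⟨t, rfl⟩ := h
    clear hx
    induction t with
    | zero => simp
    | tmul c z =>
      obtain ⟨r, hr⟩ := Algebra.IsCentral.out (K := k) (D := A) z.2
      refine Algebra.mem_bot.2 ⟨r • c, ?_⟩
      have hz : (z : A) = r • (1 : A) := by rw [← Algebra.algebraMap_eq_smul_one]; exact hr.symm
      simp only [AlgHom.toRingHom_eq_coe, RingHom.coe_coe, Algebra.TensorProduct.map_tmul,
        AlgHom.coe_id, id_eq, Subalgebra.coe_val, hz, Algebra.TensorProduct.algebraMap_apply,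
        Algebra.algebraMap_self_apply, TensorProduct.smul_tmul]
    | add s t hs ht => rw [map_add]; exact add_mem hs ht

/-- A base change of a central simple algebra is simple. -/
theorem isSimpleRing_baseChange [Algebra.IsCentral k A] [IsSimpleRing A] (K : Type w) [Field K]
    [Algebra k K] : IsSimpleRing (K ⊗[k] A) :=
  IsSimpleRing.of_ringEquiv (Algebra.TensorProduct.comm k A K).toRingEquiv
    (isSimpleRing_tensorProduct k A K)

/-- A tensor product of central algebras is central. -/
theorem isCentral_tensorProduct [Algebra.IsCentral k A] (B : Type w) [Ring B] [Algebra k B]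
    [Algebra.IsCentral k B] [Nontrivial B] : Algebra.IsCentral k (A ⊗[k] B) where
  out x hx := by
    have h : x ∈ Subalgebra.centralizer k
        ((Algebra.TensorProduct.includeRight : B →ₐ[k] A ⊗[k] B).range : Set (A ⊗[k] B)) :=
      (Subalgebra.mem_centralizer_iff k).2 fun g _ => Subalgebra.mem_center_iff.1 hx g
    rw [Subalgebra.centralizer_range_includeRight_eq_center_tensorProduct] at h
    obtain ⟨a, rfl⟩ : ∃ a : A, x = a ⊗ₜ[k] (1 : B) := by
      obtain ⟨t, rfl⟩ := h
      clear hx
      induction t with
      | zero => exact ⟨0, by simp⟩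
      | tmul c z =>
        obtain ⟨r, hr⟩ := Algebra.IsCentral.out (K := k) (D := B) z.2
        have hz : (z : B) = r • (1 : B) := by rw [← Algebra.algebraMap_eq_smul_one]; exact hr.symm
        exact ⟨r • c, by simp [hz, TensorProduct.smul_tmul]⟩
      | add s t hs ht =>
        obtain ⟨a, ha⟩ := hs
        obtain ⟨b, hb⟩ := ht
        exact ⟨a + b, by rw [map_add, ha, hb, TensorProduct.add_tmul]⟩
    have ha : a ∈ Subalgebra.center k A := Subalgebra.mem_center_iff.2 fun a' => by
      refine Algebra.TensorProduct.includeLeft_injective (R := k) (S := k) (A := A) (B := B)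
        (algebraMap k B).injective ?_
      simpa using Subalgebra.mem_center_iff.1 hx (a' ⊗ₜ[k] (1 : B))
    obtain ⟨r, hr⟩ := Algebra.IsCentral.out ha
    refine Algebra.mem_bot.2 ⟨r, ?_⟩
    rw [← hr]
    simp [Algebra.TensorProduct.algebraMap_apply]

/-- The dimension of a central simple algebra is a square. -/
theorem exists_finrank_eq_sq [Algebra.IsCentral k A] [IsSimpleRing A] [FiniteDimensional k A] :
    ∃ n : ℕ, 0 < n ∧ Module.finrank k A = n ^ 2 := by
  have := isSimpleRing_baseChange k A (AlgebraicClosure k)
  obtain ⟨n, hn, ⟨e⟩⟩ := IsSimpleRing.exists_algEquiv_matrix_of_isAlgClosed (AlgebraicClosure k)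
    (AlgebraicClosure k ⊗[k] A)
  refine ⟨n, Nat.pos_of_ne_zero hn.out, ?_⟩
  have h := e.toLinearEquiv.finrank_eq
  rw [Module.finrank_baseChange, Module.finrank_matrix] at h
  simp [h, pow_two]

/-- If a matrix algebra over `D` is central, so is `D`. -/
theorem isCentral_of_matrix {D : Type w} [Ring D] [Algebra k D] {n : ℕ} [NeZero n]
    [Algebra.IsCentral k (Matrix (Fin n) (Fin n) D)] : Algebra.IsCentral k D where
  out z hz := by
    have h : Matrix.scalar (Fin n) z ∈ Subalgebra.center k (Matrix (Fin n) (Fin n) D) := by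
      rw [Matrix.subalgebraCenter_eq_scalarAlgHom_map]
      exact ⟨z, hz, rfl⟩
    obtain ⟨r, hr⟩ := Algebra.IsCentral.out h
    refine Algebra.mem_bot.2 ⟨r, ?_⟩
    have := congrFun (congrFun (show algebraMap k (Matrix (Fin n) (Fin n) D) r = _ from hr) 0) 0
    simpa [Matrix.algebraMap_matrix_apply] using this

/-- A central simple algebra is a matrix algebra over a central division algebra. -/
theorem exists_division [Algebra.IsCentral k A] [IsSimpleRing A] [FiniteDimensional k A] :
    ∃ (n : ℕ) (_ : NeZero n) (D : Type v) (_ : DivisionRing D) (_ : Algebra k D),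
      Algebra.IsCentral k D ∧ Module.Finite k D ∧
        Nonempty (A ≃ₐ[k] Matrix (Fin n) (Fin n) D) := by
  have := IsArtinianRing.of_finite k A
  obtain ⟨n, hn, D, _, _, hfin, ⟨e⟩⟩ :=
    IsSimpleRing.exists_algEquiv_matrix_divisionRing_finite k A
  have : Algebra.IsCentral k (Matrix (Fin n) (Fin n) D) := Algebra.IsCentral.of_algEquiv k A _ e
  exact ⟨n, hn, D, ‹_›, ‹_›, isCentral_of_matrix k (n := n), hfin, ⟨e⟩⟩

/-- Base change commutes with matrices. -/
noncomputable def baseChangeMatrix (K : Type w) [CommRing K] [Algebra k K] (n : Type*)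
    [Fintype n] [DecidableEq n] :
    K ⊗[k] Matrix n n A ≃ₐ[K] Matrix n n (K ⊗[k] A) :=
  AlgEquiv.ofRingEquiv
    (f := ((Algebra.TensorProduct.congr AlgEquiv.refl (matrixEquivTensor n k A)).trans
      ((Algebra.TensorProduct.assoc k k k K A (Matrix n n k)).symm.trans
        (matrixEquivTensor n k (K ⊗[k] A)).symm)).toRingEquiv)
    (fun c => by
      have h1 : algebraMap K (K ⊗[k] Matrix n n A) c = c ⊗ₜ[k] (1 : Matrix n n A) := rfl
      rw [h1]
      show (matrixEquivTensor n k (K ⊗[k] A)).symm ((Algebra.TensorProduct.assoc k k k K A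
        (Matrix n n k)).symm (c ⊗ₜ[k] (matrixEquivTensor n k A (1 : Matrix n n A)))) = _
      rw [map_one, Algebra.TensorProduct.one_def, Algebra.TensorProduct.assoc_symm_tmul,
        matrixEquivTensor_apply_symm]
      ext i j
      by_cases h : i = j <;>
        simp [Matrix.algebraMap_matrix_apply, Algebra.TensorProduct.algebraMap_apply, h])

/-- Matrices of matrices. -/
noncomputable def matrixMatrix (R : Type v) [Ring R] [Algebra k R] (m d : ℕ) :
    Matrix (Fin m) (Fin m) (Matrix (Fin d) (Fin d) R) ≃ₐ[k]
      Matrix (Fin (m * d)) (Fin (m * d)) R :=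
  (Matrix.compAlgEquiv (Fin m) (Fin d) R k).trans (Matrix.reindexAlgEquiv k R finProdFinEquiv)

end Groth.Agent.CSALib
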