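import Groth.Agent.CSALib.FactorSet
import Groth.Prelude.Def_GSzCSA
import Mathlib.FieldTheory.Galois.Basic
import Mathlib.GroupTheory.Sylow
import Mathlib.LinearAlgebra.Dimension.Finrank
import Mathlib.LinearAlgebra.FreeModule.Finite.Matrix

/-!
Index and period of central simple algebras.
-/

universe u v w x y

namespace Groth.Agent.CSALib

open TensorProduct

variable {k : Type u} [Field k]

section BaseChange

variable {A : Type v} [Ring A] [Algebra k A] {B : Type w} [Ring B] [Algebra k B]
  (K : Type x) [Field K] [Algebra k K]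

/-- Base change commutes with tensor products of algebras. -/
noncomputable def baseChangeTensor : K ⊗[k] (A ⊗[k] B) ≃ₐ[K] (K ⊗[k] A) ⊗[K] (K ⊗[k] B) :=
  AlgEquiv.ofLinearEquiv (TensorProduct.AlgebraTensorModule.distribBaseChange k K A B)
    (by simp [Algebra.TensorProduct.one_def])
    (LinearMap.map_mul_of_map_mul_tmul fun c₁ c₂ x y => by
      induction x using TensorProduct.induction_on with
      | zero => simp
      | add a b ha hb => simp only [tmul_add, map_add, add_mul, ha, hb]
      | tmul a b =>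
        induction y using TensorProduct.induction_on with
        | zero => simp
        | add a' b' ha hb => simp only [tmul_add, map_add, mul_add, ha, hb]
        | tmul a' b' => simp [TensorProduct.AlgebraTensorModule.distribBaseChange_tmul])

/-- Base change commutes with tensor powers up to similarity. -/
theorem similar_baseChange_pow (e : ℕ) :
    Similar K (K ⊗[k] (⨂[k] _i : Fin e, A)) (⨂[K] _i : Fin e, (K ⊗[k] A)) := by
  induction e with
  | zero =>
    exact (similar_of_algEquiv ((Algebra.TensorProduct.congr AlgEquiv.refl (powZero k A)).trans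
      (Algebra.TensorProduct.rid k K K))).trans (similar_of_algEquiv (powZero K (K ⊗[k] A)).symm)
  | succ e ih =>
    exact (similar_of_algEquiv ((Algebra.TensorProduct.congr AlgEquiv.refl (powSucc k A e)).trans
      (baseChangeTensor K))).trans ((similar_refl.tensor ih).trans
        (similar_of_algEquiv (powSucc K (K ⊗[k] A) e).symm))

variable {K}

theorem similar_pow_self (e : ℕ) : Similar k (⨂[k] _i : Fin e, k) k := by
  induction e with
  | zero => exact similar_of_algEquiv (powZero k k)
  | succ e ih =>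
    exact (similar_of_algEquiv (powSucc k k e)).trans
      ((similar_refl.tensor ih).trans similar_tensor_self_left)

/-- A splitting field of `A` splits its tensor powers. -/
theorem Similar.baseChange_pow (h : Similar K (K ⊗[k] A) K) (e : ℕ) :
    Similar K (K ⊗[k] (⨂[k] _i : Fin e, A)) K :=
  (similar_baseChange_pow K e).trans ((h.pow e).trans (similar_pow_self e))

/-- Splitting is monotone in the field. -/
theorem Similar.splitMono (L : Type y) [Field L] [Algebra k L] [Algebra K L] [IsScalarTower k K L]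
    (h : Similar K (K ⊗[k] A) K) : Similar L (L ⊗[k] A) L :=
  (similar_of_algEquiv (cancelBase (k := k) (A := A) (K := K) L).symm).trans
    ((h.baseChange L).trans (similar_of_algEquiv (Algebra.TensorProduct.rid K L L)))

end BaseChange

section Pow

variable {A : Type v} [Ring A] [Algebra k A]

theorem similar_pow_mul (a b : ℕ) :
    Similar k (⨂[k] _i : Fin (a * b), A) (⨂[k] _i : Fin b, (⨂[k] _i : Fin a, A)) := by
  induction b with
  | zero =>
    exact similar_of_algEquiv ((powZero k A).trans (powZero k _).symm)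
  | succ b ih =>
    rw [Nat.mul_succ, Nat.add_comm]
    exact (similar_pow_add k A a (a * b)).trans ((similar_refl.tensor ih).trans
      (similar_of_algEquiv (powSucc k _ b).symm))

theorem pow_mul_split {a : ℕ} (h : Similar k (⨂[k] _i : Fin a, A) k) (b : ℕ) :
    Similar k (⨂[k] _i : Fin (a * b), A) k :=
  (similar_pow_mul a b).trans ((h.pow b).trans (similar_pow_self b))

theorem pow_add_split_iff {a : ℕ} (h : Similar k (⨂[k] _i : Fin a, A) k) (b : ℕ) :
    Similar k (⨂[k] _i : Fin (a + b), A) k ↔ Similar k (⨂[k] _i : Fin b, A) k := by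
  have e : Similar k (⨂[k] _i : Fin (a + b), A) (⨂[k] _i : Fin b, A) :=
    (similar_pow_add k A a b).trans ((h.tensor similar_refl).trans similar_tensor_self_left)
  exact ⟨fun h' => e.symm.trans h', fun h' => e.trans h'⟩

/-- The exponents killing the class form the multiples of the least positive one. -/
theorem pow_split_iff_dvd {e : ℕ} (he : 0 < e) (h : Similar k (⨂[k] _i : Fin e, A) k)
    (hmin : ∀ e', 0 < e' → e' < e → ¬ Similar k (⨂[k] _i : Fin e', A) k) (m : ℕ) :
    Similar k (⨂[k] _i : Fin m, A) k ↔ e ∣ m := by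
  constructor
  · intro hm
    rw [← Nat.div_add_mod m e, pow_add_split_iff (pow_mul_split h _)] at hm
    by_contra hnd
    exact hmin (m % e) (Nat.pos_of_ne_zero fun h0 => hnd (Nat.dvd_of_mod_eq_zero h0))
      (Nat.mod_lt m he) hm
  · rintro ⟨c, rfl⟩
    exact pow_mul_split h c

theorem exists_least_pow {e : ℕ} (he : 0 < e) (h : Similar k (⨂[k] _i : Fin e, A) k) :
    ∃ p, 0 < p ∧ p ∣ e ∧ ∀ m, Similar k (⨂[k] _i : Fin m, A) k ↔ p ∣ m := by
  classical
  have hex : ∃ p, 0 < p ∧ Similar k (⨂[k] _i : Fin p, A) k := ⟨e, he, h⟩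
  have hp := Nat.find_spec hex
  have hiff := pow_split_iff_dvd hp.1 hp.2 fun e' h1 h2 h3 => Nat.find_min hex h2 ⟨h1, h3⟩
  exact ⟨Nat.find hex, hp.1, (hiff e).mp h, hiff⟩

theorem pow_gcd_split {a b : ℕ} (ha : 0 < a) (hA : Similar k (⨂[k] _i : Fin a, A) k)
    (hB : Similar k (⨂[k] _i : Fin b, A) k) : Similar k (⨂[k] _i : Fin (Nat.gcd a b), A) k := by
  obtain ⟨p, -, hpa, hp⟩ := exists_least_pow ha hA
  exact (hp _).mpr (Nat.dvd_gcd hpa ((hp b).mp hB))

end Pow

section Index

variable {A : Type v} [Ring A] [Algebra k A]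

theorem exists_isIndex (k : Type u) [Field k] (A : Type v) [Ring A] [Algebra k A]
    [Algebra.IsCentral k A] [IsSimpleRing A] [FiniteDimensional k A] :
    ∃ d, CSAGal.IsIndex k A d := by
  obtain ⟨m, hm, D, _, _, _, _, ⟨e⟩⟩ := exists_division k A
  obtain ⟨d, hd0, hd⟩ := exists_finrank_eq_sq k D
  exact ⟨d, hd0, m, D, ‹_›, ‹_›, Nat.pos_of_ne_zero hm.out, hd, ⟨e⟩⟩

theorem exists_index_data [Algebra.IsCentral k A] {d : ℕ} (h : CSAGal.IsIndex k A d) :
    ∃ (D : Type v) (_ : DivisionRing D) (_ : Algebra k D), Algebra.IsCentral k D ∧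
      Module.Finite k D ∧ Module.finrank k D = d ^ 2 ∧ Similar k A D := by
  obtain ⟨hd, m, D, _, _, hm, hdim, ⟨e⟩⟩ := h
  have : NeZero m := ⟨hm.ne'⟩
  have := Algebra.IsCentral.of_algEquiv k A _ e
  exact ⟨D, ‹_›, ‹_›, isCentral_of_matrix k (n := m),
    Module.finite_of_finrank_pos (by rw [hdim]; positivity), hdim,
    similar_of_algEquiv_matrix hm.ne' e⟩

theorem index_eq_of_similar [Algebra.IsCentral k A] {d : ℕ} (h : CSAGal.IsIndex k A d)
    {D' : Type w} [DivisionRing D'] [Algebra k D'] {d' : ℕ} (hd' : Module.finrank k D' = d' ^ 2)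
    (hs : Similar k A D') : d = d' := by
  obtain ⟨D, _, _, _, _, hdim, hA⟩ := exists_index_data h
  obtain ⟨g⟩ := similar_division_unique (hA.symm.trans hs)
  have : d ^ 2 = d' ^ 2 := by rw [← hdim, g.toLinearEquiv.finrank_eq, hd']
  exact Nat.pow_left_injective two_ne_zero this

theorem isIndex_unique [Algebra.IsCentral k A] {d d' : ℕ} (h : CSAGal.IsIndex k A d)
    (h' : CSAGal.IsIndex k A d') : d = d' := by
  obtain ⟨D, _, _, _, _, hdim, hA⟩ := exists_index_data h'
  exact index_eq_of_similar h hdim hA

theorem isIndex_of_similar [Algebra.IsCentral k A] [IsSimpleRing A] [FiniteDimensional k A]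
    {D' : Type w} [DivisionRing D'] [Algebra k D'] {d' : ℕ} (hd' : Module.finrank k D' = d' ^ 2)
    (hs : Similar k A D') : CSAGal.IsIndex k A d' := by
  obtain ⟨d, hd⟩ := exists_isIndex k A
  rwa [← index_eq_of_similar hd hd' hs]

theorem isIndex_congr [Algebra.IsCentral k A] [IsSimpleRing A] [FiniteDimensional k A] {d : ℕ}
    {B : Type w} [Ring B] [Algebra k B] [Algebra.IsCentral k B] (h : CSAGal.IsIndex k B d)
    (hs : Similar k A B) : CSAGal.IsIndex k A d := by
  obtain ⟨D, _, _, _, _, hdim, hB⟩ := exists_index_data h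
  exact isIndex_of_similar hdim (hs.trans hB)

/-- Index one means split. -/
theorem similar_of_index_one [Algebra.IsCentral k A] (h : CSAGal.IsIndex k A 1) :
    Similar k A k := by
  obtain ⟨D, _, _, _, _, hdim, hA⟩ := exists_index_data h
  have hb : Function.Bijective (Algebra.ofId k D) := by
    have hinj : Function.Injective (Algebra.ofId k D) := RingHom.injective _
    exact ⟨hinj, (LinearMap.injective_iff_surjective_of_finrank_eq_finrank
      (by rw [hdim, Module.finrank_self, one_pow]) (f := (Algebra.ofId k D).toLinearMap)).1 hinj⟩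
  exact hA.trans (similar_of_algEquiv (AlgEquiv.ofBijective _ hb).symm)

/-- The index divides the degree of every splitting field. -/
theorem dvd_finrank_of_splits [Algebra.IsCentral k A] {d : ℕ} (h : CSAGal.IsIndex k A d)
    (K : Type w) [Field K] [Algebra k K] [FiniteDimensional k K]
    (hK : Similar K (K ⊗[k] A) K) : d ∣ Module.finrank k K := by
  obtain ⟨D, _, _, _, _, hdim, hA⟩ := exists_index_data h
  have := isSimpleRing_baseChange k D K
  have := isCentral_baseChange k D K
  obtain ⟨n, hn, ⟨φ⟩⟩ := similar_field_iff.mp ((hA.baseChange K).symm.trans hK)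
  have hn' : n = d := by
    have := φ.toLinearEquiv.finrank_eq
    rw [Module.finrank_baseChange, hdim, Module.finrank_matrix, Module.finrank_self,
      Fintype.card_fin, mul_one, ← sq] at this
    exact (Nat.pow_left_injective two_ne_zero this).symm
  subst hn'
  let g : D →ₐ[k] Matrix (Fin n) (Fin n) K :=
    (φ.toAlgHom.restrictScalars k).comp Algebra.TensorProduct.includeRight
  letI : Module D (Fin n → K) := Module.compHom (Fin n → K)
    ((Matrix.toLinAlgEquiv' (R := K) (n := Fin n)).toAlgHom.toRingHom.comp g.toRingHom)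
  haveI : IsScalarTower k D (Fin n → K) := ⟨fun r x v => by
    show Matrix.toLinAlgEquiv' (g (r • x)) v = r • Matrix.toLinAlgEquiv' (g x) v
    rw [map_smul, ← algebraMap_smul K r (g x), map_smul, LinearMap.smul_apply, algebraMap_smul]⟩
  have key := Module.finrank_mul_finrank k D (Fin n → K)
  have hV : Module.finrank k (Fin n → K) = n * Module.finrank k K := by
    rw [Module.finrank_pi_fintype, Finset.sum_const, Finset.card_univ, Fintype.card_fin,
      smul_eq_mul]
  rw [hV, hdim, sq, mul_assoc] at key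
  exact ⟨_, (Nat.eq_of_mul_eq_mul_left (Nat.pos_of_ne_zero hn) key).symm⟩

/-- There is a separable splitting field of degree the index. -/
theorem exists_splitting_index [Algebra.IsCentral k A] {d : ℕ} (h : CSAGal.IsIndex k A d) :
    ∃ (F : Type u) (_ : Field F) (_ : Algebra k F), Algebra.IsSeparable k F ∧ Module.Finite k F ∧
      Module.finrank k F = d ∧ Similar F (F ⊗[k] A) F := by
  obtain ⟨D, _, _, _, _, hdim, hA⟩ := exists_index_data h
  obtain ⟨F, _, _, f, hsep, hfin, hf⟩ := exists_separable_maximal_subfield k D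
  obtain ⟨n, hn, ⟨e⟩, hnF⟩ := exists_algEquiv_matrix_of_centralizer_eq k D f hf
  refine ⟨F, ‹_›, ‹_›, hsep, hfin, ?_, (hA.baseChange F).trans (similar_of_algEquiv_matrix hn.out e)⟩
  have := e.toLinearEquiv.finrank_eq
  rw [Module.finrank_baseChange, hdim, Module.finrank_matrix, Module.finrank_self,
    Fintype.card_fin, mul_one, ← sq] at this
  rw [← hnF]
  exact (Nat.pow_left_injective two_ne_zero this).symm

/-- The index kills the class. -/
theorem similar_pow_index [Algebra.IsCentral k A] {d : ℕ} (h : CSAGal.IsIndex k A d) :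
    Similar k (⨂[k] _i : Fin d, A) k := by
  obtain ⟨D, _, _, _, _, hdim, hA⟩ := exists_index_data h
  obtain ⟨L, _, _, n, hn, _, _, ⟨φ⟩⟩ := exists_galois_splitting k D
  have := φ.toLinearEquiv.finrank_eq
  rw [Module.finrank_baseChange, hdim, Module.finrank_matrix, Module.finrank_self,
    Fintype.card_fin, mul_one, ← sq] at this
  obtain rfl : d = n := Nat.pow_left_injective two_ne_zero this
  exact (hA.pow d).trans (similar_pow_degree φ)

theorem index_dvd_index_baseChange_mul [Algebra.IsCentral k A] {d : ℕ} (h : CSAGal.IsIndex k A d)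
    (K : Type w) [Field K] [Algebra k K] [FiniteDimensional k K] {d' : ℕ}
    (h' : CSAGal.IsIndex K (K ⊗[k] A) d') : d ∣ Module.finrank k K * d' := by
  have := isCentral_baseChange k A K
  obtain ⟨E, _, _, _, _, hE, hsplit⟩ := exists_splitting_index h'
  letI : Algebra k E := ((algebraMap K E).comp (algebraMap k K)).toAlgebra
  haveI : IsScalarTower k K E := IsScalarTower.of_algebraMap_eq fun _ => rfl
  haveI : Module.Finite k E := Module.Finite.trans K E
  rw [← hE, Module.finrank_mul_finrank]
  exact dvd_finrank_of_splits h E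
    ((similar_of_algEquiv (cancelBase (k := k) (A := A) (K := K) E).symm).trans hsplit)

theorem index_baseChange_dvd [Algebra.IsCentral k A] {d : ℕ} (h : CSAGal.IsIndex k A d)
    (K : Type w) [Field K] [Algebra k K] {d' : ℕ}
    (h' : CSAGal.IsIndex K (K ⊗[k] A) d') : d' ∣ d := by
  have := isCentral_baseChange k A K
  obtain ⟨D, _, _, _, _, hdim, hA⟩ := exists_index_data h
  have := isCentral_baseChange k D K
  have := isSimpleRing_baseChange k D K
  obtain ⟨_, m, E, _, _, hm, hE, ⟨e⟩⟩ := isIndex_congr h' (hA.baseChange K).symm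
  have := e.toLinearEquiv.finrank_eq
  rw [Module.finrank_baseChange, hdim, Module.finrank_matrix, hE, Fintype.card_fin,
    show m * m * d' ^ 2 = (m * d') ^ 2 by ring] at this
  exact ⟨m, (Nat.pow_left_injective two_ne_zero this).trans (mul_comm m d')⟩

theorem index_pow_dvd [Algebra.IsCentral k A] {d : ℕ} (h : CSAGal.IsIndex k A d) (i : ℕ)
    [Algebra.IsCentral k (⨂[k] _i : Fin i, A)] {d' : ℕ}
    (h' : CSAGal.IsIndex k (⨂[k] _i : Fin i, A) d') : d' ∣ d := by
  obtain ⟨F, _, _, _, _, hF, hs⟩ := exists_splitting_index h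
  rw [← hF]
  exact dvd_finrank_of_splits h' F (hs.baseChange_pow i)

/-- The step of `prime_dvd_of_pow_split` at the fixed field of a Sylow subgroup. -/
theorem prime_dvd_aux [Algebra.IsCentral k A] [IsSimpleRing A] [FiniteDimensional k A]
    {d : ℕ} (h : CSAGal.IsIndex k A d) {e : ℕ} (hA : Similar k (⨂[k] _i : Fin e, A) k) {p : ℕ}
    (hp : p.Prime) (hpd : p ∣ d) (F : Type w) [Field F] [Algebra k F] [FiniteDimensional k F]
    (L : Type x) [Field L] [Algebra k L] [Algebra F L] [IsScalarTower k F L] [FiniteDimensional F L]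
    {a : ℕ} (ha : Module.finrank F L = p ^ a) (hF : ¬ p ∣ Module.finrank k F)
    (hL : Similar L (L ⊗[k] A) L) : p ∣ e := by
  by_contra hpe
  have he : 0 < e := Nat.pos_of_ne_zero fun h0 => hpe (h0 ▸ dvd_zero p)
  have := isCentral_baseChange k A F
  have := isSimpleRing_baseChange k A F
  obtain ⟨d', hd'⟩ := exists_isIndex F (F ⊗[k] A)
  have hpd' : p ∣ d' :=
    ((hp.dvd_mul).mp (hpd.trans (index_dvd_index_baseChange_mul h F hd'))).resolve_left hF
  have hd'p : d' ∣ p ^ a := ha ▸ dvd_finrank_of_splits hd' L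
    ((similar_of_algEquiv (cancelBase (k := k) (A := A) (K := F) L)).trans hL)
  obtain ⟨b, -, hb⟩ := (Nat.dvd_prime_pow hp).mp hd'p
  have hFe : Similar F (⨂[F] _i : Fin e, (F ⊗[k] A)) F :=
    (similar_baseChange_pow (k := k) (A := A) F e).symm.trans ((hA.baseChange F).trans
      (similar_of_algEquiv (Algebra.TensorProduct.rid k F F)))
  have hg := pow_gcd_split he hFe (similar_pow_index hd')
  have hcop : Nat.gcd e d' = 1 := by
    rw [hb]
    exact Nat.Coprime.pow_right b ((hp.coprime_iff_not_dvd.mpr hpe).symm)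
  rw [hcop] at hg
  have h1 : Similar F (F ⊗[k] A) F := (similar_pow_one F _).symm.trans hg
  have := Nat.dvd_one.mp ((Module.finrank_self F) ▸ dvd_finrank_of_splits hd' F
    ((similar_of_algEquiv (Algebra.TensorProduct.lid F _)).trans h1))
  rw [this] at hpd'
  exact hp.not_dvd_one hpd'

/-- Every prime divisor of the index divides the period. -/
theorem prime_dvd_of_pow_split [Algebra.IsCentral k A] [IsSimpleRing A] [FiniteDimensional k A]
    {d : ℕ} (h : CSAGal.IsIndex k A d) {e : ℕ} (hA : Similar k (⨂[k] _i : Fin e, A) k) {p : ℕ}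
    (hp : p.Prime) (hpd : p ∣ d) : p ∣ e := by
  have := Fact.mk hp
  obtain ⟨L, _, _, n, hn, _, _, ⟨φ⟩⟩ := exists_galois_splitting k A
  obtain ⟨P⟩ : Nonempty (Sylow p (L ≃ₐ[k] L)) := inferInstance
  let F : IntermediateField k L := IntermediateField.fixedField (P : Subgroup (L ≃ₐ[k] L))
  have hLF : Module.finrank F L = Nat.card (P : Subgroup (L ≃ₐ[k] L)) :=
    IntermediateField.finrank_fixedField_eq_card _
  obtain ⟨a, ha⟩ := IsPGroup.iff_card.mp P.isPGroup'
  have hFk : Module.finrank k F = (P : Subgroup (L ≃ₐ[k] L)).index := by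
    have h1 := Module.finrank_mul_finrank k F L
    rw [hLF, ← IsGalois.card_aut_eq_finrank k L,
      ← Subgroup.index_mul_card (P : Subgroup (L ≃ₐ[k] L))] at h1
    exact Nat.eq_of_mul_eq_mul_right Nat.card_pos h1
  exact prime_dvd_aux h hA hp hpd F L (hLF.trans ha) (hFk ▸ P.not_dvd_index)
    (similar_of_algEquiv_matrix hn.out φ)

theorem splits_pow_iff [Algebra.IsCentral k A] [IsSimpleRing A] [FiniteDimensional k A] (e : ℕ) :
    Curves.Splits k (CSAGal.tpow k A e) k ↔ Similar k (⨂[k] _i : Fin e, A) k := by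
  obtain ⟨_, _, _⟩ := centralSimple_pow k A e
  exact splits_self_iff

theorem isPeriod_iff [Algebra.IsCentral k A] [IsSimpleRing A] [FiniteDimensional k A] {e : ℕ}
    (he : CSAGal.IsPeriod k A e) (m : ℕ) : Similar k (⨂[k] _i : Fin m, A) k ↔ e ∣ m :=
  pow_split_iff_dvd he.1 ((splits_pow_iff e).mp he.2.1)
    (fun e' h1 h2 h3 => he.2.2 e' h1 h2 ((splits_pow_iff e').mpr h3)) m

theorem isIndex_of_algEquiv_matrix [Algebra.IsCentral k A] [IsSimpleRing A] [FiniteDimensional k A]
    {D : Type w} [DivisionRing D] [Algebra k D] {m d : ℕ} (iso : A ≃ₐ[k] Matrix (Fin m) (Fin m) D)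
    (hd : Module.finrank k D = d ^ 2) : CSAGal.IsIndex k A d := by
  have hm : m ≠ 0 := by
    rintro rfl
    have : Subsingleton A := iso.toEquiv.subsingleton
    exact not_nontrivial A inferInstance
  exact isIndex_of_similar hd (similar_of_algEquiv_matrix hm iso)

end Index

end Groth.Agent.CSALib
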