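import Groth.Agent.CSALib.Splitting
import Groth.Prelude.Def_Curves
import Mathlib.RingTheory.MatrixAlgebra
import Mathlib.RingTheory.PiTensorProduct
import Mathlib.LinearAlgebra.Matrix.ToLin
import Mathlib.LinearAlgebra.Matrix.Unique

/-!
Similarity (Brauer equivalence) of algebras across universes and tensor powers.
-/

universe u v w x y

namespace Groth.Agent.CSALib

open TensorProduct

variable {k : Type u} [Field k]

/-- Centrality is invariant under isomorphisms (any universes). -/
theorem isCentral_congr {k : Type u} [Field k] {A : Type v} [Ring A] [Algebra k A] {B : Type w}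
    [Ring B] [Algebra k B] (e : A ≃ₐ[k] B) [Algebra.IsCentral k A] : Algebra.IsCentral k B where
  out z hz := by
    have h : e.symm z ∈ Subalgebra.center k A := Subalgebra.mem_center_iff.2 fun a => by
      apply e.injective
      simpa using Subalgebra.mem_center_iff.1 hz (e a)
    obtain ⟨r, hr⟩ := Algebra.IsCentral.out h
    exact Algebra.mem_bot.2 ⟨r, by rw [← e.commutes, show algebraMap k A r = e.symm z from hr,
      e.apply_symm_apply]⟩

section Similar

/-- Two algebras are similar if some matrix algebras over them are isomorphic. -/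
def Similar (k : Type u) [Field k] (A : Type v) (B : Type w) [Ring A] [Algebra k A] [Ring B]
    [Algebra k B] : Prop :=
  ∃ n m : ℕ, n ≠ 0 ∧ m ≠ 0 ∧
    Nonempty (Matrix (Fin n) (Fin n) A ≃ₐ[k] Matrix (Fin m) (Fin m) B)

variable {A : Type v} [Ring A] [Algebra k A] {B : Type w} [Ring B] [Algebra k B]
  {C : Type x} [Ring C] [Algebra k C] {D : Type y} [Ring D] [Algebra k D]

/-- Matrices of size one. -/
noncomputable def matrixOne (R : Type v) [Ring R] [Algebra k R] :
    Matrix (Fin 1) (Fin 1) R ≃ₐ[k] R where
  toFun M := M 0 0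
  invFun r := Matrix.of fun _ _ => r
  left_inv M := by ext i j; rw [Fin.fin_one_eq_zero i, Fin.fin_one_eq_zero j]; rfl
  right_inv _ := rfl
  map_mul' M N := by simp [Matrix.mul_apply]
  map_add' _ _ := rfl
  commutes' r := by simp [Matrix.algebraMap_matrix_apply]

/-- Nested matrices, with the product in the other order. -/
noncomputable def matrixMatrix' (R : Type v) [Ring R] [Algebra k R] (m d : ℕ) :
    Matrix (Fin m) (Fin m) (Matrix (Fin d) (Fin d) R) ≃ₐ[k]
      Matrix (Fin (d * m)) (Fin (d * m)) R :=
  (matrixMatrix k R m d).trans (Matrix.reindexAlgEquiv k R (finCongr (mul_comm m d)))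

lemma similar_of_algEquiv (e : A ≃ₐ[k] B) : Similar k A B :=
  ⟨1, 1, one_ne_zero, one_ne_zero, ⟨e.mapMatrix⟩⟩

lemma similar_refl : Similar k A A := similar_of_algEquiv .refl

lemma Similar.symm : Similar k A B → Similar k B A := fun ⟨n, m, hn, hm, ⟨e⟩⟩ =>
  ⟨m, n, hm, hn, ⟨e.symm⟩⟩

lemma Similar.trans : Similar k A B → Similar k B C → Similar k A C :=
  fun ⟨n, m, hn, hm, ⟨e⟩⟩ ⟨n', m', hn', hm', ⟨f⟩⟩ =>
    ⟨n' * n, m * m', Nat.mul_ne_zero hn' hn, Nat.mul_ne_zero hm hm',
      ⟨(matrixMatrix k A n' n).symm.trans (e.mapMatrix.trans ((matrixMatrix' B n' m).trans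
        ((matrixMatrix k B m n').symm.trans (f.mapMatrix.trans (matrixMatrix k C m m')))))⟩⟩

lemma similar_matrix {n : ℕ} (hn : n ≠ 0) : Similar k (Matrix (Fin n) (Fin n) A) A :=
  ⟨1, n, one_ne_zero, hn, ⟨matrixOne _⟩⟩

lemma similar_of_algEquiv_matrix {n : ℕ} (hn : n ≠ 0) (e : A ≃ₐ[k] Matrix (Fin n) (Fin n) B) :
    Similar k A B :=
  ⟨1, n, one_ne_zero, hn, ⟨(matrixOne A).trans e⟩⟩

/-- The tensor product of matrix algebras. -/
noncomputable def matrixTensor (A : Type v) [Ring A] [Algebra k A] (B : Type w) [Ring B]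
    [Algebra k B] (n m : ℕ) :
    Matrix (Fin n) (Fin n) A ⊗[k] Matrix (Fin m) (Fin m) B ≃ₐ[k]
      Matrix (Fin (n * m)) (Fin (n * m)) (A ⊗[k] B) :=
  (Matrix.kroneckerTMulAlgEquiv (Fin n) (Fin m) k k A B).trans
    (Matrix.reindexAlgEquiv k _ finProdFinEquiv)

lemma Similar.tensor : Similar k A B → Similar k C D → Similar k (A ⊗[k] C) (B ⊗[k] D) :=
  fun ⟨n, m, hn, hm, ⟨e⟩⟩ ⟨n', m', hn', hm', ⟨f⟩⟩ =>
    ⟨n * n', m * m', Nat.mul_ne_zero hn hn', Nat.mul_ne_zero hm hm',
      ⟨(matrixTensor A C n n').symm.trans
        ((Algebra.TensorProduct.congr e f).trans (matrixTensor B D m m'))⟩⟩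

lemma similar_tensor_self_left : Similar k (k ⊗[k] A) A :=
  similar_of_algEquiv (Algebra.TensorProduct.lid k A)

lemma similar_tensor_self_right : Similar k (A ⊗[k] k) A :=
  similar_of_algEquiv (Algebra.TensorProduct.rid k k A)

lemma Similar.baseChange (K : Type y) [Field K] [Algebra k K] :
    Similar k A B → Similar K (K ⊗[k] A) (K ⊗[k] B) :=
  fun ⟨n, m, hn, hm, ⟨e⟩⟩ => ⟨n, m, hn, hm, ⟨(baseChangeMatrix k A K (Fin n)).symm.trans
    ((Algebra.TensorProduct.congr AlgEquiv.refl e).trans (baseChangeMatrix k B K (Fin m)))⟩⟩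

/-- The tensor product of a central simple algebra with its opposite is split. -/
theorem similar_tensor_op (k : Type u) [Field k] (A : Type v) [Ring A] [Algebra k A]
    [Algebra.IsCentral k A] [IsSimpleRing A] [FiniteDimensional k A] :
    Similar k (A ⊗[k] Aᵐᵒᵖ) k :=
  similar_of_algEquiv_matrix Module.finrank_pos.ne'
    ((AlgEquiv.ofBijective _ (mulLeftRight_bijective k A)).trans
      (algEquivMatrix (Module.finBasis k A)))

/-- Equality of the division algebra parts of similar algebras. -/
theorem similar_division_unique {D : Type v} [DivisionRing D] [Algebra k D] [Module.Finite k D]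
    {D' : Type w} [DivisionRing D'] [Algebra k D'] (h : Similar k D D') :
    Nonempty (D ≃ₐ[k] D') := by
  obtain ⟨n, m, hn, hm, ⟨e⟩⟩ := h
  have : NeZero n := ⟨hn⟩
  have : NeZero m := ⟨hm⟩
  exact (wedderburn_unique k e).2

/-- A central simple algebra is similar to the field iff it is a matrix algebra. -/
theorem similar_field_iff [Algebra.IsCentral k A] [IsSimpleRing A] [FiniteDimensional k A] :
    Similar k A k ↔ ∃ n : ℕ, n ≠ 0 ∧ Nonempty (A ≃ₐ[k] Matrix (Fin n) (Fin n) k) := by
  refine ⟨fun h => ?_, fun ⟨n, hn, ⟨e⟩⟩ => similar_of_algEquiv_matrix hn e⟩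
  obtain ⟨a, ha, D, _, _, _, _, ⟨f⟩⟩ := exists_division k A
  obtain ⟨g⟩ := similar_division_unique
    ((similar_of_algEquiv_matrix ha.out f).symm.trans h)
  exact ⟨a, ha.out, ⟨f.trans g.mapMatrix⟩⟩

/-- `Splits` over the base field means similar to the field. -/
theorem splits_self_iff [Algebra.IsCentral k A] [IsSimpleRing A] [FiniteDimensional k A] :
    Curves.Splits k A k ↔ Similar k A k := by
  rw [similar_field_iff]
  exact exists_congr fun n => and_congr_right fun _ =>
    ⟨fun ⟨e⟩ => ⟨(Algebra.TensorProduct.lid k A).symm.trans e⟩,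
      fun ⟨e⟩ => ⟨(Algebra.TensorProduct.lid k A).trans e⟩⟩

/-- Splitting by `K` means that the base change is similar to `K`. -/
theorem splits_iff [Algebra.IsCentral k A] [IsSimpleRing A] [FiniteDimensional k A]
    (K : Type y) [Field K] [Algebra k K] :
    Curves.Splits k A K ↔ Similar K (K ⊗[k] A) K := by
  have := isSimpleRing_baseChange k A K
  have := isCentral_baseChange k A K
  rw [similar_field_iff]
  rfl

end Similar

section Pow

variable (k) (A : Type v) [Ring A] [Algebra k A]

/-- The empty tensor power. -/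
noncomputable def powZero : (⨂[k] _i : Fin 0, A) ≃ₐ[k] k :=
  AlgEquiv.symm <| AlgEquiv.ofBijective (Algebra.ofId k (⨂[k] _i : Fin 0, A)) <| by
    have : ⇑(Algebra.ofId k (⨂[k] _i : Fin 0, A)) =
        (PiTensorProduct.isEmptyEquiv (Fin 0) (R := k) (s := fun _ => A)).symm := by
      funext r
      show algebraMap k (⨂[k] _i : Fin 0, A) r = _
      rw [Algebra.algebraMap_eq_smul_one, LinearEquiv.eq_symm_apply, map_smul]
      show r • PiTensorProduct.isEmptyEquiv (Fin 0) (PiTensorProduct.tprod k 1) = r
      rw [PiTensorProduct.isEmptyEquiv_apply_tprod, smul_eq_mul, mul_one]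
    rw [this]
    exact LinearEquiv.bijective _

/-- The forward map of the splitting of a tensor power. -/
noncomputable def powSuccTo (e : ℕ) :
    (⨂[k] _i : Fin (e + 1), A) →ₐ[k] A ⊗[k] (⨂[k] _i : Fin e, A) :=
  PiTensorProduct.liftAlgHom
    (LinearMap.uncurryLeft
      { toFun := fun a => (TensorProduct.mk k A (⨂[k] _i : Fin e, A) a).compMultilinearMap
          (PiTensorProduct.tprod k)
        map_add' := fun a b => by ext; simp
        map_smul' := fun c a => by ext; simp [TensorProduct.smul_tmul'] })
    (by simp [LinearMap.uncurryLeft_apply, Algebra.TensorProduct.one_def,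
      PiTensorProduct.one_def, Fin.tail_def, Pi.one_def])
    (fun x y => by
      simp [LinearMap.uncurryLeft_apply, Algebra.TensorProduct.tmul_mul_tmul, Fin.tail_def,
        Pi.mul_def])

/-- The backward map of the splitting of a tensor power. -/
noncomputable def powSuccInv (e : ℕ) :
    A ⊗[k] (⨂[k] _i : Fin e, A) →ₐ[k] (⨂[k] _i : Fin (e + 1), A) :=
  Algebra.TensorProduct.lift (PiTensorProduct.singleAlgHom (A := fun _ : Fin (e + 1) => A) 0)
    (PiTensorProduct.liftAlgHom
      ((PiTensorProduct.tprod k (s := fun _ : Fin (e + 1) => A)).curryLeft 1)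
      (by
        simp only [MultilinearMap.curryLeft_apply]
        congr 1
        funext i
        refine Fin.cases ?_ (fun j => ?_) i <;> simp)
      (fun x y => by
        simp only [MultilinearMap.curryLeft_apply, PiTensorProduct.tprod_mul_tprod]
        congr 1
        funext i
        refine Fin.cases ?_ (fun j => ?_) i <;> simp))
    (fun a b => by
      induction b using PiTensorProduct.induction_on with
      | smul_tprod r f =>
        rw [map_smul, Commute, SemiconjBy, mul_smul_comm, smul_mul_assoc]
        congr 1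
        simp only [PiTensorProduct.liftAlgHom_apply, PiTensorProduct.lift.tprod,
          MultilinearMap.curryLeft_apply, PiTensorProduct.singleAlgHom_apply,
          PiTensorProduct.tprod_mul_tprod]
        congr 1
        funext i
        refine Fin.cases ?_ (fun j => ?_) i <;> simp
      | add x y hx hy => rw [map_add]; exact hx.add_right hy)

lemma powSuccTo_tprod (e : ℕ) (f : Fin (e + 1) → A) :
    powSuccTo k A e (PiTensorProduct.tprod k f) =
      f 0 ⊗ₜ[k] PiTensorProduct.tprod k (Fin.tail f) := by
  show PiTensorProduct.lift _ (PiTensorProduct.tprod k f) = _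
  rw [PiTensorProduct.lift.tprod]
  rfl

lemma powSuccInv_tmul (e : ℕ) (a : A) (g : Fin e → A) :
    powSuccInv k A e (a ⊗ₜ[k] PiTensorProduct.tprod k g) =
      PiTensorProduct.tprod k (Fin.cons a g) := by
  rw [powSuccInv, Algebra.TensorProduct.lift_tmul]
  erw [PiTensorProduct.lift.tprod]
  simp only [MultilinearMap.curryLeft_apply, PiTensorProduct.singleAlgHom_apply,
    PiTensorProduct.tprod_mul_tprod]
  congr 1
  funext i
  refine Fin.cases ?_ (fun j => ?_) i <;> simp

/-- Splitting off one factor of a tensor power. -/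
noncomputable def powSucc (e : ℕ) :
    (⨂[k] _i : Fin (e + 1), A) ≃ₐ[k] A ⊗[k] (⨂[k] _i : Fin e, A) :=
  AlgEquiv.ofAlgHom (powSuccTo k A e) (powSuccInv k A e)
    (AlgHom.toLinearMap_injective <| TensorProduct.ext' fun a t => by
      induction t using PiTensorProduct.induction_on with
      | smul_tprod r g =>
        simp only [AlgHom.toLinearMap_apply, TensorProduct.tmul_smul, map_smul, AlgHom.comp_apply,
          powSuccInv_tmul, powSuccTo_tprod, Fin.cons_zero, Fin.tail_cons, AlgHom.id_apply]
      | add x y hx hy => rw [TensorProduct.tmul_add, map_add, map_add, hx, hy])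
    (by
      refine AlgHom.toLinearMap_injective (PiTensorProduct.ext (MultilinearMap.ext fun f => ?_))
      show powSuccInv k A e (powSuccTo k A e (PiTensorProduct.tprod k f)) = PiTensorProduct.tprod k f
      rw [powSuccTo_tprod, powSuccInv_tmul, Fin.cons_self_tail])

/-- Tensor powers of a central simple algebra are central simple. -/
theorem centralSimple_pow [Algebra.IsCentral k A] [IsSimpleRing A] [FiniteDimensional k A] (e : ℕ) :
    Algebra.IsCentral k (⨂[k] _i : Fin e, A) ∧ IsSimpleRing (⨂[k] _i : Fin e, A) ∧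
      FiniteDimensional k (⨂[k] _i : Fin e, A) := by
  induction e with
  | zero =>
    exact ⟨isCentral_congr (powZero k A).symm,
      IsSimpleRing.of_ringEquiv (powZero k A).symm.toRingEquiv inferInstance,
      Module.Finite.equiv (powZero k A).symm.toLinearEquiv⟩
  | succ e ih =>
    obtain ⟨_, _, _⟩ := ih
    exact ⟨have := isCentral_tensorProduct k A (⨂[k] _i : Fin e, A)
        isCentral_congr (powSucc k A e).symm,
      IsSimpleRing.of_ringEquiv (powSucc k A e).symm.toRingEquiv
        (isSimpleRing_tensorProduct k A (⨂[k] _i : Fin e, A)),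
      Module.Finite.equiv (powSucc k A e).symm.toLinearEquiv⟩

lemma Similar.pow {k : Type u} [Field k] {A : Type v} [Ring A] [Algebra k A] {B : Type w} [Ring B]
    [Algebra k B] (h : Similar k A B) (e : ℕ) :
    Similar k (⨂[k] _i : Fin e, A) (⨂[k] _i : Fin e, B) := by
  induction e with
  | zero => exact similar_of_algEquiv ((powZero k A).trans (powZero k B).symm)
  | succ e ih =>
    exact (similar_of_algEquiv (powSucc k A e)).trans
      ((h.tensor ih).trans (similar_of_algEquiv (powSucc k B e).symm))

lemma similar_pow_one : Similar k (⨂[k] _i : Fin 1, A) A :=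
  (similar_of_algEquiv ((powSucc k A 0).trans
    (Algebra.TensorProduct.congr AlgEquiv.refl (powZero k A)))).trans similar_tensor_self_right

lemma similar_pow_add (a b : ℕ) :
    Similar k (⨂[k] _i : Fin (a + b), A) ((⨂[k] _i : Fin a, A) ⊗[k] (⨂[k] _i : Fin b, A)) := by
  induction a with
  | zero =>
    rw [Nat.zero_add]
    exact similar_tensor_self_left.symm.trans
      ((similar_of_algEquiv (powZero k A).symm).tensor similar_refl)
  | succ a ih =>
    rw [Nat.succ_add]
    exact (similar_of_algEquiv (powSucc k A (a + b))).trans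
      ((similar_refl.tensor ih).trans ((similar_of_algEquiv
        (Algebra.TensorProduct.assoc k k k A (⨂[k] _i : Fin a, A) (⨂[k] _i : Fin b, A)).symm).trans
          ((similar_of_algEquiv (powSucc k A a).symm).tensor similar_refl)))

end Pow

end Groth.Agent.CSALib
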