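import Groth.Agent.CSALib.BrauerRel
import Groth.Prelude.Def_GSzCSA
import Mathlib.LinearAlgebra.Charpoly.BaseChange
import Mathlib.LinearAlgebra.Charpoly.ToMatrix
import Mathlib.LinearAlgebra.Matrix.Charpoly.Coeff
import Mathlib.LinearAlgebra.Matrix.ToLin
import Mathlib.RingTheory.Norm.Defs
import Mathlib.RingTheory.Trace.Defs
import Mathlib.LinearAlgebra.StdBasis
import Mathlib.RingTheory.IntegralClosure.IntegrallyClosed
import Mathlib.RingTheory.Polynomial.IsIntegral

/-!
The reduced characteristic polynomial, norm and trace.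
-/

universe u v w x

namespace Groth.Agent.CSALib

open TensorProduct Polynomial

section Block

variable {R : Type u} [CommRing R] {n : Type v} [Fintype n] [DecidableEq n] {o : Type w} [Fintype o]
  [DecidableEq o]

lemma charpoly_blockDiagonal_const (M : Matrix n n R) :
    (Matrix.blockDiagonal fun _ : o => M).charpoly = M.charpoly ^ Fintype.card o := by
  have : (Matrix.blockDiagonal fun _ : o => M).charmatrix =
      Matrix.blockDiagonal fun _ : o => M.charmatrix := by
    ext ⟨i, a⟩ ⟨j, b⟩
    by_cases hab : a = b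
    · subst hab
      by_cases hij : i = j
      · subst hij
        simp [Matrix.charmatrix_apply, Matrix.blockDiagonal_apply]
      · simp [Matrix.charmatrix_apply, Matrix.blockDiagonal_apply, hij]
    · simp [Matrix.charmatrix_apply, Matrix.blockDiagonal_apply, hab]
  rw [Matrix.charpoly, this, Matrix.det_blockDiagonal, Finset.prod_const, Finset.card_univ]
  rfl

end Block

/-- An endomorphism acting on each of `n` coordinates as `g` has characteristic polynomial a power. -/
theorem charpoly_of_intertwine {R : Type u} [Field R] {V : Type v} [AddCommGroup V] [Module R V]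
    [FiniteDimensional R V] {W : Type w} [AddCommGroup W] [Module R W] [FiniteDimensional R W] {n : ℕ}
    (e : V ≃ₗ[R] (Fin n → W)) (f : Module.End R V) (g : Module.End R W)
    (h : ∀ v i, e (f v) i = g (e v i)) : f.charpoly = g.charpoly ^ n := by
  classical
  let b := Module.finBasis R W
  let B₀ := Pi.basis fun _ : Fin n => b
  let B := (B₀.map e.symm).reindex
    ((Equiv.sigmaEquivProd (Fin n) (Fin (Module.finrank R W))).trans (Equiv.prodComm _ _))
  rw [← LinearMap.charpoly_toMatrix f B, ← LinearMap.charpoly_toMatrix g b]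
  conv_rhs => rw [← Fintype.card_fin n, ← charpoly_blockDiagonal_const]
  congr 1
  ext ⟨i, a⟩ ⟨j, c⟩
  have h2 : ∀ t : Fin n, e (f (B (j, c))) t = g (if t = c then b j else 0) := fun t => by
    rw [h]
    congr 1
    simp [B, B₀, Pi.single_apply]
  rw [LinearMap.toMatrix_apply, Matrix.blockDiagonal_apply, LinearMap.toMatrix_apply]
  simp only [B, Module.Basis.repr_reindex, Finsupp.mapDomain_equiv_apply,
    Module.Basis.map_repr, LinearEquiv.trans_apply, LinearEquiv.symm_symm]
  simp only [B₀, Pi.basis_repr]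
  show (b.repr (e (f (B (j, c))) a)) i = _
  rw [h2]
  split_ifs <;> simp

variable {k : Type u} [Field k] {A : Type v} [Ring A] [Algebra k A]

/-- The reduced characteristic polynomial for a given trivialisation, up to the power. -/
theorem charpoly_pow_eq [FiniteDimensional k A] {K : Type w} [Field K] [Algebra k K] {n : ℕ}
    (φ : K ⊗[k] A ≃ₐ[K] Matrix (Fin n) (Fin n) K) (a : A) :
    (φ (1 ⊗ₜ[k] a)).charpoly ^ n = (Algebra.lmul k A a).charpoly.map (algebraMap k K) := by
  rw [← LinearMap.charpoly_baseChange]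
  let e : K ⊗[k] A ≃ₗ[K] (Fin n → (Fin n → K)) :=
    φ.toLinearEquiv.trans ((Matrix.transposeLinearEquiv (Fin n) (Fin n) K K).trans
      (Matrix.ofLinearEquiv K).symm)
  rw [show (φ (1 ⊗ₜ[k] a)).charpoly = (Matrix.toLin' (φ (1 ⊗ₜ[k] a))).charpoly by
    rw [← LinearMap.charpoly_toMatrix (Matrix.toLin' (φ (1 ⊗ₜ[k] a))) (Pi.basisFun K (Fin n)),
      LinearMap.toMatrix_eq_toMatrix', LinearMap.toMatrix'_toLin']]
  refine (charpoly_of_intertwine e (LinearMap.baseChange K (Algebra.lmul k A a))
    (Matrix.toLin' (φ (1 ⊗ₜ[k] a))) fun v i => ?_).symm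
  rw [Matrix.toLin'_apply]
  have hv : LinearMap.baseChange K (Algebra.lmul k A a) v = (1 ⊗ₜ[k] a) * v := by
    induction v with
    | zero => simp
    | tmul c b => simp
    | add x y hx hy => rw [map_add, mul_add, hx, hy]
  funext l
  show φ (LinearMap.baseChange K (Algebra.lmul k A a) v) l i = _
  rw [hv, map_mul, Matrix.mul_apply]
  rfl

lemma monic_eq_of_pow_eq {F : Type w} [Field F] {P Q : F[X]} (hP : P.Monic) (hQ : Q.Monic) {n : ℕ}
    (hn : n ≠ 0) (h : P ^ n = Q ^ n) : P = Q :=
  eq_of_monic_of_associated hP hQ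
    (associated_of_dvd_dvd ((IsIntegrallyClosed.pow_dvd_pow_iff hn).1 h.dvd)
      ((IsIntegrallyClosed.pow_dvd_pow_iff hn).1 h.symm.dvd))

lemma sq_eq_finrank {K : Type w} [Field K] [Algebra k K] {n : ℕ}
    (φ : K ⊗[k] A ≃ₐ[K] Matrix (Fin n) (Fin n) K) : Module.finrank k A = n ^ 2 := by
  rw [← Module.finrank_baseChange (R := K) (S := k) (M' := A), φ.toLinearEquiv.finrank_eq,
    Module.finrank_matrix]
  simp [pow_two]

lemma exists_common_field (K : Type w) [Field K] [Algebra k K] (L : Type x) [Field L] [Algebra k L] :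
    ∃ (Ω : Type (max w x)) (_ : Field Ω) (i : K →+* Ω) (j : L →+* Ω),
      i.comp (algebraMap k K) = j.comp (algebraMap k L) := by
  have : Nontrivial (K ⊗[k] L) := Function.Injective.nontrivial
    (Algebra.TensorProduct.includeLeft_injective (R := k) (S := k) (A := K) (B := L)
      (algebraMap k L).injective)
  obtain ⟨m, hm⟩ := Ideal.exists_maximal (K ⊗[k] L)
  refine ⟨(K ⊗[k] L) ⧸ m, Ideal.Quotient.field m,
    (Ideal.Quotient.mk m).comp Algebra.TensorProduct.includeLeftRingHom,
    (Ideal.Quotient.mk m).comp (Algebra.TensorProduct.includeRight (R := k) (A := K) (B := L)).toRingHom, ?_⟩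
  ext r
  simp [Algebra.algebraMap_eq_smul_one, TensorProduct.smul_tmul']

variable [FiniteDimensional k A] {K : Type w} [Field K] [Algebra k K] {n : ℕ}
  (φ : K ⊗[k] A ≃ₐ[K] Matrix (Fin n) (Fin n) K) {L : Type x} [Field L] [Algebra k L] {m : ℕ}
  (ψ : L ⊗[k] A ≃ₐ[L] Matrix (Fin m) (Fin m) L)

include φ ψ in
omit [FiniteDimensional k A] in
lemma size_eq : n = m :=
  Nat.pow_left_injective two_ne_zero ((sq_eq_finrank φ).symm.trans (sq_eq_finrank ψ))

/-- The reduced characteristic polynomial does not depend on the trivialisation. -/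
theorem charpoly_map_eq {Ω : Type*} [Field Ω] (i : K →+* Ω) (j : L →+* Ω)
    (hij : i.comp (algebraMap k K) = j.comp (algebraMap k L)) (a : A) :
    (φ (1 ⊗ₜ[k] a)).charpoly.map i = (ψ (1 ⊗ₜ[k] a)).charpoly.map j := by
  obtain rfl := size_eq φ ψ
  rcases Nat.eq_zero_or_pos n with rfl | hn
  · simp [Matrix.charpoly, Matrix.det_isEmpty]
  refine monic_eq_of_pow_eq ((Matrix.charpoly_monic _).map i) ((Matrix.charpoly_monic _).map j) hn.ne' ?_
  rw [← Polynomial.map_pow, ← Polynomial.map_pow, charpoly_pow_eq φ, charpoly_pow_eq ψ,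
    Polynomial.map_map, Polynomial.map_map, hij]

/-- The reduced norm is the determinant in every trivialisation. -/
theorem redNorm_eq {N : A →* k} (hN : CSAGal.IsRedNorm k A N) (a : A) :
    algebraMap k L (N a) = (ψ (1 ⊗ₜ[k] a)).det := by
  obtain ⟨K₀, _, _, _, n₀, φ₀, hφ⟩ := hN
  obtain ⟨Ω, _, i, j, hij⟩ := exists_common_field (k := k) K₀ L
  have h := congrArg (fun p => p.coeff 0) (charpoly_map_eq φ₀ ψ i j hij a)
  simp only [Polynomial.coeff_map] at h
  apply j.injective
  rw [show j (algebraMap k L (N a)) = i (algebraMap k K₀ (N a)) from (RingHom.congr_fun hij (N a)).symm,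
    hφ, Matrix.det_eq_sign_charpoly_coeff, Matrix.det_eq_sign_charpoly_coeff, map_mul, map_mul, h,
    map_pow, map_pow, map_neg, map_neg, map_one, map_one, Fintype.card_fin, Fintype.card_fin,
    size_eq φ₀ ψ]

/-- The reduced trace is the trace in every trivialisation. -/
theorem redTrace_eq {T : A →+ k} (hT : CSAGal.IsRedTrace k A T) (a : A) :
    algebraMap k L (T a) = (ψ (1 ⊗ₜ[k] a)).trace := by
  obtain ⟨K₀, _, _, _, n₀, φ₀, hφ⟩ := hT
  obtain ⟨Ω, _, i, j, hij⟩ := exists_common_field (k := k) K₀ L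
  obtain rfl := size_eq φ₀ ψ
  apply j.injective
  rw [show j (algebraMap k L (T a)) = i (algebraMap k K₀ (T a)) from (RingHom.congr_fun hij (T a)).symm, hφ]
  rcases Nat.eq_zero_or_pos n₀ with rfl | hn
  · simp [Matrix.trace]
  have : Nonempty (Fin n₀) := ⟨⟨0, hn⟩⟩
  have h := congrArg (fun p => p.coeff (n₀ - 1)) (charpoly_map_eq φ₀ ψ i j hij a)
  simp only [Polynomial.coeff_map] at h
  rw [Matrix.trace_eq_neg_charpoly_coeff, Matrix.trace_eq_neg_charpoly_coeff, map_neg, map_neg,
    Fintype.card_fin, h]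

end Groth.Agent.CSALib
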