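import Groth.Agent.CSALib.CharPDegree
import Mathlib.RingTheory.Polynomial.Resultant.Basic
import Mathlib.Algebra.MvPolynomial.Funext
import Mathlib.LinearAlgebra.Matrix.Transvection
import Mathlib.RingTheory.LittleWedderburn
import Mathlib.GroupTheory.Perm.Fin

/-!
Every reduced norm is the reduced norm of a separable element of maximal degree.
-/

universe u v w

namespace Groth.Agent.CSALib.Generic

open Polynomial

variable {Ω : Type w} [Field Ω] {d : ℕ}

local notation "Mat" => Matrix (Fin d) (Fin d) Ω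

/-- The commutators of invertible matrices. -/
def comms (Ω : Type w) [Field Ω] (d : ℕ) : Set (Matrix (Fin d) (Fin d) Ω) :=
  {X | ∃ G H : Matrix (Fin d) (Fin d) Ω, G.det ≠ 0 ∧ H.det ≠ 0 ∧ X = G * H * G⁻¹ * H⁻¹}

theorem transvection_mem [Infinite Ω] (t : Matrix.TransvectionStruct (Fin d) Ω) :
    t.toMatrix ∈ Submonoid.closure (comms Ω d) := by
  classical
  refine Submonoid.subset_closure ?_
  obtain ⟨i, j, hij, c⟩ := t
  obtain ⟨a, ha⟩ := Infinite.exists_notMem_finset ({0, 1} : Finset Ω)
  simp only [Finset.mem_insert, Finset.mem_singleton, not_or] at ha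
  let e : Fin d → Ω := Function.update 1 i a
  have he : ∀ x, e x ≠ 0 := fun x => by
    by_cases hx : x = i
    · simp [e, hx, ha.1]
    · simp [e, hx]
  let H := Matrix.transvection i j (c / (a - 1))
  have hH : H⁻¹ = Matrix.transvection i j (-(c / (a - 1))) := Matrix.inv_eq_right_inv (by
    rw [Matrix.transvection_mul_transvection_same _ _ hij, add_neg_cancel, Matrix.transvection_zero])
  have hG : (Matrix.diagonal e)⁻¹ = Matrix.diagonal (fun x => (e x)⁻¹) := Matrix.inv_eq_right_inv (by
    rw [Matrix.diagonal_mul_diagonal, ← Matrix.diagonal_one]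
    congr 1
    funext x
    exact mul_inv_cancel₀ (he x))
  refine ⟨Matrix.diagonal e, H, ?_, ?_, ?_⟩
  · rw [Matrix.det_diagonal]
    exact Finset.prod_ne_zero_iff.2 fun x _ => he x
  · rw [Matrix.det_transvection_of_ne _ _ hij]
    exact one_ne_zero
  · have h1 : Matrix.diagonal e * H * (Matrix.diagonal e)⁻¹ =
        Matrix.transvection i j (a * (c / (a - 1))) := by
      rw [hG]
      ext x y
      rw [Matrix.mul_diagonal, Matrix.diagonal_mul]
      by_cases hxy : x = y
      · subst hxy
        have hne : ¬ (i = x ∧ j = x) := fun h => hij (h.1.trans h.2.symm)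
        simp [H, Matrix.transvection, Matrix.single_apply, hne, mul_inv_cancel₀ (he x)]
      · by_cases h : i = x ∧ j = y
        · obtain ⟨rfl, rfl⟩ := h
          simp [H, Matrix.transvection, Matrix.single_apply, hxy, e, (Ne.symm hij)]
        · simp [H, Matrix.transvection, Matrix.single_apply, hxy, h]
    have hc : a * (c / (a - 1)) + -(c / (a - 1)) = c := by
      field_simp [sub_ne_zero.2 ha.2]
      ring
    rw [h1, hH, Matrix.transvection_mul_transvection_same _ _ hij, hc]
    rfl

theorem diagonal_mem (D : Fin d → Ω) (hD : (Matrix.diagonal D).det = 1) :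
    Matrix.diagonal D ∈ Submonoid.closure (comms Ω d) := by
  classical
  rcases Nat.eq_zero_or_pos d with rfl | hd
  · rw [show Matrix.diagonal D = (1 : Matrix (Fin 0) (Fin 0) Ω) from Subsingleton.elim _ _]
    exact one_mem _
  obtain ⟨m, rfl⟩ := Nat.exists_eq_succ_of_ne_zero hd.ne'
  refine Submonoid.subset_closure ?_
  rw [Matrix.det_diagonal] at hD
  have hD0 : ∀ i, D i ≠ 0 := fun i h => one_ne_zero (hD.symm.trans
    (Finset.prod_eq_zero (Finset.mem_univ i) h))
  let e : Fin (m + 1) → Ω := fun i => ∏ j ∈ Finset.univ.filter (fun j => j < i), D j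
  have he : ∀ i, e i ≠ 0 := fun i => Finset.prod_ne_zero_iff.2 fun j _ => hD0 j
  have hstep : ∀ i, e (finRotate (m + 1) i) = D i * e i := fun i => by
    have hins : insert i (Finset.univ.filter (fun j => j < i)) = Finset.univ.filter (fun j => j ≤ i) := by
      ext j
      simp [le_iff_eq_or_lt]
    have hle : D i * e i = ∏ j ∈ Finset.univ.filter (fun j => j ≤ i), D j := by
      rw [← hins, Finset.prod_insert (by simp)]
    rw [hle, finRotate_succ_apply]
    by_cases hi : i = Fin.last m
    · subst hi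
      simp [e, Fin.le_last, hD]
    · refine Finset.prod_congr (Finset.ext fun j => ?_) fun _ _ => rfl
      simp only [Finset.mem_filter, Finset.mem_univ, true_and, Fin.lt_def, Fin.le_def,
        Fin.val_add_one, if_neg hi]
      omega
  let σ := finRotate (m + 1)
  let G : Matrix (Fin (m + 1)) (Fin (m + 1)) Ω := (1 : Matrix _ _ Ω).submatrix σ id
  let G' : Matrix (Fin (m + 1)) (Fin (m + 1)) Ω := (1 : Matrix _ _ Ω).submatrix id σ
  have hGG : G * G' = 1 := by
    ext x y
    simp [G, G', Matrix.mul_apply, Matrix.one_apply, σ.injective.eq_iff]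
  have hG' : G⁻¹ = G' := Matrix.inv_eq_right_inv hGG
  refine ⟨G, Matrix.diagonal e, ?_, ?_, ?_⟩
  · intro h
    have h1 := congrArg Matrix.det hGG
    rw [Matrix.det_mul, h, zero_mul, Matrix.det_one] at h1
    exact zero_ne_one h1
  · rw [Matrix.det_diagonal]
    exact Finset.prod_ne_zero_iff.2 fun x _ => he x
  · have h1 : G * Matrix.diagonal e * G' = Matrix.diagonal (fun i => e (σ i)) := by
      ext x y
      by_cases hxy : x = y
      · subst hxy; simp [G, G', Matrix.mul_apply, Matrix.one_apply]
      · simp [G, G', Matrix.mul_apply, Matrix.one_apply, hxy, σ.injective.ne hxy]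
    rw [hG', h1, Matrix.inv_eq_right_inv (B := Matrix.diagonal fun i => (e i)⁻¹) (by
        rw [Matrix.diagonal_mul_diagonal, ← Matrix.diagonal_one]
        congr 1
        funext x
        exact mul_inv_cancel₀ (he x)), Matrix.diagonal_mul_diagonal]
    congr 1
    funext i
    rw [show σ = finRotate (m + 1) from rfl, hstep, mul_assoc, mul_inv_cancel₀ (he i), mul_one]

theorem mem_closure_of_det_eq_one [Infinite Ω] (M : Mat) (hM : M.det = 1) :
    M ∈ Submonoid.closure (comms Ω d) :=
  Matrix.diagonal_transvection_induction (fun X => X ∈ Submonoid.closure (comms Ω d)) M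
    (fun D hD => diagonal_mem D (hD.trans hM)) transvection_mem fun _ _ ha hb => mul_mem ha hb

theorem separable_charpoly_smul [Infinite Ω] {s : Ω} (hs : s ≠ 0) {M : Mat}
    (h : M.charpoly.Separable) : (s • M).charpoly.Separable := by
  have heq : (s • M).charpoly = C (s ^ d) * M.charpoly.comp (C s⁻¹ * X) := by
    refine Polynomial.funext fun x => ?_
    rw [eval_mul, eval_C, eval_comp, eval_mul, eval_C, eval_X, Matrix.eval_charpoly,
      Matrix.eval_charpoly]
    conv_rhs => rw [show s ^ d = s ^ Fintype.card (Fin d) by rw [Fintype.card_fin], ← Matrix.det_smul]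
    congr 1
    ext i j
    by_cases hij : i = j <;> simp [hij, mul_sub, ← mul_assoc, mul_inv_cancel₀ hs]
  rw [heq]
  refine Separable.of_dvd (g := C (s ^ d) * M.charpoly.comp (C s⁻¹ * X)) ?_ dvd_rfl
  have hco : IsCoprime (M.charpoly.comp (C s⁻¹ * X)) ((derivative M.charpoly).comp (C s⁻¹ * X)) :=
    IsCoprime.map h (compRingHom (C s⁻¹ * X))
  rw [separable_def, derivative_C_mul, derivative_comp, derivative_C_mul_X]
  rw [isCoprime_mul_unit_left (isUnit_C.2 (pow_ne_zero d hs).isUnit),
    isCoprime_mul_unit_left_right (isUnit_C.2 (inv_ne_zero hs).isUnit)]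
  exact hco

theorem exists_distinct_prod [IsAlgClosed Ω] [Infinite Ω] (c : Ω) (hc : c ≠ 0) :
    ∃ f : Fin d → Ω, 0 < d → Function.Injective f ∧ ∏ i, f i = c := by
  rcases Nat.eq_zero_or_pos d with rfl | hd
  · exact ⟨0, fun h => absurd h (lt_irrefl 0)⟩
  obtain ⟨g₀⟩ : Nonempty (Fin d ↪ {x : Ω // x ≠ 0}) :=
    haveI : Infinite {x : Ω // x ≠ 0} := (Set.finite_singleton (0 : Ω)).infinite_compl.to_subtype
    ⟨Fin.valEmbedding.trans (Infinite.natEmbedding _)⟩
  have hne : (∏ i, (g₀ i : Ω)) ≠ 0 := Finset.prod_ne_zero_iff.2 fun i _ => (g₀ i).2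
  obtain ⟨a, ha⟩ := IsAlgClosed.exists_pow_nat_eq (c / ∏ i, (g₀ i : Ω)) hd
  have ha0 : a ≠ 0 := by
    rintro rfl
    rw [zero_pow hd.ne'] at ha
    exact div_ne_zero hc hne ha.symm
  refine ⟨fun i => a * g₀ i, fun _ => ⟨fun i j h => g₀.injective (Subtype.ext (mul_left_cancel₀ ha0 h)), ?_⟩⟩
  rw [Finset.prod_mul_distrib, Finset.prod_const, Finset.card_univ, Fintype.card_fin, ha,
    div_mul_cancel₀ _ hne]

/-- The test function for the commutator of two invertible matrices. -/
noncomputable def testFun {R : Type w} [CommRing R] (A B G H : Matrix (Fin d) (Fin d) R) : R :=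
  (A * (G * H * G.adjugate * H.adjugate) * B).charpoly.resultant
    (derivative (A * (G * H * G.adjugate * H.adjugate) * B).charpoly) d d * G.det * H.det

theorem map_testFun {R : Type w} [CommRing R] {S : Type w} [CommRing S] (e : R →+* S)
    (A B G H : Matrix (Fin d) (Fin d) R) :
    e (testFun A B G H) = testFun (e.mapMatrix A) (e.mapMatrix B) (e.mapMatrix G) (e.mapMatrix H) := by
  have hW : e.mapMatrix (A * (G * H * G.adjugate * H.adjugate) * B) = e.mapMatrix A *
      (e.mapMatrix G * e.mapMatrix H * (e.mapMatrix G).adjugate * (e.mapMatrix H).adjugate) *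
      e.mapMatrix B := by
    simp only [map_mul, RingHom.map_adjugate]
  rw [testFun, testFun, ← hW, RingHom.mapMatrix_apply (M := A * _ * B), Matrix.charpoly_map,
    derivative_map, resultant_map_map, map_mul, map_mul, RingHom.map_det, RingHom.map_det]

theorem separable_iff_resultant (hd : 0 < d) (M : Mat) :
    M.charpoly.Separable ↔ M.charpoly.resultant (derivative M.charpoly) d d ≠ 0 := by
  have hdeg : M.charpoly.natDegree = d := by rw [Matrix.charpoly_natDegree_eq_dim, Fintype.card_fin]
  constructor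
  · intro hM
    obtain ⟨e, he⟩ := Nat.exists_eq_add_of_le ((natDegree_derivative_le M.charpoly).trans (by omega) :
      (derivative M.charpoly).natDegree ≤ d)
    have h1 : M.charpoly.coeff d = 1 := (congrArg M.charpoly.coeff hdeg.symm).trans
      (Matrix.charpoly_monic M).coeff_natDegree
    rw [show M.charpoly.resultant (derivative M.charpoly) d d =
      M.charpoly.resultant (derivative M.charpoly) d ((derivative M.charpoly).natDegree + e) from
        congrArg (fun n => M.charpoly.resultant (derivative M.charpoly) d n) he,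
      resultant_add_right_deg _ _ _ _ _ le_rfl, h1, one_pow, one_mul]
    have h2 := resultant_ne_zero M.charpoly (derivative M.charpoly) hM
    rwa [hdeg] at h2
  · intro hM
    obtain ⟨a, b, -, -, hab⟩ := exists_mul_add_mul_eq_C_resultant M.charpoly (derivative M.charpoly)
      (m := d) (n := d) hdeg.le ((natDegree_derivative_le _).trans (by omega)) (Or.inl (by omega))
    refine ⟨C ((M.charpoly.resultant (derivative M.charpoly) d d)⁻¹) * a,
      C ((M.charpoly.resultant (derivative M.charpoly) d d)⁻¹) * b, ?_⟩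
    rw [mul_assoc, mul_assoc, ← mul_add, mul_comm a, mul_comm b, hab, ← C_mul, inv_mul_cancel₀ hM, C_1]

theorem smul_commutator (A B G H : Mat) (hG : G.det ≠ 0) (hH : H.det ≠ 0) :
    A * (G * H * G.adjugate * H.adjugate) * B =
      (G.det * H.det) • (A * (G * H * G⁻¹ * H⁻¹) * B) := by
  rw [Matrix.inv_def, Matrix.inv_def, Ring.inverse_eq_inv, Ring.inverse_eq_inv]
  simp only [Matrix.mul_smul, Matrix.smul_mul, smul_smul]
  rw [show G.det * H.det * (H.det⁻¹ * G.det⁻¹) = 1 by field_simp, one_smul]

theorem testFun_ne_zero_iff [Infinite Ω] (hd : 0 < d) (A B G H : Mat) :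
    testFun A B G H ≠ 0 ↔
      G.det ≠ 0 ∧ H.det ≠ 0 ∧ (A * (G * H * G⁻¹ * H⁻¹) * B).charpoly.Separable := by
  rw [testFun, mul_ne_zero_iff, mul_ne_zero_iff, ← separable_iff_resultant hd]
  constructor
  · rintro ⟨⟨h1, hG⟩, hH⟩
    refine ⟨hG, hH, ?_⟩
    rw [smul_commutator A B G H hG hH] at h1
    have h := separable_charpoly_smul (inv_ne_zero (mul_ne_zero hG hH)) h1
    rwa [smul_smul, inv_mul_cancel₀ (mul_ne_zero hG hH), one_smul] at h
  · rintro ⟨hG, hH, h⟩
    refine ⟨⟨?_, hG⟩, hH⟩
    rw [smul_commutator A B G H hG hH]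
    exact separable_charpoly_smul (mul_ne_zero hG hH) h

variable {k : Type u} [Field k] [Algebra k Ω] {D : Type v} [DivisionRing D] [Algebra k D]

theorem exists_point [Infinite k] {n : ℕ} (E : Fin n → Mat) (A B : Mat) (y z : Fin n → Ω)
    (h : testFun A B (∑ i, y i • E i) (∑ i, z i • E i) ≠ 0) :
    ∃ y z : Fin n → k, testFun A B (∑ i, algebraMap k Ω (y i) • E i)
      (∑ i, algebraMap k Ω (z i) • E i) ≠ 0 := by
  classical
  let R := MvPolynomial (Fin n ⊕ Fin n) Ω
  let ι : Ω →+* R := MvPolynomial.C
  let GG : (Fin n → Fin n ⊕ Fin n) → Matrix (Fin d) (Fin d) R := fun e =>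
    ∑ i, (MvPolynomial.X (e i) : R) • ι.mapMatrix (E i)
  let p : R := testFun (ι.mapMatrix A) (ι.mapMatrix B) (GG Sum.inl) (GG Sum.inr)
  have hGG : ∀ (x : Fin n ⊕ Fin n → Ω) (e : Fin n → Fin n ⊕ Fin n),
      (MvPolynomial.eval x).mapMatrix (GG e) = ∑ i, x (e i) • E i := fun x e => by
    rw [map_sum]
    refine Finset.sum_congr rfl fun i _ => ?_
    ext r c
    simp [ι]
    exact Or.inl (MvPolynomial.eval_C _)
  have hA : ∀ (x : Fin n ⊕ Fin n → Ω) (M : Mat), (MvPolynomial.eval x).mapMatrix (ι.mapMatrix M) = M :=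
    fun x M => by ext r c; simp [ι]; exact MvPolynomial.eval_C _
  have heval : ∀ x, MvPolynomial.eval x p =
      testFun A B (∑ i, x (Sum.inl i) • E i) (∑ i, x (Sum.inr i) • E i) := fun x => by
    rw [map_testFun, hA, hA, hGG, hGG]
  have hp0 : p ≠ 0 := fun h0 => h (by
    have := heval (Sum.elim y z)
    rw [h0, map_zero] at this
    simpa using this.symm)
  by_contra hc
  push Not at hc
  refine hp0 (MvPolynomial.funext_set (fun _ => Set.range (algebraMap k Ω))
    (fun _ => Set.infinite_range_of_injective (algebraMap k Ω).injective) fun x hx => ?_)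
  choose w hw using fun i => hx i (Set.mem_univ i)
  rw [map_zero, heval, ← hc (fun i => w (Sum.inl i)) (fun i => w (Sum.inr i))]
  simp only [hw]

theorem exists_comm_separable [Infinite k] [FiniteDimensional k D] (φ : D →ₐ[k] Mat)
    (hspan : Submodule.span Ω (Set.range φ) = ⊤) (hd : 0 < d) (A B X : Mat) (hX : X ∈ comms Ω d)
    (hsep : (A * X * B).charpoly.Separable) :
    ∃ s : D, s ≠ 0 ∧ (φ s).det = 1 ∧ (A * φ s * B).charpoly.Separable := by
  classical
  haveI : Infinite Ω := Infinite.of_injective _ (algebraMap k Ω).injective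
  haveI : Nonempty (Fin d) := ⟨⟨0, hd⟩⟩
  obtain ⟨G, H, hG, hH, rfl⟩ := hX
  let b := Module.finBasis k D
  have hgen : ∀ Y : Mat, ∃ y : Fin (Module.finrank k D) → Ω, ∑ i, y i • φ (b i) = Y := fun Y => by
    refine Submodule.mem_span_range_iff_exists_fun Ω |>.1 ?_
    have hY : Y ∈ Submodule.span Ω (Set.range φ) := hspan ▸ Submodule.mem_top
    refine Submodule.span_le.2 ?_ hY
    rintro _ ⟨x, rfl⟩
    rw [SetLike.mem_coe, ← b.sum_repr x, map_sum]
    refine Submodule.sum_mem _ fun i _ => ?_
    rw [map_smul, ← algebraMap_smul Ω (b.repr x i)]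
    exact Submodule.smul_mem _ _ (Submodule.subset_span ⟨i, rfl⟩)
  obtain ⟨y, hy⟩ := hgen G
  obtain ⟨z, hz⟩ := hgen H
  obtain ⟨y', z', h⟩ := exists_point (k := k) (fun i => φ (b i)) A B y z
    (by rw [hy, hz]; exact (testFun_ne_zero_iff hd A B G H).2 ⟨hG, hH, hsep⟩)
  simp only [algebraMap_smul, ← map_smul, ← map_sum] at h
  generalize ∑ i, y' i • b i = g at h
  generalize ∑ i, z' i • b i = f at h
  obtain ⟨hg, hf, hsep'⟩ := (testFun_ne_zero_iff hd A B (φ g) (φ f)).1 h
  have hg0 : g ≠ 0 := fun h0 => hg (by rw [h0, map_zero, Matrix.det_zero])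
  have hf0 : f ≠ 0 := fun h0 => hf (by rw [h0, map_zero, Matrix.det_zero])
  have hinv : ∀ a : D, a ≠ 0 → φ a⁻¹ = (φ a)⁻¹ := fun a ha =>
    (Matrix.inv_eq_right_inv (by rw [← map_mul, mul_inv_cancel₀ ha, map_one])).symm
  refine ⟨g * f * g⁻¹ * f⁻¹,
    mul_ne_zero (mul_ne_zero (mul_ne_zero hg0 hf0) (inv_ne_zero hg0)) (inv_ne_zero hf0), ?_, ?_⟩
  · rw [map_mul, map_mul, map_mul, hinv g hg0, hinv f hf0, Matrix.det_mul, Matrix.det_mul,
      Matrix.det_mul, Matrix.det_nonsing_inv, Matrix.det_nonsing_inv, Ring.inverse_eq_inv,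
      Ring.inverse_eq_inv]
    field_simp
  · rw [map_mul, map_mul, map_mul, hinv g hg0, hinv f hf0]
    exact hsep'

theorem exists_closure_separable [Infinite k] [FiniteDimensional k D] (φ : D →ₐ[k] Mat)
    (hspan : Submodule.span Ω (Set.range φ) = ⊤) (hd : 0 < d) {X : Mat}
    (hX : X ∈ Submonoid.closure (comms Ω d)) :
    ∀ A B : Mat, (A * X * B).charpoly.Separable →
      ∃ s : D, s ≠ 0 ∧ (φ s).det = 1 ∧ (A * φ s * B).charpoly.Separable := by
  induction hX using Submonoid.closure_induction with
  | mem x hx => exact fun A B h => exists_comm_separable φ hspan hd A B x hx h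
  | one => exact fun A B h => ⟨1, one_ne_zero, by rw [map_one, Matrix.det_one], by rwa [map_one]⟩
  | mul x y _ _ ihx ihy =>
    intro A B h
    obtain ⟨s, hs, hsd, hs'⟩ := ihx A (y * B) (by rwa [← mul_assoc, mul_assoc A x y])
    obtain ⟨t, ht, htd, ht'⟩ := ihy (A * φ s) B (by rwa [← mul_assoc] at hs')
    exact ⟨s * t, mul_ne_zero hs ht, by rw [map_mul, Matrix.det_mul, hsd, htd, one_mul],
      by rwa [map_mul, ← mul_assoc A]⟩

/-- In every class modulo norm one there is an element with separable characteristic polynomial. -/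
theorem exists_separable [Infinite k] [IsAlgClosed Ω] [FiniteDimensional k D] (φ : D →ₐ[k] Mat)
    (hspan : Submodule.span Ω (Set.range φ) = ⊤) (hd : 0 < d) {t : D} (ht : t ≠ 0) :
    ∃ z : D, (φ z).det = (φ t).det ∧ (φ z).charpoly.Separable := by
  classical
  haveI : Infinite Ω := Infinite.of_injective _ (algebraMap k Ω).injective
  have hT : (φ t).det ≠ 0 := by
    intro h0
    have h1 := congrArg (fun x => (φ x).det) (mul_inv_cancel₀ ht)
    simp only [map_mul, map_one, Matrix.det_mul, Matrix.det_one, h0, zero_mul] at h1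
    exact zero_ne_one h1
  obtain ⟨f, hf⟩ := exists_distinct_prod (d := d) _ hT
  obtain ⟨hinj, hprod⟩ := hf hd
  have hdet : ((φ t)⁻¹ * Matrix.diagonal f).det = 1 := by
    rw [Matrix.det_mul, Matrix.det_nonsing_inv, Ring.inverse_eq_inv, Matrix.det_diagonal, hprod,
      inv_mul_cancel₀ hT]
  obtain ⟨s, -, hsd, hs⟩ := exists_closure_separable φ hspan hd (mem_closure_of_det_eq_one _ hdet)
    (φ t) 1 (by
      rw [mul_one, ← mul_assoc, Matrix.mul_nonsing_inv _ (isUnit_iff_ne_zero.2 hT), one_mul,
        Matrix.charpoly_diagonal]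
      exact separable_prod_X_sub_C_iff.2 hinj)
  exact ⟨t * s, by rw [map_mul, Matrix.det_mul, hsd, mul_one], by rwa [map_mul, ← mul_one (φ t * φ s)]⟩

end Groth.Agent.CSALib.Generic

namespace Groth.Agent.CSALib

open Polynomial TensorProduct

theorem natDegree_minpoly_of_subsingleton {k : Type u} [Field k] {D : Type v} [DivisionRing D] [Algebra k D]
    [Algebra.IsCentral k D] [FiniteDimensional k D] [Finite k] (t : D) :
    Module.finrank k D = 1 ∧ IsSeparable k t ∧ (minpoly k t).natDegree = 1 := by
  haveI : Finite D := Module.finite_of_finite k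
  have hcomm : ∀ a b : D, a * b = b * a := by
    letI := littleWedderburn D
    exact fun a b => mul_comm a b
  have hall : ∀ a : D, ∃ r : k, algebraMap k D r = a := fun a => by
    have h : a ∈ Subalgebra.center k D := Subalgebra.mem_center_iff.2 fun b => hcomm b a
    rw [Algebra.IsCentral.center_eq_bot, Algebra.mem_bot] at h
    obtain ⟨r, hr⟩ := h
    exact ⟨r, hr⟩
  refine ⟨finrank_eq_one (1 : D) one_ne_zero fun a => ?_, ?_, minpoly.natDegree_eq_one_iff.2 ?_⟩
  · obtain ⟨r, hr⟩ := hall a
    exact ⟨r, by rw [← Algebra.algebraMap_eq_smul_one, hr]⟩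
  · obtain ⟨r, rfl⟩ := hall t
    show (minpoly k (algebraMap k D r)).Separable
    rw [minpoly.eq_X_sub_C]
    exact separable_X_sub_C
  · obtain ⟨r, hr⟩ := hall t
    exact ⟨r, hr⟩

/-- Every reduced norm from a division algebra is the norm of a separable element of maximal degree. -/
theorem exists_separable_norm {k : Type u} [Field k] {D : Type v} [DivisionRing D] [Algebra k D]
    [Algebra.IsCentral k D] [FiniteDimensional k D] {L : Type w} [Field L] [Algebra k L] {d : ℕ}
    (hd : 0 < d) (ψ : L ⊗[k] D ≃ₐ[L] Matrix (Fin d) (Fin d) L) {t : D} (ht : t ≠ 0) :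
    ∃ z : D, IsSeparable k z ∧ (minpoly k z).natDegree = d ∧
      algebraMap k L ((-1) ^ d * (minpoly k z).coeff 0) = (ψ (1 ⊗ₜ[k] t)).det := by
  classical
  haveI : Nonempty (Fin d) := ⟨⟨0, hd⟩⟩
  have hdim : Module.finrank k D = d ^ 2 := by
    have h := ψ.toLinearEquiv.finrank_eq
    rw [Module.finrank_baseChange, Module.finrank_matrix, Fintype.card_fin, Module.finrank_self,
      mul_one] at h
    rw [h, sq]
  let Ω := AlgebraicClosure L
  let φ : D →ₐ[k] Matrix (Fin d) (Fin d) Ω :=
    ((IsScalarTower.toAlgHom k L Ω).mapMatrix).comp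
      ((ψ.toAlgHom.restrictScalars k).comp Algebra.TensorProduct.includeRight)
  have hφ : ∀ a, φ a = (ψ (1 ⊗ₜ[k] a)).map (algebraMap L Ω) := fun a => rfl
  have hspan : Submodule.span Ω (Set.range φ) = ⊤ := by
    rw [eq_top_iff]
    have himg : ∀ w : L ⊗[k] D, (ψ w).map (algebraMap L Ω) ∈ Submodule.span Ω (Set.range φ) := by
      intro w
      induction w with
      | zero => rw [map_zero, Matrix.map_zero _ (map_zero _)]; exact zero_mem _
      | add a b ha hb => rw [map_add, Matrix.map_add _ (map_add _)]; exact add_mem ha hb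
      | tmul c a =>
        rw [show c ⊗ₜ[k] a = c • ((1 : L) ⊗ₜ[k] a) by rw [TensorProduct.smul_tmul', smul_eq_mul, mul_one],
          map_smul, show (c • ψ (1 ⊗ₜ[k] a)).map (algebraMap L Ω) = algebraMap L Ω c • φ a by
            ext i j; simp [hφ]]
        exact Submodule.smul_mem _ _ (Submodule.subset_span ⟨a, rfl⟩)
    intro Y _
    rw [Matrix.matrix_eq_sum_single Y]
    refine Submodule.sum_mem _ fun i _ => Submodule.sum_mem _ fun j _ => ?_
    have h : Matrix.single i j (Y i j) = Y i j • ((Matrix.single i j (1 : L)).map (algebraMap L Ω)) := by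
      ext p q
      by_cases h : i = p ∧ j = q <;> simp [Matrix.single_apply, h]
    rw [h, ← ψ.apply_symm_apply (Matrix.single i j (1 : L))]
    exact Submodule.smul_mem _ _ (himg _)
  have key : ∀ z : D, (φ z).det = (φ t).det → (φ z).charpoly.Separable →
      IsSeparable k z ∧ (minpoly k z).natDegree = d ∧
        algebraMap k L ((-1) ^ d * (minpoly k z).coeff 0) = (ψ (1 ⊗ₜ[k] t)).det := by
    intro z hdet hsep
    have hint : IsIntegral k z := Algebra.IsIntegral.isIntegral z
    set Q := (minpoly k z).map (algebraMap k Ω) with hQ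
    have hQm : Q.Monic := (minpoly.monic hint).map _
    have hann : aeval (φ z) Q = 0 := by
      rw [hQ, aeval_map_algebraMap, aeval_algHom_apply, minpoly.aeval, map_zero]
    have hchi : (φ z).charpoly.natDegree = d := by
      rw [Matrix.charpoly_natDegree_eq_dim, Fintype.card_fin]
    have hroots : ∀ a ∈ (φ z).charpoly.roots, a ∈ Q.roots := by
      intro a ha
      rw [mem_roots hQm.ne_zero, IsRoot.def]
      obtain ⟨v, hv0, hv⟩ := Matrix.exists_mulVec_eq_zero_iff.2
        (show (Matrix.scalar (Fin d) a - φ z).det = 0 by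
          rw [← Matrix.eval_charpoly]; exact isRoot_of_mem_roots ha)
      have hvec : (φ z).mulVec v = a • v := by
        rw [Matrix.sub_mulVec, sub_eq_zero] at hv
        rw [← hv]
        funext i
        simp [Matrix.scalar_apply, Matrix.mulVec_diagonal]
      have heig : ∀ R : Ω[X], (aeval (φ z) R).mulVec v = R.eval a • v := by
        intro R
        induction R using Polynomial.induction_on' with
        | add p q hp hq => rw [map_add, Matrix.add_mulVec, hp, hq, eval_add, add_smul]
        | monomial n c =>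
          rw [aeval_monomial, eval_monomial, ← Algebra.smul_def, Matrix.smul_mulVec, mul_smul]
          congr 1
          induction n with
          | zero => simp
          | succ n ih => rw [pow_succ, ← Matrix.mulVec_mulVec, hvec, Matrix.mulVec_smul, ih, smul_smul,
              ← pow_succ']
      have h := heig Q
      rw [hann, Matrix.zero_mulVec] at h
      exact (smul_eq_zero.1 h.symm).resolve_right hv0
    have hdvd : (φ z).charpoly ∣ Q := by
      rw [(IsAlgClosed.splits (φ z).charpoly).eq_prod_roots_of_monic (Matrix.charpoly_monic _)]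
      exact (Multiset.prod_X_sub_C_dvd_iff_le_roots hQm.ne_zero _).2
        ((Multiset.le_iff_subset (nodup_roots hsep)).2 hroots)
    have hle : Q.natDegree ≤ d := by
      rw [hQ, natDegree_map]; exact natDegree_minpoly_le hdim z
    have heq : (φ z).charpoly = Q :=
      (eq_of_monic_of_dvd_of_natDegree_le (Matrix.charpoly_monic _) hQm hdvd (hle.trans hchi.ge)).symm
    refine ⟨(separable_map (algebraMap k Ω)).1 (hQ ▸ heq ▸ hsep), ?_, ?_⟩
    · rw [← natDegree_map (algebraMap k Ω) (p := minpoly k z), ← hQ, ← heq, hchi]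
    · refine (algebraMap L Ω).injective ?_
      have h1 : (φ t).det = algebraMap L Ω (ψ (1 ⊗ₜ[k] t)).det := by
        rw [hφ, RingHom.map_det]; rfl
      rw [← h1, ← hdet, Matrix.det_eq_sign_charpoly_coeff, heq, hQ, coeff_map, Fintype.card_fin,
        ← IsScalarTower.algebraMap_apply, map_mul, map_pow, map_neg, map_one]
  rcases finite_or_infinite k with hk | hk
  · obtain ⟨h1, hsep, hdeg⟩ := natDegree_minpoly_of_subsingleton (k := k) t
    obtain rfl : d = 1 := by
      rw [h1] at hdim
      exact (pow_eq_one_iff.1 hdim.symm).resolve_right two_ne_zero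
    refine ⟨t, key t rfl ?_⟩
    exact Separable.of_dvd (g := (φ t).charpoly) (by
      rw [show (φ t).charpoly = X - C (φ t 0 0) by simp [Matrix.charpoly, Matrix.charmatrix]]
      exact separable_X_sub_C) dvd_rfl
  · obtain ⟨z, hdet, hsep⟩ := Generic.exists_separable φ hspan hd ht
    exact ⟨z, key z hdet hsep⟩

end Groth.Agent.CSALib
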