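import Groth.Agent.CSALib.FactorSet
import Groth.Agent.CSALib.RedNorm
import Mathlib.LinearAlgebra.Matrix.Charpoly.Coeff
import Mathlib.LinearAlgebra.Matrix.ToLinearEquiv
import Mathlib.FieldTheory.IsAlgClosed.AlgebraicClosure
import Mathlib.RingTheory.UniqueFactorizationDomain.Multiplicity

/-!
The reduced characteristic polynomial, and elements with a central power.
-/

universe u v w

namespace Groth.Agent.CSALib

open TensorProduct Polynomial

variable {K : Type u} [Field K] {A : Type v} [Ring A] [Algebra K A]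

/-- One splitting under which every characteristic polynomial has coefficients in the base field. -/
theorem exists_splitting_redCharpoly [Algebra.IsCentral K A] [IsSimpleRing A] [FiniteDimensional K A]
    {n : ℕ} (hn : Module.finrank K A = n ^ 2) :
    ∃ (L : Type u) (_ : Field L) (_ : Algebra K L) (g : A →ₐ[K] Matrix (Fin n) (Fin n) L),
      ∀ a : A, ∃ P : K[X], P.Monic ∧ P.natDegree = n ∧ P.map (algebraMap K L) = (g a).charpoly := by
  obtain ⟨L, _, _, n', hn', _, _, ⟨φ⟩⟩ := exists_galois_splitting K A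
  obtain ⟨g, u, c, hd, -, hg, -⟩ := exists_factorSet φ
  obtain rfl : n = n' := Nat.pow_left_injective two_ne_zero (hn.symm.trans hd)
  refine ⟨L, ‹_›, ‹_›, g, fun a => ?_⟩
  have hfix : ∀ σ : L ≃ₐ[K] L, (g a).charpoly.map (σ : L →+* L) = (g a).charpoly := fun σ => by
    rw [← Matrix.charpoly_map]
    have h : (g a).map σ = ((u σ)⁻¹ : GL (Fin n) L).1 * g a * (u σ).1 := by
      rw [mul_assoc, hg, ← mul_assoc, Units.inv_mul, one_mul]
    rw [show (g a).map ⇑(σ : L →+* L) = (g a).map σ from rfl, h, Matrix.coe_units_inv]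
    exact Matrix.charpoly_units_conj' (u σ) (g a)
  have hlift : (g a).charpoly ∈ Polynomial.lifts (algebraMap K L) := by
    rw [Polynomial.lifts_iff_coeff_lifts]
    intro i
    obtain ⟨r, hr⟩ := IntermediateField.mem_bot.1 ((IsGalois.mem_bot_iff_fixed _).2 fun σ => by
      have h := congrArg (fun p => p.coeff i) (hfix σ)
      simpa using h)
    exact ⟨r, hr⟩
  obtain ⟨P, hP, hPdeg, hPm⟩ :=
    Polynomial.lifts_and_natDegree_eq_and_monic hlift (Matrix.charpoly_monic _)
  exact ⟨P, hPm, by rw [hPdeg, Matrix.charpoly_natDegree_eq_dim, Fintype.card_fin], hP⟩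

/-- The reduced characteristic polynomial has coefficients in the base field. -/
theorem exists_redCharpoly [Algebra.IsCentral K A] [IsSimpleRing A] [FiniteDimensional K A] {n : ℕ}
    (hn : Module.finrank K A = n ^ 2) (a : A) :
    ∃ (L : Type u) (_ : Field L) (_ : Algebra K L) (g : A →ₐ[K] Matrix (Fin n) (Fin n) L)
      (P : K[X]), P.Monic ∧ P.natDegree = n ∧ P.map (algebraMap K L) = (g a).charpoly := by
  obtain ⟨L, _, _, g, h⟩ := exists_splitting_redCharpoly (A := A) hn
  obtain ⟨P, hP⟩ := h a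
  exact ⟨L, ‹_›, ‹_›, g, P, hP⟩

/-- Over a field with all roots of unity the irreducible factors of `X ^ m - c` are binomials. -/
theorem irreducible_eq_binomial (hK : ∀ n : ℕ, 0 < n → (X ^ n - 1 : K[X]).Splits) {m : ℕ}
    (hm : 0 < m) {c : K} (hc : c ≠ 0) {Q : K[X]} (hQ : Irreducible Q) (hQm : Q.Monic)
    (hdvd : Q ∣ X ^ m - C c) : ∃ a : K, a ≠ 0 ∧ Q = X ^ Q.natDegree - C a := by
  classical
  haveI : Fact (Irreducible Q) := ⟨hQ⟩
  let α := AdjoinRoot.root Q
  let ι := algebraMap K (AdjoinRoot Q)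
  have hα : α ^ m = ι c := by
    obtain ⟨R, hR⟩ := hdvd
    have h := congrArg (aeval α) hR
    rw [map_mul, show aeval α Q = 0 by rw [AdjoinRoot.aeval_eq, AdjoinRoot.mk_self], zero_mul,
      map_sub, map_pow, aeval_X, aeval_C, sub_eq_zero] at h
    exact h
  have hα0 : α ≠ 0 := fun h0 => hc (ι.injective (by rw [map_zero, ← hα, h0, zero_pow hm.ne']))
  have hsplit : ((X ^ m - C c : K[X]).map ι).Splits := by
    have h1 : (((X ^ m - 1 : K[X]).map ι).comp (C α⁻¹ * X)).Splits := by
      refine Splits.comp_of_degree_le_one ((hK m hm).map ι) ?_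
      exact (degree_mul_le _ _).trans (add_le_add degree_C_le degree_X_le) |>.trans (by simp)
    have h2 : ((X ^ m - C c : K[X]).map ι) =
        C (α ^ m) * (((X ^ m - 1 : K[X]).map ι).comp (C α⁻¹ * X)) := by
      rw [Polynomial.map_sub, Polynomial.map_sub, Polynomial.map_pow, map_X, map_C, Polynomial.map_one,
        sub_comp, pow_comp, X_comp, one_comp, mul_pow, ← C_pow, mul_sub, mul_one, ← mul_assoc, ← C_mul,
        ← mul_pow, mul_inv_cancel₀ hα0, one_pow, C_1, one_mul, hα]
    rw [h2]
    exact (Splits.C _).mul h1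
  have hne : ((X ^ m - C c : K[X]).map ι) ≠ 0 :=
    Polynomial.map_ne_zero (X_pow_sub_C_ne_zero hm c)
  have hQs : (Q.map ι).Splits := hsplit.of_dvd hne (Polynomial.map_dvd ι hdvd)
  have hroots : ∀ y ∈ (Q.map ι).roots, ∃ z : K, y = ι z * α := by
    intro y hy
    have hy1 : ((X ^ m - C c : K[X]).map ι).IsRoot y :=
      (isRoot_of_mem_roots hy).dvd (Polynomial.map_dvd ι hdvd)
    have hym : y ^ m = ι c := by
      simpa [IsRoot.def, sub_eq_zero] using hy1
    have h3 : ((X ^ m - 1 : K[X]).map ι).IsRoot (y / α) := by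
      simp only [IsRoot.def, Polynomial.map_sub, Polynomial.map_pow, map_X, Polynomial.map_one,
        eval_sub, eval_pow, eval_X, eval_one, div_pow, hym, hα]
      rw [div_self (fun h => hc (ι.injective (by rw [h, map_zero]))), sub_self]
    obtain ⟨z, hz⟩ := (hK m hm).mem_range_of_isRoot (by simpa using X_pow_sub_C_ne_zero hm (1 : K)) h3
    exact ⟨z, by rw [hz, div_mul_cancel₀ _ hα0]⟩
  have hprod : ∀ s : Multiset (AdjoinRoot Q), (∀ y ∈ s, ∃ z : K, y = ι z * α) →
      ∃ z : K, s.prod = ι z * α ^ Multiset.card s := by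
    intro s
    induction s using Multiset.induction_on with
    | empty => exact fun _ => ⟨1, by simp⟩
    | cons y s ih =>
      intro h
      obtain ⟨z, hz⟩ := h y (Multiset.mem_cons_self _ _)
      obtain ⟨z', hz'⟩ := ih fun w hw => h w (Multiset.mem_cons_of_mem hw)
      exact ⟨z * z', by rw [Multiset.prod_cons, hz, hz', Multiset.card_cons, map_mul]; ring⟩
  obtain ⟨z, hz⟩ := hprod _ hroots
  have h4 := hQs.coeff_zero_eq_prod_roots_of_monic (hQm.map ι)
  rw [coeff_map, hz, ← hQs.natDegree_eq_card_roots, natDegree_map] at h4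
  set d := Q.natDegree with hd
  have hdpos : 0 < d := Irreducible.natDegree_pos hQ
  have hcoeff : Q.coeff 0 ≠ 0 := by
    intro h0
    have hX : X ∣ Q := X_dvd_iff.2 h0
    have hX2 : (X : K[X]) ∣ X ^ m - C c := hX.trans hdvd
    rw [X_dvd_iff, coeff_sub, coeff_X_pow, coeff_C_zero, if_neg (by omega), zero_sub, neg_eq_zero]
      at hX2
    exact hc hX2
  have hz0 : ι ((-1) ^ d * z) ≠ 0 := by
    intro h0
    apply hcoeff
    apply ι.injective
    rw [map_zero, h4, ← mul_assoc]
    rw [map_mul, map_pow, map_neg, map_one] at h0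
    rw [h0, zero_mul]
  have hαd : α ^ d = ι (Q.coeff 0 / ((-1) ^ d * z)) := by
    rw [map_div₀, eq_div_iff hz0, h4, map_mul, map_pow, map_neg, map_one]
    ring
  refine ⟨Q.coeff 0 / ((-1) ^ d * z), ?_, ?_⟩
  · intro h0
    rw [h0, map_zero] at hαd
    exact hα0 (eq_zero_of_pow_eq_zero hαd)
  · refine eq_of_monic_of_dvd_of_natDegree_le hQm (monic_X_pow_sub_C _ hdpos.ne') ?_
      (natDegree_X_pow_sub_C.le) |>.symm
    rw [← AdjoinRoot.mk_eq_zero, ← AdjoinRoot.aeval_eq, map_sub, map_pow, aeval_X, aeval_C]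
    exact sub_eq_zero.2 hαd

/-- All irreducible factors of `X ^ m - c` have the same degree. -/
theorem natDegree_eq_of_dvd_binomial (hK : ∀ n : ℕ, 0 < n → (X ^ n - 1 : K[X]).Splits) {m : ℕ}
    (hm : 0 < m) {c : K} (hc : c ≠ 0) {P Q : K[X]} (hP : Irreducible P) (hPm : P.Monic)
    (hPd : P ∣ X ^ m - C c) (hQ : Irreducible Q) (hQm : Q.Monic) (hQd : Q ∣ X ^ m - C c) :
    P.natDegree = Q.natDegree := by
  suffices key : ∀ {P Q : K[X]}, Irreducible P → P.Monic → P ∣ X ^ m - C c → Irreducible Q → Q.Monic →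
      Q ∣ X ^ m - C c → Q.natDegree ≤ P.natDegree from
    le_antisymm (key hQ hQm hQd hP hPm hPd) (key hP hPm hPd hQ hQm hQd)
  intro P Q hP hPm hPd hQ hQm hQd
  let Ω := AlgebraicClosure K
  obtain ⟨α, hα⟩ := IsAlgClosed.exists_aeval_eq_zero Ω P (degree_pos_of_irreducible hP).ne'
  obtain ⟨β, hβ⟩ := IsAlgClosed.exists_aeval_eq_zero Ω Q (degree_pos_of_irreducible hQ).ne'
  have hpow : ∀ {R : K[X]} {γ : Ω}, R ∣ X ^ m - C c → aeval γ R = 0 → γ ^ m = algebraMap K Ω c := by
    intro R γ ⟨S, hS⟩ h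
    have h' := congrArg (aeval γ) hS
    rw [map_mul, h, zero_mul, map_sub, map_pow, aeval_X, aeval_C, sub_eq_zero] at h'
    exact h'
  have hα0 : α ≠ 0 := fun h0 => hc ((algebraMap K Ω).injective (by
    rw [map_zero, ← hpow hPd hα, h0, zero_pow hm.ne']))
  have h3 : ((X ^ m - 1 : K[X]).map (algebraMap K Ω)).IsRoot (β / α) := by
    simp only [IsRoot.def, Polynomial.map_sub, Polynomial.map_pow, map_X, Polynomial.map_one,
      eval_sub, eval_pow, eval_X, eval_one, div_pow, hpow hPd hα, hpow hQd hβ]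
    rw [div_self (fun h => hc ((algebraMap K Ω).injective (by rw [h, map_zero]))), sub_self]
  obtain ⟨ζ, hζ⟩ := (hK m hm).mem_range_of_isRoot
    (by simpa using X_pow_sub_C_ne_zero hm (1 : K)) h3
  obtain ⟨a, ha, hPa⟩ := irreducible_eq_binomial hK hm hc hP hPm hPd
  have hαd : α ^ P.natDegree = algebraMap K Ω a := by
    have h := hα
    rw [hPa, map_sub, map_pow, aeval_X, aeval_C, sub_eq_zero] at h
    exact h
  have hQdvd : Q ∣ X ^ P.natDegree - C (ζ ^ P.natDegree * a) := by
    rw [minpoly.eq_of_irreducible_of_monic hQ hβ hQm]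
    refine minpoly.dvd K β ?_
    rw [map_sub, map_pow, aeval_X, aeval_C, map_mul, map_pow, hζ, ← hαd, div_pow,
      div_mul_cancel₀ _ (pow_ne_zero _ hα0), sub_self]
  have := natDegree_le_of_dvd hQdvd (X_pow_sub_C_ne_zero (Irreducible.natDegree_pos hP) _)
  rwa [natDegree_X_pow_sub_C] at this

/-- An element with a central power: the degree of a factor of its minimal polynomial divides the
degree of the algebra. -/
theorem natDegree_dvd_degree [Algebra.IsCentral K A] [IsSimpleRing A] [FiniteDimensional K A]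
    (hK : ∀ n : ℕ, 0 < n → (X ^ n - 1 : K[X]).Splits) {n : ℕ} (hn : Module.finrank K A = n ^ 2)
    {x : A} {m : ℕ} (hm : 0 < m) {c : K} (hc : c ≠ 0) (hx : x ^ m = algebraMap K A c) {Q : K[X]}
    (hQ : Irreducible Q) (hQm : Q.Monic) (hQd : Q ∣ X ^ m - C c) : Q.natDegree ∣ n := by
  classical
  obtain ⟨L, _, _, g, P, hPm, hPn, hP⟩ := exists_redCharpoly hn x
  have hfac : ∀ R ∈ UniqueFactorizationMonoid.normalizedFactors P, R.natDegree = Q.natDegree := by
    intro R hR
    have hRirr := UniqueFactorizationMonoid.irreducible_of_normalized_factor R hR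
    have hRm : R.Monic := by
      rw [← UniqueFactorizationMonoid.normalize_normalized_factor R hR]
      exact Polynomial.monic_normalize hRirr.ne_zero
    refine natDegree_eq_of_dvd_binomial hK hm hc hRirr hRm ?_ hQ hQm hQd
    let Ω := AlgebraicClosure L
    letI : Algebra K Ω := ((algebraMap L Ω).comp (algebraMap K L)).toAlgebra
    obtain ⟨α, hα⟩ := IsAlgClosed.exists_aeval_eq_zero Ω R (degree_pos_of_irreducible hRirr).ne'
    let M : Matrix (Fin n) (Fin n) Ω := (g x).map (algebraMap L Ω)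
    have hαP : M.charpoly.IsRoot α := by
      rw [show M.charpoly = (g x).charpoly.map (algebraMap L Ω) from Matrix.charpoly_map _ _, ← hP,
        Polynomial.map_map]
      obtain ⟨S, hS⟩ := UniqueFactorizationMonoid.dvd_of_mem_normalizedFactors hR
      have h := congrArg (aeval α) hS
      rw [map_mul, hα, zero_mul, aeval_def, ← eval_map] at h
      exact h
    obtain ⟨v, hv0, hv⟩ : ∃ v ≠ 0, M.mulVec v = α • v := by
      have hdet : (Matrix.scalar (Fin n) α - M).det = 0 := by
        rw [← Matrix.eval_charpoly]; exact hαP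
      obtain ⟨v, hv0, hv⟩ := Matrix.exists_mulVec_eq_zero_iff.2 hdet
      refine ⟨v, hv0, ?_⟩
      rw [Matrix.sub_mulVec, sub_eq_zero] at hv
      rw [← hv]
      funext i
      simp [Matrix.scalar_apply, Matrix.mulVec_diagonal]
    have hpow : ∀ j, (M ^ j).mulVec v = α ^ j • v := fun j => by
      induction j with
      | zero => simp
      | succ j ih => rw [pow_succ, ← Matrix.mulVec_mulVec, hv, Matrix.mulVec_smul, ih, smul_smul, ← pow_succ']
    have hMm : M ^ m = algebraMap Ω (Matrix (Fin n) (Fin n) Ω) (algebraMap K Ω c) := by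
      rw [show M = (algebraMap L Ω).mapMatrix (g x) from rfl, ← map_pow, ← map_pow, hx, AlgHom.commutes]
      ext i j
      simp [Matrix.algebraMap_matrix_apply, apply_ite (algebraMap L Ω)]
      rfl
    have hαm : α ^ m = algebraMap K Ω c := by
      have h := hpow m
      rw [hMm, Algebra.algebraMap_eq_smul_one, Matrix.smul_mulVec, Matrix.one_mulVec] at h
      exact (smul_left_injective Ω hv0 h).symm
    rw [minpoly.eq_of_irreducible_of_monic hRirr hα hRm]
    exact minpoly.dvd K α (by rw [map_sub, map_pow, aeval_X, aeval_C, hαm, sub_self])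
  have hprod := UniqueFactorizationMonoid.prod_normalizedFactors (a := P) hPm.ne_zero
  have hdeg : (UniqueFactorizationMonoid.normalizedFactors P).prod.natDegree = n := by
    rw [natDegree_eq_of_degree_eq (degree_eq_degree_of_associated hprod), hPn]
  rw [natDegree_multiset_prod _ (fun h0 =>
      (UniqueFactorizationMonoid.irreducible_of_normalized_factor 0 h0).ne_zero rfl),
    Multiset.map_congr rfl hfac, Multiset.map_const', Multiset.sum_replicate, smul_eq_mul] at hdeg
  exact ⟨_, hdeg.symm.trans (mul_comm _ _)⟩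

end Groth.Agent.CSALib
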