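import Mathlib.Algebra.Azumaya.Basic
import Mathlib.Algebra.Central.TensorProduct
import Mathlib.RingTheory.SimpleRing.Congr
import Mathlib.RingTheory.SimpleRing.Basic
import Mathlib.RingTheory.SimpleModule.Basic
import Mathlib.LinearAlgebra.TensorProduct.Basis
import Mathlib.LinearAlgebra.FiniteDimensional.Lemmas
import Mathlib.LinearAlgebra.FreeModule.Finite.Matrix
import Mathlib.LinearAlgebra.Dimension.Constructions
import Mathlib.RingTheory.TwoSidedIdeal.Operations

/-!
Central simple algebras over a field: density, tensor products, the sandwich map.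
-/

universe u v w

namespace Groth.Agent.CSALib

open TensorProduct

variable (k : Type u) [Field k] (A : Type v) [Ring A] [Algebra k A]

/-- The image of `A ⊗ Aᵐᵒᵖ` in the linear endomorphisms of `A`. -/
noncomputable abbrev sandwich : Subalgebra k (Module.End k A) := (AlgHom.mulLeftRight k A).range

lemma sandwich_mem (a b : A) :
    AlgHom.mulLeftRight k A (a ⊗ₜ MulOpposite.op b) ∈ sandwich k A := ⟨_, rfl⟩

variable [IsSimpleRing A]

lemma isSimpleModule_sandwich : IsSimpleModule (sandwich k A) A where
  eq_bot_or_eq_top P := by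
    have key : ∀ (a b x : A), x ∈ P → a * x * b ∈ P := fun a b x hx => by
      have := P.smul_mem ⟨_, sandwich_mem k A a b⟩ hx
      simpa [Subalgebra.smul_def] using this
    let I : TwoSidedIdeal A := TwoSidedIdeal.mk' (P : Set A) P.zero_mem P.add_mem (fun {x} (h : x ∈ P) => by simpa using key (-1) 1 x h)
      (fun {x y} hy => by simpa using key x 1 y hy) (fun {x y} hx => by simpa using key 1 y x hx)
    have hI : ∀ x, x ∈ I ↔ x ∈ P := fun x => TwoSidedIdeal.mem_mk' ..
    rcases eq_bot_or_eq_top I with h | h
    · left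
      refine (Submodule.eq_bot_iff P).2 fun x hx => ?_
      have hx' := (hI x).2 hx
      rw [h] at hx'
      simpa using hx'
    · right
      refine Submodule.eq_top_iff'.2 fun x => (hI x).1 ?_
      rw [h]
      trivial

variable [Algebra.IsCentral k A]

omit [IsSimpleRing A] in
lemma sandwich_end_scalar (f : Module.End (sandwich k A) A) : ∃ c : k, ∀ x, f x = c • x := by
  have key : ∀ a b x : A, f (a * x * b) = a * f x * b := fun a b x => by
    have := f.map_smul ⟨_, sandwich_mem k A a b⟩ x
    simpa [Subalgebra.smul_def] using this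
  have hl : ∀ a, f a = a * f 1 := fun a => by simpa using key a 1 1
  have hr : ∀ a, f a = f 1 * a := fun a => by simpa using key 1 a 1
  have hc : f 1 ∈ Subalgebra.center k A :=
    Subalgebra.mem_center_iff.2 fun a => by rw [← hl, ← hr]
  obtain ⟨c, hc⟩ := Algebra.IsCentral.out hc
  refine ⟨c, fun x => ?_⟩
  rw [hr x, ← hc]
  simp [Algebra.smul_def]

/-- Density: any linear map agrees on a finite set with a combination of maps `x ↦ a * x * b`. -/
theorem exists_mulLeftRight_apply_eq (g : Module.End k A) (s : Finset A) :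
    ∃ t, ∀ m ∈ s, AlgHom.mulLeftRight k A t m = g m := by
  have := isSimpleModule_sandwich k A
  let g' : Module.End (Module.End (sandwich k A) A) A :=
    { toFun := g
      map_add' := map_add g
      map_smul' := fun φ x => by
        obtain ⟨c, hc⟩ := sandwich_end_scalar k A φ
        simp [Module.End.smul_def, hc] }
  obtain ⟨⟨r, t, rfl⟩, hr⟩ := jacobson_density (R := ↥(sandwich k A)) (M := A) g' s
  exact ⟨t, fun m hm => (hr m hm).symm⟩

theorem mulLeftRight_surjective [FiniteDimensional k A] :
    Function.Surjective (AlgHom.mulLeftRight k A) := fun g => by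
  classical
  let b := Module.finBasis k A
  obtain ⟨t, ht⟩ := exists_mulLeftRight_apply_eq k A g (Finset.univ.image b)
  exact ⟨t, b.ext fun i => ht _ (Finset.mem_image_of_mem _ (Finset.mem_univ i))⟩

theorem mulLeftRight_bijective [FiniteDimensional k A] :
    Function.Bijective (AlgHom.mulLeftRight k A) := by
  refine ⟨?_, mulLeftRight_surjective k A⟩
  have h : Module.finrank k (A ⊗[k] Aᵐᵒᵖ) = Module.finrank k (Module.End k A) := by
    rw [Module.finrank_tensorProduct, Module.finrank_linearMap,
      ← (MulOpposite.opLinearEquiv k (M := A)).finrank_eq]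
  exact (LinearMap.injective_iff_surjective_of_finrank_eq_finrank h
    (f := (AlgHom.mulLeftRight k A).toLinearMap)).2 (mulLeftRight_surjective k A)

theorem isAzumaya [FiniteDimensional k A] : IsAzumaya k A :=
  { bij := mulLeftRight_bijective k A }

variable (B : Type w) [Ring B] [Algebra k B]

omit [IsSimpleRing A] [Algebra.IsCentral k A] in
lemma rTensor_mulLeftRight_mem (I : TwoSidedIdeal (A ⊗[k] B)) (t : A ⊗[k] Aᵐᵒᵖ)
    (x : A ⊗[k] B) (hx : x ∈ I) :
    LinearMap.rTensor B (AlgHom.mulLeftRight k A t) x ∈ I := by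
  induction t with
  | zero => simp
  | tmul a b =>
    have : LinearMap.rTensor B (AlgHom.mulLeftRight k A (a ⊗ₜ b)) x =
        (a ⊗ₜ[k] (1 : B)) * x * (b.unop ⊗ₜ[k] (1 : B)) := by
      clear hx
      induction x with
      | zero => simp
      | tmul c d => simp
      | add x y hx hy => simp [mul_add, add_mul, hx, hy]
    rw [this]
    exact I.mul_mem_right _ _ (I.mul_mem_left _ _ hx)
  | add s t hs ht =>
    rw [map_add, LinearMap.rTensor_add]
    exact I.add_mem hs ht

/-- A nonzero two-sided ideal of `A ⊗ B` (`A` central simple) meets `1 ⊗ B` nontrivially. -/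
theorem exists_one_tmul_mem (I : TwoSidedIdeal (A ⊗[k] B)) (hI : I ≠ ⊥) :
    ∃ b : B, b ≠ 0 ∧ (1 : A) ⊗ₜ[k] b ∈ I := by
  classical
  obtain ⟨x, hx, hx0⟩ : ∃ x ∈ I, x ≠ 0 := by
    by_contra h
    exact hI (le_bot_iff.1 fun x hx => by
      by_contra hx0
      exact h ⟨x, hx, fun e => hx0 (by simp [e])⟩)
  let b := Module.Free.chooseBasis k A
  obtain ⟨c, hc⟩ := TensorProduct.eq_repr_basis_left b x
  obtain ⟨i, hi⟩ : ∃ i, c i ≠ 0 := by
    by_contra h
    have h0 : c = 0 := Finsupp.ext fun i => by
      by_contra hi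
      exact h ⟨i, hi⟩
    exact hx0 (by rw [← hc, h0, Finsupp.sum_zero_index])
  obtain ⟨t, ht⟩ := exists_mulLeftRight_apply_eq k A ((b.coord i).smulRight (1 : A))
    (c.support.image b)
  refine ⟨c i, hi, ?_⟩
  have hmem := rTensor_mulLeftRight_mem k A B I t x hx
  convert hmem using 1
  rw [← hc, Finsupp.sum, map_sum, Finset.sum_eq_single i]
  · simp [ht (b i) (Finset.mem_image_of_mem _ (Finsupp.mem_support_iff.2 hi))]
  · intro j hj hji
    simp [ht (b j) (Finset.mem_image_of_mem _ hj), hji]
  · intro h
    simp [Finsupp.notMem_support_iff.1 h]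

/-- The tensor product of a central simple algebra with a simple algebra is simple. -/
theorem isSimpleRing_tensorProduct [IsSimpleRing B] : IsSimpleRing (A ⊗[k] B) := by
  have hinj : Function.Injective
      (Algebra.TensorProduct.includeRight : B →ₐ[k] A ⊗[k] B) :=
    Algebra.TensorProduct.includeRight_injective (algebraMap k A).injective
  haveI : Nontrivial (A ⊗[k] B) := hinj.nontrivial
  refine IsSimpleRing.of_eq_bot_or_eq_top fun I => ?_
  by_cases hI : I = ⊥
  · exact Or.inl hI
  right
  obtain ⟨b, hb, hbI⟩ := exists_one_tmul_mem k A B I hI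
  let J : TwoSidedIdeal B := TwoSidedIdeal.comap
    (Algebra.TensorProduct.includeRight : B →ₐ[k] A ⊗[k] B) I
  have hbJ : b ∈ J := (TwoSidedIdeal.mem_comap _).2 hbI
  have h1 := IsSimpleRing.one_mem_of_ne_zero_mem J hb hbJ
  rw [← I.one_mem_iff]
  simpa [J, TwoSidedIdeal.mem_comap, Algebra.TensorProduct.one_def] using h1

end Groth.Agent.CSALib
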