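import Groth.Agent.CSALib.RedCharpoly
import Mathlib.Algebra.CharP.Lemmas
import Mathlib.Algebra.Polynomial.Expand
import Mathlib.FieldTheory.Separable
import Mathlib.FieldTheory.KummerPolynomial
import Mathlib.Algebra.Algebra.Bilinear
import Mathlib.RingTheory.PowerBasis

/-!
Division algebras of degree `p` in characteristic `p`.
-/

universe u v

namespace Groth.Agent.CSALib

open Polynomial

variable {K : Type u} [Field K] {A : Type v} [DivisionRing A] [Algebra K A]

/-- The inner derivation `x ↦ v x - x v`. -/
noncomputable def innerDer (v : A) : Module.End K A :=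
  LinearMap.mulLeft K v - LinearMap.mulRight K v

theorem innerDer_apply (v x : A) : innerDer (K := K) v x = v * x - x * v := rfl

theorem innerDer_pow_char (p : ℕ) [Fact p.Prime] [CharP K p] (v : A) :
    innerDer (K := K) v ^ p = innerDer (v ^ p) := by
  haveI : CharP (Module.End K A) p :=
    charP_of_injective_algebraMap (algebraMap K (Module.End K A)).injective p
  rw [innerDer, sub_pow_char_of_commute p (LinearMap.commute_mulLeft_right v v), LinearMap.pow_mulLeft,
    LinearMap.pow_mulRight]
  rfl

theorem natDegree_minpoly_le [Algebra.IsCentral K A] [FiniteDimensional K A] {n : ℕ}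
    (hn : Module.finrank K A = n ^ 2) (a : A) : (minpoly K a).natDegree ≤ n := by
  obtain ⟨L, _, _, g, P, hPm, hPn, hP⟩ := exists_redCharpoly hn a
  rw [← hPn]
  refine natDegree_le_natDegree (minpoly.min K a hPm ?_)
  have h : g (aeval a P) = 0 := by
    rw [← aeval_algHom_apply, ← aeval_map_algebraMap L, hP, Matrix.aeval_self_charpoly]
  have hn0 : n ≠ 0 := by
    rintro rfl
    exact Module.finrank_pos.ne' (by simpa using hn)
  haveI : Nonempty (Fin n) := ⟨⟨0, Nat.pos_of_ne_zero hn0⟩⟩
  exact (map_eq_zero_iff g g.toRingHom.injective).1 h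

/-- An inseparable element of a division algebra of degree `p` has its `p`-th power in the centre. -/
theorem pow_mem_of_not_separable [Algebra.IsCentral K A] [FiniteDimensional K A] (p : ℕ) [Fact p.Prime]
    [CharP K p] (hA : Module.finrank K A = p ^ 2) {v : A} (hv : ¬ IsSeparable K v) :
    v ^ p ∈ (algebraMap K A).range ∧ v ∉ (algebraMap K A).range := by
  have hint : IsIntegral K v := Algebra.IsIntegral.isIntegral v
  have hp := (Fact.out : p.Prime)
  have hd : derivative (minpoly K v) = 0 :=
    Classical.not_not.1 fun h => hv ((separable_iff_derivative_ne_zero (minpoly.irreducible hint)).2 h)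
  have hQ := expand_contract p hd hp.ne_zero
  set Q := contract p (minpoly K v)
  have hQm : Q.Monic := (monic_expand_iff hp.pos).1 (hQ.symm ▸ minpoly.monic hint)
  have h1 : (minpoly K v).natDegree = Q.natDegree * p := by rw [← hQ, natDegree_expand]
  have h2 : Q.natDegree = 1 := by
    have hle := natDegree_minpoly_le hA v
    have hpos := minpoly.natDegree_pos hint
    rw [h1] at hle hpos
    have h3 : Q.natDegree ≤ 1 := Nat.le_of_mul_le_mul_right (by simpa using hle) hp.pos
    have h4 : 0 < Q.natDegree := pos_of_mul_pos_left hpos (Nat.zero_le _)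
    omega
  refine ⟨⟨-Q.coeff 0, ?_⟩, ?_⟩
  · have h := minpoly.aeval K v
    rw [← hQ, expand_aeval, hQm.eq_X_add_C h2, map_add, aeval_X, aeval_C] at h
    rw [map_neg, eq_neg_of_add_eq_zero_left h]
  · rintro ⟨r, rfl⟩
    refine hv ?_
    show (minpoly K (algebraMap K A r)).Separable
    rw [minpoly.eq_X_sub_C]
    exact separable_X_sub_C

theorem natDegree_minpoly_eq_prime [FiniteDimensional K A] (p : ℕ) [Fact p.Prime] [CharP K p] {v : A}
    (hv : v ^ p ∈ (algebraMap K A).range) (hv' : v ∉ (algebraMap K A).range) :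
    (minpoly K v).natDegree = p := by
  obtain ⟨c, hc⟩ := hv
  haveI : CharP A p := charP_of_injective_algebraMap (algebraMap K A).injective p
  have hirr : Irreducible (X ^ p - C c) := X_pow_sub_C_irreducible_of_prime Fact.out fun r hr => by
    refine hv' ⟨r, (sub_eq_zero.1 (eq_zero_of_pow_eq_zero (n := p) ?_)).symm⟩
    rw [sub_pow_char_of_commute p ((Algebra.commutes r v).symm), ← map_pow, hr, hc, sub_self]
  rw [← minpoly.eq_of_irreducible_of_monic hirr
    (by rw [map_sub, map_pow, aeval_X, aeval_C, hc, sub_self])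
    (monic_X_pow_sub_C _ (Fact.out : p.Prime).ne_zero), natDegree_X_pow_sub_C]

theorem mul_pow_of_commutator {v u : A} (hvu : v * u - u * v = 1) (j : ℕ) :
    v * u ^ j = u ^ j * v + j • u ^ (j - 1) := by
  induction j with
  | zero => simp
  | succ j ih =>
    rw [pow_succ, ← mul_assoc, ih, add_mul, mul_assoc, sub_eq_iff_eq_add.1 hvu, mul_add, mul_one,
      Nat.add_sub_cancel, ← mul_assoc (u ^ j) u v]
    rcases j with _ | j
    · simp [add_comm]
    · rw [Nat.add_sub_cancel, smul_mul_assoc, pow_succ u j, succ_nsmul (u ^ j * u) (j + 1)]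
      abel

theorem eq_zero_of_sum_eq_zero (p : ℕ) [Fact p.Prime] [CharP K p] {v u : A}
    (hvu : v * u - u * v = 1) :
    ∀ n ≤ p, ∀ a : ℕ → A, (∀ j, Commute v (a j)) → ∑ j ∈ Finset.range n, a j * u ^ j = 0 →
      ∀ j < n, a j = 0 := by
  intro n
  induction n with
  | zero => exact fun _ _ _ _ j hj => absurd hj (Nat.not_lt_zero j)
  | succ n ih =>
    intro hn a ha hsum j hj
    have hD : ∑ j ∈ Finset.range n, ((j + 1) • a (j + 1)) * u ^ j = 0 := by
      have h := congrArg (innerDer (K := K) v) hsum
      rw [map_sum, map_zero] at h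
      rw [Finset.sum_range_succ'] at h
      have e0 : innerDer (K := K) v (a 0 * u ^ 0) = 0 := by
        rw [innerDer_apply, pow_zero, mul_one, (ha 0).eq, sub_self]
      rw [e0, add_zero] at h
      refine (Finset.sum_congr rfl fun i _ => ?_).trans h
      rw [innerDer_apply, ← mul_assoc v, (ha (i + 1)).eq, mul_assoc, mul_pow_of_commutator hvu,
        Nat.add_sub_cancel, mul_add, mul_assoc, add_sub_cancel_left, smul_mul_assoc, mul_smul_comm]
    have hsucc : ∀ i < n, a (i + 1) = 0 := fun i hi => by
      have h := ih (Nat.le_of_succ_le hn) (fun i => (i + 1) • a (i + 1))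
        (fun i => (ha (i + 1)).smul_right (i + 1)) hD i hi
      rw [← Nat.cast_smul_eq_nsmul K] at h
      refine (smul_eq_zero.1 h).resolve_left fun h0 => ?_
      rw [CharP.cast_eq_zero_iff K p] at h0
      exact absurd (Nat.le_of_dvd (Nat.succ_pos i) h0) (by omega)
    rcases j with _ | j
    · rw [Finset.sum_range_succ', Finset.sum_eq_zero (fun i hi => by
        rw [hsucc i (Finset.mem_range.1 hi), zero_mul]), zero_add, pow_zero, mul_one] at hsum
      exact hsum
    · exact hsucc j (by omega)

theorem not_mem_range_of_commutator {v u : A} (hvu : v * u - u * v = 1) :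
    v ∉ (algebraMap K A).range := by
  rintro ⟨r, rfl⟩
  rw [Algebra.commutes, sub_self] at hvu
  exact zero_ne_one hvu

/-- Two elements with commutator `1`, one of them with central `p`-th power, generate the algebra. -/
theorem adjoin_pair_eq_top [FiniteDimensional K A] (p : ℕ) [Fact p.Prime] [CharP K p]
    (hA : Module.finrank K A = p ^ 2) {v u : A} (hv : v ^ p ∈ (algebraMap K A).range)
    (hvu : v * u - u * v = 1) : Algebra.adjoin K {v, u} = ⊤ := by
  classical
  have hdeg := natDegree_minpoly_eq_prime p hv (not_mem_range_of_commutator hvu)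
  have hli : LinearIndependent K fun i : Fin p => v ^ (i : ℕ) :=
    (linearIndependent_pow v).comp (Fin.cast hdeg.symm) (Fin.cast_injective _)
  have hli2 : LinearIndependent K fun x : Fin p × Fin p => v ^ (x.1 : ℕ) * u ^ (x.2 : ℕ) := by
    refine Fintype.linearIndependent_iff.2 fun g hg x => ?_
    let a : ℕ → A := fun j => if hj : j < p then ∑ i : Fin p, g (i, ⟨j, hj⟩) • v ^ (i : ℕ) else 0
    have ha : ∀ j, Commute v (a j) := fun j => by
      by_cases hj : j < p
      · simp only [a, dif_pos hj]
        exact Commute.sum_right _ _ _ fun i _ => ((Commute.refl v).pow_right _).smul_right _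
      · simp only [a, dif_neg hj]
        exact Commute.zero_right v
    have hsum : ∑ j ∈ Finset.range p, a j * u ^ j = 0 := by
      rw [← Fin.sum_univ_eq_sum_range (fun j => a j * u ^ j), ← hg, Fintype.sum_prod_type_right]
      refine Finset.sum_congr rfl fun j _ => ?_
      simp only [a, dif_pos j.isLt, Finset.sum_mul, smul_mul_assoc]
    have h := eq_zero_of_sum_eq_zero (K := K) p hvu p le_rfl a ha hsum x.2 x.2.isLt
    simp only [a, dif_pos x.2.isLt] at h
    exact Fintype.linearIndependent_iff.1 hli (fun i => g (i, x.2)) h x.1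
  haveI : Nonempty (Fin p × Fin p) := ⟨(⟨0, (Fact.out : p.Prime).pos⟩, ⟨0, (Fact.out : p.Prime).pos⟩)⟩
  have hspan := hli2.span_eq_top_of_card_eq_finrank (by
    rw [Fintype.card_prod, Fintype.card_fin, hA, sq])
  rw [eq_top_iff]
  intro x _
  have hx : x ∈ Submodule.span K (Set.range fun x : Fin p × Fin p => v ^ (x.1 : ℕ) * u ^ (x.2 : ℕ)) :=
    hspan ▸ Submodule.mem_top
  refine Submodule.span_le (p := Subalgebra.toSubmodule (Algebra.adjoin K {v, u})).2 ?_ hx
  rintro _ ⟨y, rfl⟩
  exact (Subalgebra.mem_toSubmodule _).2 (mul_mem (pow_mem (Algebra.subset_adjoin (by simp)) _)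
    (pow_mem (Algebra.subset_adjoin (by simp)) _))

theorem mem_range_of_commute [Algebra.IsCentral K A] {v u z : A}
    (h : Algebra.adjoin K {v, u} = ⊤) (hzv : Commute z v) (hzu : Commute z u) :
    z ∈ (algebraMap K A).range := by
  have hz : z ∈ Subalgebra.center K A := by
    refine Subalgebra.mem_center_iff.2 fun x => ?_
    have hx : x ∈ Algebra.adjoin K {v, u} := h ▸ Algebra.mem_top
    have hle : Algebra.adjoin K {v, u} ≤ Subalgebra.centralizer K {z} := by
      refine Algebra.adjoin_le ?_
      rintro y (rfl | rfl) <;> simp only [SetLike.mem_coe, Subalgebra.mem_centralizer_iff,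
        Set.mem_singleton_iff, forall_eq]
      · exact hzv.eq
      · exact hzu.eq
    exact ((Subalgebra.mem_centralizer_iff K).1 (hle hx) z rfl).symm
  rw [Algebra.IsCentral.center_eq_bot, Algebra.mem_bot] at hz
  obtain ⟨r, hr⟩ := hz
  exact ⟨r, hr⟩

end Groth.Agent.CSALib
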