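import Groth.Agent.CSALib.Splitting
import Groth.Prelude.Def_GSzCSA
import Mathlib.FieldTheory.Fixed
import Mathlib.FieldTheory.Galois.Basic
import Mathlib.LinearAlgebra.Dual.Lemmas
import Mathlib.GroupTheory.SpecificGroups.Cyclic.Basic

/-!
Cyclic algebras: algebras generated by a field `K` and an element inducing an automorphism of `K`.
-/

universe u v w

namespace Groth.Agent.CSALib

open TensorProduct

variable {k : Type u} [Field k] {K : Type v} [Field K] [Algebra k K] {A : Type w} [Ring A]
  [Algebra k A] {σ : K ≃ₐ[k] K} {ι : K →ₐ[k] A} {y : A}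

lemma comm_pow (h : ∀ x, ι x * y = y * ι (σ x)) (i : ℕ) (x : K) :
    ι x * y ^ i = y ^ i * ι ((σ ^ i) x) := by
  induction i with
  | zero => simp
  | succ i ih =>
    rw [pow_succ, ← mul_assoc, ih, mul_assoc, h, ← mul_assoc, pow_succ' σ]
    rfl

variable [FiniteDimensional k K] [IsGalois k K]
  (hσ : ∀ τ : K ≃ₐ[k] K, τ ∈ Subgroup.zpowers σ)
include hσ

lemma orderOf_gen : orderOf σ = Module.finrank k K := by
  rw [orderOf_eq_card_of_forall_mem_zpowers hσ, IsGalois.card_aut_eq_finrank]

lemma pow_finrank_gen : σ ^ Module.finrank k K = 1 := by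
  rw [← orderOf_gen hσ, pow_orderOf_eq_one]

lemma mem_range_of_fixed {z : K} (hz : σ z = z) : z ∈ Set.range (algebraMap k K) := by
  have h : ∀ τ : K ≃ₐ[k] K, τ z = z := fun τ => by
    have hz' : σ ∈ MulAction.stabilizer (K ≃ₐ[k] K) z := hz
    exact (Subgroup.zpowers_le.2 hz') (hσ τ)
  exact IntermediateField.mem_bot.1 ((IsGalois.mem_bot_iff_fixed z).2 h)

/-- The vectors of conjugates span. -/
lemma span_conjugates :
    Submodule.span K (Set.range fun x : K => fun i : Fin (Module.finrank k K) =>
      (σ ^ (i : ℕ)) x) = ⊤ := by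
  classical
  by_contra hne
  obtain ⟨f, hf0, hf⟩ := Submodule.exists_dual_map_eq_bot_of_lt_top (lt_top_iff_ne_top.2 hne) inferInstance
  have hinj : Function.Injective fun i : Fin (Module.finrank k K) =>
      ((σ ^ (i : ℕ) : K ≃ₐ[k] K) : K →* K) := fun i j hij => by
    have h : σ ^ (i : ℕ) = σ ^ (j : ℕ) := AlgEquiv.ext fun x => DFunLike.congr_fun hij x
    exact Fin.ext (pow_injOn_Iio_orderOf (by rw [Set.mem_Iio, orderOf_gen hσ]; exact i.2)
      (by rw [Set.mem_Iio, orderOf_gen hσ]; exact j.2) h)
  have hli := (linearIndependent_monoidHom K K).comp _ hinj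
  have h0 : ∀ i, f (Pi.single i 1) = 0 := by
    refine Fintype.linearIndependent_iff.1 hli _ ?_
    funext x
    have hx : f (fun i : Fin (Module.finrank k K) => (σ ^ (i : ℕ)) x) = 0 := by
      have := Submodule.mem_map_of_mem (f := f) (Submodule.subset_span
        (R := K) (s := Set.range fun x : K => fun i : Fin (Module.finrank k K) =>
          (σ ^ (i : ℕ)) x) ⟨x, rfl⟩)
      rw [hf] at this
      simpa using this
    rw [Finset.sum_apply, Pi.zero_apply, ← hx]
    conv_rhs => rw [pi_eq_sum_univ' (fun i : Fin (Module.finrank k K) => (σ ^ (i : ℕ)) x)]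
    simp only [map_sum, map_smul, smul_eq_mul, Pi.smul_apply, Function.comp_apply]
    exact Finset.sum_congr rfl fun i _ => mul_comm _ _
  apply hf0
  refine (Pi.basisFun K _).ext fun i => ?_
  simpa using h0 i

omit hσ

/-- The coordinate map `a ↦ ∑ y ^ i * ι (a i)`. -/
noncomputable def coordMap (ι : K →ₐ[k] A) (y : A) :
    (Fin (Module.finrank k K) → K) →ₗ[k] A :=
  ∑ i : Fin (Module.finrank k K),
    (LinearMap.mulLeft k (y ^ (i : ℕ))).comp (ι.toLinearMap.comp (LinearMap.proj i))

omit [FiniteDimensional k K] [IsGalois k K] in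
lemma coordMap_apply (a : Fin (Module.finrank k K) → K) :
    coordMap ι y a = ∑ i : Fin (Module.finrank k K), y ^ (i : ℕ) * ι (a i) := by
  simp [coordMap]

omit [FiniteDimensional k K] [IsGalois k K] in
lemma coordMap_single (j : Fin (Module.finrank k K)) (c : K) :
    coordMap ι y (Pi.single j c) = y ^ (j : ℕ) * ι c := by
  classical
  rw [coordMap_apply, Finset.sum_eq_single j] <;> simp +contextual

include hσ in
/-- A subgroup stable under multiplications by `ι K` on both sides contains the components of each
of its members. -/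
lemma component_mem (h : ∀ x, ι x * y = y * ι (σ x)) (S : AddSubgroup A)
    (hl : ∀ x, ∀ s ∈ S, ι x * s ∈ S) (hr : ∀ x, ∀ s ∈ S, s * ι x ∈ S)
    {a : Fin (Module.finrank k K) → K} (ha : coordMap ι y a ∈ S)
    (j : Fin (Module.finrank k K)) : y ^ (j : ℕ) * ι (a j) ∈ S := by
  classical
  let T : Submodule K (Fin (Module.finrank k K) → K) :=
    { carrier := {v | coordMap ι y (v * a) ∈ S}
      add_mem' := fun {v w} hv hw => by
        show coordMap ι y ((v + w) * a) ∈ S
        rw [add_mul, map_add]; exact S.add_mem hv hw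
      zero_mem' := by
        show coordMap ι y (0 * a) ∈ S
        rw [zero_mul, map_zero]; exact S.zero_mem
      smul_mem' := fun z v hv => by
        show coordMap ι y ((z • v) * a) ∈ S
        have : coordMap ι y ((z • v) * a) = coordMap ι y (v * a) * ι z := by
          simp only [coordMap_apply, Finset.sum_mul, Pi.mul_apply, Pi.smul_apply, smul_eq_mul]
          refine Finset.sum_congr rfl fun i _ => ?_
          rw [mul_assoc (y ^ (i : ℕ)), ← map_mul]
          congr 2
          ring
        rw [this]; exact hr z _ hv }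
  have hT : T = ⊤ := by
    rw [eq_top_iff, ← span_conjugates hσ, Submodule.span_le]
    rintro _ ⟨x, rfl⟩
    show coordMap ι y (_ * a) ∈ S
    have : coordMap ι y ((fun i : Fin (Module.finrank k K) => (σ ^ (i : ℕ)) x) * a) =
        ι x * coordMap ι y a := by
      simp only [coordMap_apply, Finset.mul_sum, Pi.mul_apply]
      refine Finset.sum_congr rfl fun i _ => ?_
      rw [← mul_assoc, comm_pow h, mul_assoc, map_mul]
    rw [this]; exact hl x _ ha
  have hj : (Pi.single j (1 : K) : Fin (Module.finrank k K) → K) ∈ T := by rw [hT]; trivial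
  have hj' : coordMap ι y (Pi.single j (1 : K) * a) ∈ S := hj
  have : (Pi.single j (1 : K) : Fin (Module.finrank k K) → K) * a = Pi.single j (a j) := by
    funext i
    by_cases hij : i = j
    · subst hij; simp
    · simp [hij]
  rwa [this, coordMap_single] at hj'

variable [Nontrivial A]

include hσ in
lemma coordMap_injective (h : ∀ x, ι x * y = y * ι (σ x)) (hy : IsUnit y) :
    Function.Injective (coordMap ι y) := by
  rw [injective_iff_map_eq_zero]
  intro a ha
  funext j
  have := component_mem hσ h (⊥ : AddSubgroup A) (by simp) (by simp) (a := a) (by simpa using ha) j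
  rw [AddSubgroup.mem_bot, (hy.pow (j : ℕ)).mul_right_eq_zero] at this
  exact RingHom.injective ι.toRingHom (this.trans (map_zero _).symm)

include hσ in
lemma coordMap_bijective (h : ∀ x, ι x * y = y * ι (σ x)) (hy : IsUnit y) [FiniteDimensional k A]
    (hA : Module.finrank k A = Module.finrank k K ^ 2) : Function.Bijective (coordMap ι y) := by
  refine ⟨coordMap_injective hσ h hy, ?_⟩
  refine (LinearMap.injective_iff_surjective_of_finrank_eq_finrank ?_).1
    (coordMap_injective hσ h hy)
  rw [hA, Module.finrank_pi_fintype, Finset.sum_const, Finset.card_univ, Fintype.card_fin,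
    smul_eq_mul, pow_two]

include hσ in
lemma adjoin_eq_top (h : ∀ x, ι x * y = y * ι (σ x)) (hy : IsUnit y) [FiniteDimensional k A]
    (hA : Module.finrank k A = Module.finrank k K ^ 2) :
    Algebra.adjoin k (Set.range ι ∪ {y}) = ⊤ := by
  refine eq_top_iff.2 fun z _ => ?_
  obtain ⟨a, rfl⟩ := (coordMap_bijective hσ h hy hA).2 z
  rw [coordMap_apply]
  have hsub := Algebra.subset_adjoin (R := k) (s := Set.range ι ∪ {y})
  exact sum_mem fun i _ => mul_mem
    (pow_mem (hsub (Set.mem_union_right _ (Set.mem_singleton y))) _)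
    (hsub (Set.mem_union_left _ (Set.mem_range_self _)))

include hσ in
/-- A cyclic algebra is central simple with `K` as a self-centralizing subfield. -/
theorem central_simple (h : ∀ x, ι x * y = y * ι (σ x)) (hy : IsUnit y) [FiniteDimensional k A]
    (hA : Module.finrank k A = Module.finrank k K ^ 2) :
    Algebra.IsCentral k A ∧ IsSimpleRing A ∧
      Subalgebra.centralizer k (ι.range : Set A) = ι.range := by
  classical
  have hb := coordMap_bijective hσ h hy hA
  have : NeZero (Module.finrank k K) := ⟨Module.finrank_pos.ne'⟩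
  have hcent : Subalgebra.centralizer k (ι.range : Set A) = ι.range := by
    refine le_antisymm (fun z hz => ?_) ?_
    · obtain ⟨a, rfl⟩ := hb.2 z
      have h0 : a = Pi.single 0 (a 0) := by
        funext i
        by_cases hi : i = 0
        · subst hi; simp
        rw [Pi.single_eq_of_ne hi]
        by_contra hai
        apply hi
        have hσi : σ ^ (i : ℕ) = 1 := AlgEquiv.ext fun x => by
          have hx := (Subalgebra.mem_centralizer_iff k).1 hz (ι x) ⟨x, rfl⟩
          have e1 : ι x * coordMap ι y a = coordMap ι y fun l => (σ ^ (l : ℕ)) x * a l := by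
            simp only [coordMap_apply, Finset.mul_sum]
            refine Finset.sum_congr rfl fun l _ => ?_
            rw [← mul_assoc, comm_pow h, mul_assoc, map_mul]
          have e2 : coordMap ι y a * ι x = coordMap ι y fun l => a l * x := by
            simp only [coordMap_apply, Finset.sum_mul]
            refine Finset.sum_congr rfl fun l _ => ?_
            rw [mul_assoc, map_mul]
          rw [e1, e2] at hx
          have := congrFun (hb.1 hx) i
          rw [mul_comm (a i)] at this
          exact mul_right_cancel₀ hai this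
        exact Fin.ext (pow_injOn_Iio_orderOf (by rw [Set.mem_Iio, orderOf_gen hσ]; exact i.2)
          (by rw [Set.mem_Iio, orderOf_gen hσ]; exact Module.finrank_pos) (by simpa using hσi))
      rw [h0, coordMap_single]
      exact ⟨a 0, by simp⟩
    · rintro _ ⟨x, rfl⟩
      refine (Subalgebra.mem_centralizer_iff k).2 ?_
      rintro _ ⟨z, rfl⟩
      show ι z * ι x = ι x * ι z
      rw [← map_mul, ← map_mul, mul_comm]
  refine ⟨⟨fun z hz => ?_⟩, ?_, hcent⟩
  · have hz' : z ∈ ι.range := hcent ▸ (Subalgebra.mem_centralizer_iff k).2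
      fun g _ => Subalgebra.mem_center_iff.1 hz g
    obtain ⟨x, rfl⟩ := hz'
    have hx : σ x = x := by
      have e := h x
      have hzy : y * ι x = ι x * y := Subalgebra.mem_center_iff.1 hz y
      exact RingHom.injective ι.toRingHom (hy.mul_left_cancel (e.symm.trans hzy.symm))
    obtain ⟨r, hr⟩ := mem_range_of_fixed hσ hx
    exact Algebra.mem_bot.2 ⟨r, by rw [← hr]; exact (ι.commutes r).symm⟩
  · refine IsSimpleRing.of_eq_bot_or_eq_top fun I => ?_
    by_cases hI : I = ⊥
    · exact Or.inl hI
    right
    obtain ⟨s, hs, hs0⟩ : ∃ s ∈ I, s ≠ 0 := by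
      by_contra hcon
      exact hI (le_bot_iff.1 fun s hs => by
        by_contra hs0
        exact hcon ⟨s, hs, fun e => hs0 (by simp [e])⟩)
    obtain ⟨a, rfl⟩ := hb.2 s
    obtain ⟨j, hj⟩ : ∃ j, a j ≠ 0 := by
      by_contra hcon
      exact hs0 (by rw [show a = 0 from funext fun j => not_not.1 fun e => hcon ⟨j, e⟩, map_zero])
    let S : AddSubgroup A :=
      { carrier := {t | t ∈ I}, zero_mem' := I.zero_mem, add_mem' := I.add_mem,
        neg_mem' := I.neg_mem }
    have hm := component_mem hσ h S (fun x t ht => I.mul_mem_left _ _ ht)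
      (fun x t ht => I.mul_mem_right _ _ ht) (a := a) hs j
    obtain ⟨v, hv⟩ := ((hy.pow (j : ℕ)).mul ((isUnit_iff_ne_zero.2 hj).map ι)).exists_left_inv
    rw [← I.one_mem_iff, ← hv]
    exact I.mul_mem_left _ _ hm

omit [Nontrivial A] [FiniteDimensional k K] [IsGalois k K] in
/-- The presentation predicate gives everything. -/
theorem isCyclicAlg_data {b : kˣ} (hA : CSAGal.IsCyclicAlg k K σ b A) :
    Nontrivial A ∧ FiniteDimensional k A ∧ ∃ (ι : K →ₐ[k] A) (y : A), IsUnit y ∧
      y ^ Module.finrank k K = algebraMap k A (b : k) ∧ (∀ x, ι x * y = y * ι (σ x)) ∧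
      Module.finrank k A = Module.finrank k K ^ 2 := by
  obtain ⟨ι, y, hy, hc, -, hpos, hdim⟩ := hA
  have hposA : 0 < Module.finrank k A := hdim ▸ pow_pos hpos 2
  exact ⟨Module.nontrivial_of_finrank_pos hposA, Module.finite_of_finrank_pos hposA, ι, y,
    (isUnit_pow_iff hpos.ne').1 (hy ▸ b.isUnit.map (algebraMap k A)), hy, hc, hdim⟩

end Groth.Agent.CSALib
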