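import Groth.Agent.CSALib.Cyclic
import Groth.Agent.CSALib.BrauerRel
import Mathlib.RingTheory.Norm.Transitivity

/-!
Maps out of cyclic algebras, change of generator, shift matrices, products of cyclic algebras.
-/

universe u v w x y

namespace Groth.Agent.CSALib

open TensorProduct

variable {k : Type u} [Field k] {K : Type v} [Field K] [Algebra k K]
  {σ : K ≃ₐ[k] K}

section Mul

variable [FiniteDimensional k K] {C : Type x} [Ring C] [Algebra k C] {ι : K →ₐ[k] C} {z : C} {b : k}

/-- Coordinates of `z ^ n * ι x`. -/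
noncomputable def powCoord (b : k) (n : ℕ) (x : K) : Fin (Module.finrank k K) → K :=
  Pi.single ⟨n % Module.finrank k K, Nat.mod_lt _ Module.finrank_pos⟩
    (b ^ (n / Module.finrank k K) • x)

lemma coordMap_powCoord (hz : z ^ Module.finrank k K = algebraMap k C b) (n : ℕ) (x : K) :
    coordMap ι z (powCoord b n x) = z ^ n * ι x := by
  rw [powCoord, coordMap_single, map_smul, Algebra.smul_def, map_pow, ← hz, ← pow_mul, ← mul_assoc,
    ← pow_add, Nat.mod_add_div]

/-- Coordinates of a product. -/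
noncomputable def mulCoord (b : k) (σ : K ≃ₐ[k] K) (a c : Fin (Module.finrank k K) → K) :
    Fin (Module.finrank k K) → K :=
  ∑ i : Fin (Module.finrank k K), ∑ j : Fin (Module.finrank k K), powCoord b ((i : ℕ) + j) ((σ ^ (j : ℕ)) (a i) * c j)

lemma coordMap_mul (h : ∀ x, ι x * z = z * ι (σ x))
    (hz : z ^ Module.finrank k K = algebraMap k C b) (a c : Fin (Module.finrank k K) → K) :
    coordMap ι z a * coordMap ι z c = coordMap ι z (mulCoord b σ a c) := by
  simp only [mulCoord, map_sum, coordMap_powCoord hz]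
  rw [coordMap_apply, coordMap_apply, Finset.sum_mul_sum]
  refine Finset.sum_congr rfl fun i _ => Finset.sum_congr rfl fun j _ => ?_
  rw [mul_assoc, ← mul_assoc (ι (a i)), comm_pow h, mul_assoc, ← map_mul, ← mul_assoc, ← pow_add]

lemma coordMap_algebraMap (r : k) :
    coordMap ι z (Pi.single ⟨0, Module.finrank_pos⟩ (algebraMap k K r)) = algebraMap k C r := by
  rw [coordMap_single]
  simp

/-- The subalgebra `∑ z ^ i * ι K`. -/
noncomputable def cyclicSubalgebra (h : ∀ x, ι x * z = z * ι (σ x))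
    (hz : z ^ Module.finrank k K = algebraMap k C b) : Subalgebra k C where
  carrier := Set.range (coordMap ι z)
  mul_mem' := by
    rintro _ _ ⟨a, rfl⟩ ⟨c, rfl⟩
    exact ⟨_, (coordMap_mul h hz a c).symm⟩
  add_mem' := by
    rintro _ _ ⟨a, rfl⟩ ⟨c, rfl⟩
    exact ⟨a + c, map_add _ _ _⟩
  algebraMap_mem' r := ⟨_, coordMap_algebraMap r⟩

variable [IsGalois k K] (hσ : ∀ τ : K ≃ₐ[k] K, τ ∈ Subgroup.zpowers σ)
include hσ

/-- The subalgebra `∑ z ^ i * ι K` is a cyclic algebra. -/
theorem isCyclicAlg_cyclicSubalgebra [Nontrivial C] (bu : kˣ) (h : ∀ x, ι x * z = z * ι (σ x))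
    (hz : z ^ Module.finrank k K = algebraMap k C (bu : k)) :
    CSAGal.IsCyclicAlg k K σ bu (cyclicSubalgebra h hz) := by
  have hzu : IsUnit z :=
    (isUnit_pow_iff Module.finrank_pos.ne').1 (hz ▸ bu.isUnit.map (algebraMap k C))
  have hι : ∀ x, ι x ∈ cyclicSubalgebra h hz := fun x =>
    ⟨Pi.single ⟨0, Module.finrank_pos⟩ x, by simp [coordMap_single]⟩
  have hz' : z ∈ cyclicSubalgebra h hz :=
    ⟨powCoord (bu : k) 1 1, by simp [coordMap_powCoord hz]⟩
  let ι₀ : K →ₐ[k] cyclicSubalgebra h hz := ι.codRestrict _ hι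
  have h0 : ∀ x, ι₀ x * ⟨z, hz'⟩ = ⟨z, hz'⟩ * ι₀ (σ x) := fun x => Subtype.ext (h x)
  let E : (Fin (Module.finrank k K) → K) ≃ₗ[k] cyclicSubalgebra h hz :=
    LinearEquiv.ofBijective
      ((coordMap ι z).codRestrict (Subalgebra.toSubmodule (cyclicSubalgebra h hz))
        fun a => ⟨a, rfl⟩ : _ →ₗ[k] cyclicSubalgebra h hz)
      ⟨fun a c e => coordMap_injective hσ h hzu (congrArg Subtype.val e),
        fun ⟨c, a, ha⟩ => ⟨a, Subtype.ext ha⟩⟩
  have hdim : Module.finrank k (cyclicSubalgebra h hz) = Module.finrank k K ^ 2 := by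
    rw [← E.finrank_eq, Module.finrank_pi_fintype, Finset.sum_const, Finset.card_univ,
      Fintype.card_fin, smul_eq_mul, pow_two]
  have : FiniteDimensional k (cyclicSubalgebra h hz) := Module.Finite.equiv E
  have hzb : (⟨z, hz'⟩ : cyclicSubalgebra h hz) ^ Module.finrank k K =
      algebraMap k _ (bu : k) := Subtype.ext hz
  have hyu : IsUnit (⟨z, hz'⟩ : cyclicSubalgebra h hz) := by
    rw [← isUnit_pow_iff (Module.finrank_pos (R := k) (M := K)).ne', hzb]
    exact bu.isUnit.map (algebraMap k _)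
  exact ⟨ι₀, ⟨z, hz'⟩, Subtype.ext hz, h0, adjoin_eq_top hσ h0 hyu hdim, Module.finrank_pos, hdim⟩

variable {A : Type w} [Ring A] [Algebra k A] [Nontrivial A] [FiniteDimensional k A]
  {ιA : K →ₐ[k] A} {y : A}

/-- The mapping property of cyclic algebras. -/
theorem exists_cyclicHom (hA : ∀ x, ιA x * y = y * ιA (σ x)) (hy : IsUnit y)
    (hyb : y ^ Module.finrank k K = algebraMap k A b)
    (hdim : Module.finrank k A = Module.finrank k K ^ 2) (h : ∀ x, ι x * z = z * ι (σ x))
    (hz : z ^ Module.finrank k K = algebraMap k C b) :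
    ∃ f : A →ₐ[k] C, f y = z ∧ ∀ x, f (ιA x) = ι x := by
  let E := LinearEquiv.ofBijective _ (coordMap_bijective hσ hA hy hdim)
  let f : A →ₗ[k] C := coordMap ι z ∘ₗ E.symm.toLinearMap
  have hfE : ∀ a, f (coordMap ιA y a) = coordMap ι z a := fun a =>
    congrArg (coordMap ι z) (E.symm_apply_apply a)
  have hf1 : f 1 = 1 := by
    rw [← map_one (algebraMap k A), ← coordMap_algebraMap (ι := ιA) (z := y), hfE, coordMap_algebraMap,
      map_one]
  refine ⟨AlgHom.ofLinearMap f hf1 fun s t => ?_, ?_, fun x => ?_⟩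
  · obtain ⟨a, rfl⟩ := (coordMap_bijective hσ hA hy hdim).2 s
    obtain ⟨c, rfl⟩ := (coordMap_bijective hσ hA hy hdim).2 t
    rw [coordMap_mul hA hyb, hfE, hfE, hfE, coordMap_mul h hz]
  · show f y = z
    conv_lhs => rw [show y = coordMap ιA y (powCoord b 1 1) by simp [coordMap_powCoord hyb]]
    rw [hfE]
    simp [coordMap_powCoord hz]
  · show f (ιA x) = ι x
    conv_lhs => rw [show ιA x = coordMap ιA y (powCoord b 0 x) by simp [coordMap_powCoord hyb]]
    rw [hfE]
    simp [coordMap_powCoord hz]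

end Mul

section Norm

variable [FiniteDimensional k K] [IsGalois k K] (hσ : ∀ τ : K ≃ₐ[k] K, τ ∈ Subgroup.zpowers σ)

include hσ in
/-- The norm as a product of conjugates. -/
theorem norm_eq_prod_range (x : K) :
    algebraMap k K (Algebra.norm k x) = ∏ i ∈ Finset.range (Module.finrank k K), (σ ^ i) x := by
  classical
  rw [Algebra.norm_eq_prod_automorphisms, Finset.prod_range]
  symm
  refine Fintype.prod_bijective (fun i : Fin (Module.finrank k K) => σ ^ (i : ℕ)) ?_ _ _ fun _ => rfl
  rw [Fintype.bijective_iff_injective_and_card]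
  refine ⟨fun i j e => Fin.ext (pow_injOn_Iio_orderOf (by rw [Set.mem_Iio, orderOf_gen hσ]; exact i.2)
    (by rw [Set.mem_Iio, orderOf_gen hσ]; exact j.2) e), ?_⟩
  rw [Fintype.card_fin, ← Nat.card_eq_fintype_card, IsGalois.card_aut_eq_finrank]

omit [FiniteDimensional k K] [IsGalois k K] in
/-- Powers of a changed generator. -/
theorem mul_map_pow {A : Type w} [Ring A] [Algebra k A] {ι : K →ₐ[k] A} {y : A}
    (h : ∀ x, ι x * y = y * ι (σ x)) (x : K) (l : ℕ) :
    (y * ι x) ^ l = y ^ l * ι (∏ i ∈ Finset.range l, (σ ^ i) x) := by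
  induction l with
  | zero => simp
  | succ l ih =>
    rw [pow_succ, ih, mul_assoc, ← mul_assoc (ι _) y, h, mul_assoc, ← map_mul, ← mul_assoc,
      ← pow_succ, Finset.prod_range_succ', map_prod, pow_zero]
    congr 3
    refine Finset.prod_congr rfl fun i _ => ?_
    rw [pow_succ' σ]
    rfl

include hσ in
/-- Changing the generator multiplies `b` by a norm. -/
theorem mul_map_pow_finrank {A : Type w} [Ring A] [Algebra k A] {ι : K →ₐ[k] A} {y : A} {b : k}
    (h : ∀ x, ι x * y = y * ι (σ x)) (hy : y ^ Module.finrank k K = algebraMap k A b) (x : K) :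
    (∀ c, ι c * (y * ι x) = (y * ι x) * ι (σ c)) ∧
      (y * ι x) ^ Module.finrank k K = algebraMap k A (b * Algebra.norm k x) := by
  refine ⟨fun c => ?_, ?_⟩
  · rw [← mul_assoc, h, mul_assoc, mul_assoc, ← map_mul, ← map_mul, mul_comm]
  · rw [mul_map_pow h, ← norm_eq_prod_range hσ, hy, AlgHom.commutes, map_mul]

end Norm

section Shift

variable {R : Type x} [Ring R]

/-- The weighted cyclic shift matrix. -/
def shift (m : ℕ) (c : R) : Matrix (Fin m) (Fin m) R :=
  Matrix.of fun i j : Fin m =>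
    if j.val + 1 = i.val then (1 : R) else if i.val = 0 ∧ j.val + 1 = m then c else 0

/-- Commutation of diagonal matrices with the shift. -/
lemma diagonal_mul_shift {m : ℕ} (c : R) (e d : Fin m → R)
    (h1 : ∀ i j : Fin m, j.val + 1 = i.val → e i = d j)
    (h2 : ∀ i j : Fin m, i.val = 0 → j.val + 1 = m → e i * c = c * d j) :
    Matrix.diagonal e * shift m c = shift m c * Matrix.diagonal d := by
  ext i j
  rw [Matrix.diagonal_mul, Matrix.mul_diagonal]
  simp only [shift, Matrix.of_apply]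
  split_ifs with hij hc
  · rw [mul_one, one_mul, h1 i j hij]
  · exact h2 i j hc.1 hc.2
  · rw [mul_zero, zero_mul]

lemma shift_pow_apply {m : ℕ} (c : R) (l : ℕ) (hl : l ≤ m) (i j : Fin m) :
    (shift m c ^ l) i j = if j.val + l = i.val then 1 else if j.val + l = i.val + m then c else 0 := by
  induction l generalizing i j with
  | zero =>
    rw [pow_zero, Matrix.one_apply]
    by_cases h : i = j
    · subst h; simp
    · have h' : (j : ℕ) ≠ i := fun e => h (Fin.ext e.symm)
      have : (j : ℕ) ≠ i + m := by omega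
      simp [h, h', this]
  | succ l ih =>
    rw [pow_succ, Matrix.mul_apply]
    by_cases hj : j.val + 1 < m
    · rw [Finset.sum_eq_single (⟨j.val + 1, hj⟩ : Fin m)]
      · rw [ih (by omega)]
        simp [shift, add_comm l 1, add_assoc]
      · intro t _ ht
        have h1 : ¬ j.val + 1 = t.val := fun e => ht (Fin.ext e.symm)
        have h2 : ¬ (t.val = 0 ∧ j.val + 1 = m) := by omega
        simp [shift, h1, h2]
      · simp
    · have hj' : j.val + 1 = m := by omega
      rw [Finset.sum_eq_single (⟨0, by omega⟩ : Fin m)]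
      · have h0 : shift m c ⟨0, by omega⟩ j = c := by
          simp only [shift, Matrix.of_apply]
          rw [if_neg (by omega), if_pos ⟨trivial, hj'⟩]
        rw [ih (by omega), h0]
        by_cases hli : l = i.val
        · rw [if_pos (by simp [hli]), if_neg (by omega), if_pos (by omega), one_mul]
        · rw [if_neg (by simp; omega), if_neg (by simp; omega), if_neg (by omega), if_neg (by omega),
            zero_mul]
      · intro t _ ht
        have h1 : ¬ j.val + 1 = t.val := by omega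
        have h2 : ¬ t.val = 0 := fun e => ht (Fin.ext e)
        simp [shift, h1, h2]
      · simp

lemma shift_pow_self {m : ℕ} (c : R) : shift m c ^ m = Matrix.diagonal fun _ => c := by
  ext i j
  rw [shift_pow_apply c m le_rfl, if_neg (by omega)]
  by_cases h : i = j
  · subst h
    rw [if_pos rfl, Matrix.diagonal_apply_eq]
  · rw [if_neg (fun e => h (Fin.ext (by omega))), Matrix.diagonal_apply_ne _ h]

end Shift

section Product

variable [FiniteDimensional k K] [IsGalois k K] (hσ : ∀ τ : K ≃ₐ[k] K, τ ∈ Subgroup.zpowers σ)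
  {C : Type x} [Ring C] [Algebra k C]

/-- Powers of `σ` along the diagonal. -/
noncomputable def diagHom (σ : K ≃ₐ[k] K) (ι : K →ₐ[k] C) (m : ℕ) :
    K →ₐ[k] Matrix (Fin m) (Fin m) C :=
  (Matrix.diagonalAlgHom k).comp (Pi.algHom k (fun _ : Fin m => C) fun i =>
    ι.comp ((σ ^ (i : ℕ) : K ≃ₐ[k] K) : K →ₐ[k] K))

omit [FiniteDimensional k K] [IsGalois k K] in
lemma diagHom_apply (ι : K →ₐ[k] C) (m : ℕ) (x : K) :
    diagHom σ ι m x = Matrix.diagonal fun i : Fin m => ι ((σ ^ (i : ℕ)) x) := rfl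

include hσ in
/-- The shift realises `σ` on diagonal matrices. -/
lemma diagHom_mul_shift (ι : K →ₐ[k] C) (r : k) (x : K) :
    diagHom σ ι (Module.finrank k K) x * shift (Module.finrank k K) (algebraMap k C r) =
      shift (Module.finrank k K) (algebraMap k C r) * diagHom σ ι (Module.finrank k K) (σ x) := by
  have e : ∀ j : ℕ, (σ ^ (j + 1)) x = (σ ^ j) (σ x) := fun j => by rw [pow_succ σ]; rfl
  rw [diagHom_apply, diagHom_apply]
  refine diagonal_mul_shift _ _ _ (fun i j hij => ?_) fun i j hi hj => ?_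
  · rw [← e, hij]
  · rw [← e, hj, hi, pow_finrank_gen hσ, pow_zero]
    exact (Algebra.commutes r _).symm

include hσ in
/-- The product of two cyclic algebras is a matrix algebra over the cyclic algebra of the product. -/
theorem nonempty_tensor_algEquiv {A : Type w} {A' : Type y} [Ring A] [Algebra k A] [Ring A'] [Algebra k A']
    {A'' : Type x} [Ring A''] [Algebra k A''] (b b' : kˣ)
    (hA : CSAGal.IsCyclicAlg k K σ b A) (hA' : CSAGal.IsCyclicAlg k K σ b' A')
    (hA'' : CSAGal.IsCyclicAlg k K σ (b * b') A'') :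
    Nonempty (A ⊗[k] A' ≃ₐ[k]
      Matrix (Fin (Module.finrank k K)) (Fin (Module.finrank k K)) A'') := by
  classical
  obtain ⟨_, _, ι₁, y₁, hu₁, hy₁, h₁, hd₁⟩ := isCyclicAlg_data hA
  obtain ⟨_, _, ι₂, y₂, hu₂, hy₂, h₂, hd₂⟩ := isCyclicAlg_data hA'
  obtain ⟨_, _, ι, y, hu, hy, h, hd⟩ := isCyclicAlg_data hA''
  obtain ⟨_, _, -⟩ := central_simple hσ h₁ hu₁ hd₁
  obtain ⟨_, _, -⟩ := central_simple hσ h₂ hu₂ hd₂
  set m := Module.finrank k K with hm
  let P := shift m (algebraMap k A'' (b' : k))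
  let d := diagHom σ ι m
  let s : K →ₐ[k] Matrix (Fin m) (Fin m) A'' :=
    (Matrix.diagonalAlgHom k).comp (Pi.algHom k (fun _ : Fin m => A'') fun _ => ι)
  let Y : Matrix (Fin m) (Fin m) A'' := Matrix.diagonal fun _ => y
  let Q := Y * (P ^ (m - 1) * algebraMap k _ ((b'⁻¹ : kˣ) : k))
  have hP : P ^ m = algebraMap k _ (b' : k) := by
    rw [shift_pow_self, Matrix.algebraMap_eq_diagonal]
    rfl
  have hdP : ∀ x, d x * P = P * d (σ x) := fun x => diagHom_mul_shift hσ ι _ x
  have hcomm : ∀ e : A'', e * algebraMap k A'' (b' : k) = algebraMap k A'' (b' : k) * e := fun e =>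
    (Algebra.commutes _ _).symm
  have hsP : ∀ x, Commute (s x) P := fun x =>
    diagonal_mul_shift _ _ _ (fun _ _ _ => rfl) fun _ _ _ _ => hcomm _
  have hYP : Commute Y P := diagonal_mul_shift _ _ _ (fun _ _ _ => rfl) fun _ _ _ _ => hcomm _
  have hsY : ∀ x, s x * Y = Y * s (σ x) := fun x => by
    show Matrix.diagonal (fun _ : Fin m => ι x) * Y = Y * Matrix.diagonal fun _ : Fin m => ι (σ x)
    rw [Matrix.diagonal_mul_diagonal, Matrix.diagonal_mul_diagonal, h]
  have hdY : ∀ x, d x * Y = Y * d (σ x) := fun x => by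
    rw [diagHom_apply, diagHom_apply, Matrix.diagonal_mul_diagonal, Matrix.diagonal_mul_diagonal]
    congr 1
    funext i
    rw [h, ← AlgEquiv.mul_apply, ← AlgEquiv.mul_apply, ← pow_succ, ← pow_succ']
  have hcb : ∀ M : Matrix (Fin m) (Fin m) A'', Commute M (algebraMap k _ ((b'⁻¹ : kˣ) : k)) :=
    fun M => Algebra.commute_algebraMap_right _ _
  have hdQ : ∀ x, Commute (d x) Q := fun x => by
    have hpm : 1 ≤ m := Module.finrank_pos
    have e1 : (σ ^ (m - 1)) (σ x) = x := by
      rw [← AlgEquiv.mul_apply, ← pow_succ, Nat.sub_add_cancel hpm, pow_finrank_gen hσ]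
      rfl
    show d x * (Y * (P ^ (m - 1) * _)) = Y * (P ^ (m - 1) * _) * d x
    rw [← mul_assoc, hdY, mul_assoc, ← mul_assoc (d _), comm_pow hdP, e1, mul_assoc, mul_assoc,
      mul_assoc, (hcb (d x)).eq]
  have hsQ : ∀ x, s x * Q = Q * s (σ x) := fun x => by
    show s x * (Y * (P ^ (m - 1) * _)) = Y * (P ^ (m - 1) * _) * s (σ x)
    rw [← mul_assoc, hsY, mul_assoc, mul_assoc, ((hsP _).pow_right _).mul_right (hcb _)]
  have hQm : Q ^ m = algebraMap k _ (b : k) := by
    have e0 : m - 1 + 1 = m := Nat.sub_add_cancel Module.finrank_pos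
    rw [((hYP.pow_right _).mul_right (hcb Y)).mul_pow, (hcb _).mul_pow, ← pow_mul, mul_comm (m - 1),
      pow_mul, hP, Matrix.diagonal_pow, show (fun _ : Fin m => y) ^ m =
        fun _ => algebraMap k A'' ((b * b' : kˣ) : k) from funext fun _ => hy,
      show (Matrix.diagonal fun _ : Fin m => algebraMap k A'' ((b * b' : kˣ) : k)) =
        algebraMap k _ ((b * b' : kˣ) : k) from (Matrix.algebraMap_eq_diagonal _).symm,
      ← map_pow, ← map_pow, ← map_mul, ← map_mul]
    congr 1
    rw [← Units.val_pow_eq_pow_val, ← Units.val_pow_eq_pow_val, ← Units.val_mul, ← Units.val_mul]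
    refine congrArg Units.val ?_
    rw [mul_assoc, ← mul_assoc b', ← pow_succ', e0, ← mul_pow, mul_inv_cancel, one_pow, mul_one]
  obtain ⟨f₁, hf₁, hf₁'⟩ := exists_cyclicHom hσ (ι := s) (z := Q) h₁ hu₁ hy₁ hd₁ hsQ hQm
  obtain ⟨f₂, hf₂, hf₂'⟩ := exists_cyclicHom hσ (ι := d) (z := P) h₂ hu₂ hy₂ hd₂ hdP hP
  have hds : ∀ a c, Commute (s a) (d c) := fun a c => by
    show Matrix.diagonal _ * Matrix.diagonal _ = Matrix.diagonal _ * Matrix.diagonal _
    rw [Matrix.diagonal_mul_diagonal, Matrix.diagonal_mul_diagonal]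
    congr 1
    funext i
    show ι a * ι ((σ ^ (i : ℕ)) c) = ι ((σ ^ (i : ℕ)) c) * ι a
    rw [← map_mul, ← map_mul, mul_comm]
  have hgen : ∀ a c, Commute (f₁ a) (f₂ c) := by
    have hQP : Commute Q P := hYP.mul_left (((Commute.refl P).pow_left _).mul_left
      (hcb P).symm)
    intro a c
    obtain ⟨u, rfl⟩ := (coordMap_bijective hσ h₁ hu₁ hd₁).2 a
    obtain ⟨v, rfl⟩ := (coordMap_bijective hσ h₂ hu₂ hd₂).2 c
    simp only [coordMap_apply, map_sum, map_mul, map_pow, hf₁, hf₁', hf₂, hf₂']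
    exact Commute.sum_left _ _ _ fun i _ => Commute.sum_right _ _ _ fun j _ =>
      (((hQP.pow_pow _ _).mul_right ((hdQ _).symm.pow_left _)).mul_left
        (((hsP _).pow_right _).mul_right (hds _ _)))
  have : Nonempty (Fin m) := ⟨⟨0, Module.finrank_pos⟩⟩
  have := isSimpleRing_tensorProduct k A A'
  let Φ : A ⊗[k] A' →ₐ[k] Matrix (Fin m) (Fin m) A'' := Algebra.TensorProduct.lift f₁ f₂ hgen
  have hinj : Function.Injective Φ := RingHom.injective Φ.toRingHom
  have hdim : Module.finrank k (A ⊗[k] A') = Module.finrank k (Matrix (Fin m) (Fin m) A'') := by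
    rw [Module.finrank_tensorProduct, Module.finrank_matrix, hd₁, hd₂, hd, Fintype.card_fin]
    ring
  exact ⟨AlgEquiv.ofBijective Φ ⟨hinj,
    (LinearMap.injective_iff_surjective_of_finrank_eq_finrank hdim (f := Φ.toLinearMap)).1 hinj⟩⟩

end Product

end Groth.Agent.CSALib
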