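import Groth.Agent.CSALib.CyclicHom
import Mathlib.RingTheory.Algebraic.Basic
import Mathlib.Algebra.Central.Matrix

/-!
Cyclic algebras: splitting by norms, tensor powers.
-/

universe u v w x

namespace Groth.Agent.CSALib

open TensorProduct

variable {k : Type u} [Field k] {K : Type v} [Field K] [Algebra k K] [FiniteDimensional k K]
  [IsGalois k K] {σ : K ≃ₐ[k] K} (hσ : ∀ τ : K ≃ₐ[k] K, τ ∈ Subgroup.zpowers σ)
include hσ

/-- The standard cyclic structure on the endomorphisms of `K`. -/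
theorem exists_end_data :
    ∃ (ι : K →ₐ[k] Module.End k K) (y : Module.End k K), IsUnit y ∧
      (∀ x, ι x * y = y * ι (σ x)) ∧ y ^ Module.finrank k K = algebraMap k _ (1 : k) := by
  let y : Module.End k K := σ.symm.toLinearMap
  have hy : ∀ (l : ℕ) (v : K), (y ^ l) v = ((σ⁻¹) ^ l) v := fun l v => by
    induction l with
    | zero => rfl
    | succ l ih => rw [pow_succ', pow_succ' σ⁻¹, Module.End.mul_apply, ih, AlgEquiv.mul_apply]; rfl
  have hm : y ^ Module.finrank k K = 1 := LinearMap.ext fun v => by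
    rw [hy, inv_pow, pow_finrank_gen hσ, inv_one]; rfl
  refine ⟨Algebra.lmul k K, y, (isUnit_pow_iff Module.finrank_pos.ne').1 (hm ▸ isUnit_one),
    fun x => LinearMap.ext fun v => ?_, by rw [hm, map_one]⟩
  show x * σ.symm v = σ.symm (σ x * v)
  rw [map_mul, σ.symm_apply_apply]

variable {A : Type w} [Ring A] [Algebra k A]

/-- Cyclic algebras are split exactly by norms. -/
theorem similar_field_iff_norm {b : kˣ} (hA : CSAGal.IsCyclicAlg k K σ b A) :
    Similar k A k ↔ ∃ x : K, Algebra.norm k x = (b : k) := by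
  classical
  obtain ⟨_, _, ι, y, hu, hy, h, hd⟩ := isCyclicAlg_data hA
  obtain ⟨_, _, -⟩ := central_simple hσ h hu hd
  obtain ⟨ι₁, y₁, hu₁, h₁, hy₁⟩ := exists_end_data hσ
  have hdE : Module.finrank k (Module.End k K) = Module.finrank k K ^ 2 := by
    rw [Module.finrank_linearMap, pow_two]
  constructor
  · intro hs
    obtain ⟨n, hn, ⟨e⟩⟩ := similar_field_iff.1 hs
    obtain rfl : n = Module.finrank k K := by
      have h2 := e.toLinearEquiv.finrank_eq
      rw [hd, Module.finrank_matrix, Fintype.card_fin, Module.finrank_self, mul_one, ← pow_two] at h2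
      exact (Nat.pow_left_injective two_ne_zero h2.symm)
    let f : Module.End k K ≃ₐ[k] A := (algEquivMatrix (Module.finBasis k K)).trans e.symm
    obtain ⟨c, hc⟩ := skolem_noether k (f.toAlgHom.comp ι₁) ι
    obtain ⟨Y, hY⟩ : ∃ Y : Aˣ, (Y : A) = c * f y₁ * ((c⁻¹ : Aˣ) : A) :=
      ⟨((c.isUnit.mul (hu₁.map f)).mul c⁻¹.isUnit).unit, rfl⟩
    have hYc : ∀ x, ι x * Y = Y * ι (σ x) := fun x => by
      have hf := congrArg f (h₁ x)
      rw [map_mul, map_mul] at hf
      rw [hY, hc, hc]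
      simp only [AlgHom.comp_apply, AlgEquiv.coe_toAlgHom, mul_assoc, Units.inv_mul_cancel_left]
      rw [← mul_assoc (f (ι₁ x)), hf, mul_assoc]
    have hYm : (Y : A) ^ Module.finrank k K = algebraMap k A 1 := by
      have key : ∀ l : ℕ, (Y : A) ^ l = c * f (y₁ ^ l) * ((c⁻¹ : Aˣ) : A) := fun l => by
        induction l with
        | zero => simp
        | succ l ih =>
          rw [pow_succ, ih, hY, pow_succ, map_mul]
          simp only [mul_assoc, Units.inv_mul_cancel_left]
      rw [key, hy₁, map_one, map_one, map_one, mul_one, Units.mul_inv]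
    obtain ⟨_, _, hcent⟩ := central_simple hσ h hu hd
    obtain ⟨z, hz⟩ : ((Y⁻¹ : Aˣ) : A) * y ∈ ι.range := by
      rw [← hcent, Subalgebra.mem_centralizer_iff]
      rintro _ ⟨x, rfl⟩
      show ι x * (↑Y⁻¹ * y) = ↑Y⁻¹ * y * ι x
      have h2 : ι x * ((Y⁻¹ : Aˣ) : A) = ((Y⁻¹ : Aˣ) : A) * ι (σ.symm x) := by
        have h3 := hYc (σ.symm x)
        rw [σ.apply_symm_apply] at h3
        calc ι x * ((Y⁻¹ : Aˣ) : A) = ((Y⁻¹ : Aˣ) : A) * ((Y : A) * ι x) * ((Y⁻¹ : Aˣ) : A) := by
              rw [Units.inv_mul_cancel_left]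
          _ = _ := by
              rw [← h3, mul_assoc, mul_assoc, Units.mul_inv, mul_one]
      rw [← mul_assoc, h2, mul_assoc, h, σ.apply_symm_apply, mul_assoc]
    refine ⟨z, (algebraMap k A).injective ?_⟩
    have h4 := (mul_map_pow_finrank hσ hYc hYm z).2
    rw [show ι z = ((Y⁻¹ : Aˣ) : A) * y from hz, Units.mul_inv_cancel_left, hy, one_mul] at h4
    exact h4.symm
  · rintro ⟨x, hx⟩
    have hx0 : x ≠ 0 := fun e => b.ne_zero (by rw [← hx, e, Algebra.norm_zero])
    obtain ⟨h', hm⟩ := mul_map_pow_finrank hσ h hy x⁻¹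
    have hn : (b : k) * Algebra.norm k x⁻¹ = 1 := by
      rw [← hx, ← map_mul, mul_inv_cancel₀ hx0, map_one]
    rw [hn] at hm
    have hu' : IsUnit (y * ι x⁻¹) := hu.mul ((isUnit_iff_ne_zero.2 (inv_ne_zero hx0)).map ι)
    obtain ⟨f, -, -⟩ := exists_cyclicHom hσ (ι := ι₁) (z := y₁) h' hu' hm hd h₁ hy₁
    have hinj : Function.Injective f := RingHom.injective f.toRingHom
    exact similar_of_algEquiv_matrix Module.finrank_pos.ne'
      ((AlgEquiv.ofBijective f ⟨hinj, (LinearMap.injective_iff_surjective_of_finrank_eq_finrank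
        (hd.trans hdE.symm) (f := f.toLinearMap)).1 hinj⟩).trans
          (algEquivMatrix (Module.finBasis k K)))

omit A in
/-- Cyclic algebras exist for every unit. -/
theorem exists_isCyclicAlg (b : kˣ) :
    ∃ B : Subalgebra k (Matrix (Fin (Module.finrank k K)) (Fin (Module.finrank k K)) K),
      CSAGal.IsCyclicAlg k K σ b B := by
  have : Nonempty (Fin (Module.finrank k K)) := ⟨⟨0, Module.finrank_pos⟩⟩
  exact ⟨_, isCyclicAlg_cyclicSubalgebra hσ b (fun x => diagHom_mul_shift hσ (AlgHom.id k K) (b : k) x)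
    (by rw [shift_pow_self, Matrix.algebraMap_eq_diagonal]; rfl)⟩

omit A in
/-- Cyclic algebras with the same parameters are isomorphic. -/
theorem nonempty_algEquiv_cyclic {b : kˣ} {B : Type w} [Ring B] [Algebra k B] {B' : Type x}
    [Ring B'] [Algebra k B'] (hB : CSAGal.IsCyclicAlg k K σ b B)
    (hB' : CSAGal.IsCyclicAlg k K σ b B') : Nonempty (B ≃ₐ[k] B') := by
  obtain ⟨_, _, ι, y, hu, hy, h, hd⟩ := isCyclicAlg_data hB
  obtain ⟨_, _, ι', y', hu', hy', h', hd'⟩ := isCyclicAlg_data hB'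
  obtain ⟨_, _, -⟩ := central_simple hσ h hu hd
  obtain ⟨f, -, -⟩ := exists_cyclicHom hσ (ι := ι') (z := y') h hu hy hd h' hy'
  have hinj : Function.Injective f := RingHom.injective f.toRingHom
  exact ⟨AlgEquiv.ofBijective f ⟨hinj, (LinearMap.injective_iff_surjective_of_finrank_eq_finrank
    (hd.trans hd'.symm) (f := f.toLinearMap)).1 hinj⟩⟩

/-- Tensor powers of cyclic algebras. -/
theorem similar_pow_cyclic {b : kˣ} (hA : CSAGal.IsCyclicAlg k K σ b A) (e : ℕ) {B : Type x}
    [Ring B] [Algebra k B] (hB : CSAGal.IsCyclicAlg k K σ (b ^ e) B) :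
    Similar k (⨂[k] _i : Fin e, A) B := by
  suffices h : ∀ B' : Subalgebra k (Matrix (Fin (Module.finrank k K)) (Fin (Module.finrank k K)) K),
      CSAGal.IsCyclicAlg k K σ (b ^ e) B' → Similar k (⨂[k] _i : Fin e, A) B' by
    obtain ⟨B', hB'⟩ := exists_isCyclicAlg hσ (b ^ e)
    obtain ⟨f⟩ := nonempty_algEquiv_cyclic hσ hB' hB
    exact (h B' hB').trans (similar_of_algEquiv f)
  clear hB
  induction e with
  | zero =>
    intro B' hB'
    rw [pow_zero] at hB'
    exact (similar_of_algEquiv (powZero k A)).trans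
      ((similar_field_iff_norm hσ hB').2 ⟨1, by simp⟩).symm
  | succ e ih =>
    intro B'' hB''
    obtain ⟨B', hB'⟩ := exists_isCyclicAlg hσ (b ^ e)
    rw [pow_succ'] at hB''
    obtain ⟨f⟩ := nonempty_tensor_algEquiv hσ b (b ^ e) hA hB' hB''
    exact (similar_of_algEquiv (powSucc k A e)).trans
      ((similar_refl.tensor (ih B' hB')).trans (similar_of_algEquiv_matrix Module.finrank_pos.ne' f))

end Groth.Agent.CSALib
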