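import Groth.Agent.CSALib.CharPDegree
import Groth.Agent.CSALib.BaseChange
import Mathlib.RingTheory.AdjoinRoot
import Mathlib.RingTheory.TensorProduct.Finite
import Mathlib.RingTheory.SimpleModule.WedderburnArtin
import Mathlib.Tactic.ComputeDegree

/-!
Division algebras of degree `2` or `3` in the same characteristic contain inseparable elements.
-/

universe u v w

namespace Groth.Agent.CSALib

open Polynomial TensorProduct

variable {K : Type u} [Field K] {A : Type v} [DivisionRing A] [Algebra K A]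

theorem not_separable_of_pow_mem [FiniteDimensional K A] (p : ℕ) [Fact p.Prime] [CharP K p] {v : A}
    (hv : v ^ p ∈ (algebraMap K A).range) (hv' : v ∉ (algebraMap K A).range) :
    ¬ IsSeparable K v := by
  intro hsep
  have hint : IsIntegral K v := Algebra.IsIntegral.isIntegral v
  have hdeg := natDegree_minpoly_eq_prime p hv hv'
  obtain ⟨c, hc⟩ := hv
  have h : X ^ p - C c = minpoly K v :=
    eq_of_monic_of_dvd_of_natDegree_le (minpoly.monic hint)
      (monic_X_pow_sub_C c (Fact.out : p.Prime).ne_zero)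
      (minpoly.dvd K v (by rw [map_sub, map_pow, aeval_X, aeval_C, hc, sub_self]))
      (by rw [natDegree_X_pow_sub_C, hdeg])
  refine (separable_iff_derivative_ne_zero (minpoly.irreducible hint)).1 hsep ?_
  rw [← h, derivative_sub, derivative_X_pow, derivative_C, CharP.cast_eq_zero K p, C_0, zero_mul,
    sub_zero]

theorem two_le_natDegree_minpoly [FiniteDimensional K A] {x : A} (hx : x ∉ (algebraMap K A).range) :
    2 ≤ (minpoly K x).natDegree := by
  have h0 := minpoly.natDegree_pos (A := K) (Algebra.IsIntegral.isIntegral x)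
  by_contra h
  obtain ⟨r, hr⟩ := minpoly.natDegree_eq_one_iff.1 (show (minpoly K x).natDegree = 1 by omega)
  exact hx ⟨r, hr⟩

/-- A non-central element of a division algebra of degree three has degree three. -/
theorem natDegree_minpoly_eq_three [Algebra.IsCentral K A] [FiniteDimensional K A]
    (hA : Module.finrank K A = 3 ^ 2) {x : A} (hx : x ∉ (algebraMap K A).range) :
    (minpoly K x).natDegree = 3 := by
  have hint : IsIntegral K x := Algebra.IsIntegral.isIntegral x
  obtain ⟨L, _, _, g, P, hPm, hPn, hP⟩ := exists_redCharpoly hA x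
  have hginj : Function.Injective g := g.toRingHom.injective
  have hPx : aeval x P = 0 := by
    refine (map_eq_zero_iff g hginj).1 ?_
    rw [← aeval_algHom_apply, ← aeval_map_algebraMap L, hP, Matrix.aeval_self_charpoly]
  obtain ⟨R, hR⟩ := minpoly.dvd K x hPx
  have h2 := two_le_natDegree_minpoly hx
  have hle := natDegree_minpoly_le hA x
  by_contra hne
  have hQ2 : (minpoly K x).natDegree = 2 := by omega
  have hR0 : R ≠ 0 := fun h => hPm.ne_zero (by rw [hR, h, mul_zero])
  have hR1 : R.degree = 1 := by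
    rw [degree_eq_natDegree hR0]
    have := natDegree_mul (minpoly.ne_zero hint) hR0
    rw [← hR, hPn, hQ2] at this
    exact_mod_cast (by omega : R.natDegree = 1)
  obtain ⟨r, hr⟩ := exists_root_of_degree_eq_one hR1
  have hPr : (g x).charpoly.eval (algebraMap K L r) = 0 := by
    rw [← hP, eval_map, eval₂_at_apply, hR, eval_mul, hr.eq_zero, mul_zero, map_zero]
  rw [Matrix.eval_charpoly] at hPr
  have hu : IsUnit (algebraMap K A r - x) :=
    isUnit_iff_ne_zero.2 fun h => hx ⟨r, sub_eq_zero.1 h⟩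
  have hu' := (hu.map g).map Matrix.detMonoidHom
  rw [map_sub, AlgHom.commutes] at hu'
  refine hu'.ne_zero ?_
  rw [← hPr, Matrix.coe_detMonoidHom]
  congr 2

theorem exists_inseparable_two [Algebra.IsCentral K A] [FiniteDimensional K A] [CharP K 2]
    (hA : Module.finrank K A = 2 ^ 2) {x : A} (hx : x ∉ (algebraMap K A).range)
    (hsep : IsSeparable K x) : ∃ v : A, ¬ IsSeparable K v := by
  haveI : Fact (Nat.Prime 2) := ⟨Nat.prime_two⟩
  haveI : CharP A 2 := charP_of_injective_algebraMap (algebraMap K A).injective 2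
  have hdeg : ∀ {z : A}, z ∉ (algebraMap K A).range → ∃ a b : K, z * z = a • z + algebraMap K A b := by
    intro z hz
    have hint : IsIntegral K z := Algebra.IsIntegral.isIntegral z
    have h2 : (minpoly K z).natDegree = 2 :=
      le_antisymm (natDegree_minpoly_le hA z) (two_le_natDegree_minpoly hz)
    have h := minpoly.aeval K z
    rw [aeval_eq_sum_range, h2, Finset.sum_range_succ, Finset.sum_range_succ, Finset.sum_range_one,
      show (minpoly K z).coeff 2 = 1 from h2 ▸ (minpoly.monic hint).coeff_natDegree, one_smul,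
      pow_zero, pow_one, ← Algebra.algebraMap_eq_smul_one, sq] at h
    exact ⟨-(minpoly K z).coeff 1, -(minpoly K z).coeff 0, by
      rw [neg_smul, map_neg, ← sub_eq_zero, ← h]; abel⟩
  obtain ⟨a, b, hab⟩ := hdeg hx
  have ha : a ≠ 0 := by
    rintro rfl
    refine not_separable_of_pow_mem 2 ⟨b, ?_⟩ hx hsep
    rw [sq, hab, zero_smul, zero_add]
  have hD : innerDer (K := K) x ^ 2 = a • innerDer x := by
    rw [innerDer_pow_char]
    refine LinearMap.ext fun w => ?_
    rw [LinearMap.smul_apply, innerDer_apply, innerDer_apply, sq, hab, add_mul, mul_add, smul_mul_assoc,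
      mul_smul_comm, Algebra.commutes b w, smul_sub]
    abel
  obtain ⟨w, hw⟩ : ∃ w, innerDer (K := K) x w ≠ 0 := by
    by_contra hc
    push Not at hc
    have hmem : x ∈ Subalgebra.center K A :=
      Subalgebra.mem_center_iff.2 fun b => (sub_eq_zero.1 (hc b)).symm
    rw [Algebra.IsCentral.center_eq_bot, Algebra.mem_bot] at hmem
    obtain ⟨r, hr⟩ := hmem
    exact hx ⟨r, hr⟩
  set y := innerDer (K := K) x w with hy
  have hxy : x * y = y * x + a • y := by
    have h := LinearMap.congr_fun hD w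
    rw [sq, Module.End.mul_apply, LinearMap.smul_apply, ← hy, innerDer_apply] at h
    rw [← h]; abel
  have hyK : y ∉ (algebraMap K A).range := by
    rintro ⟨r, hr⟩
    rw [← hr, Algebra.commutes, left_eq_add, smul_eq_zero] at hxy
    exact hw (hr ▸ hxy.resolve_left ha)
  have hxy2 : x * (y * y) = y * y * x := by
    have e2 : ((a + a) • (y * y) : A) = 0 := by rw [CharTwo.add_self_eq_zero, zero_smul]
    rw [← mul_assoc, hxy, add_mul, smul_mul_assoc, mul_assoc, hxy, mul_add, mul_smul_comm, ← mul_assoc,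
      add_assoc, ← add_smul, e2, add_zero]
  obtain ⟨c, d, hcd⟩ := hdeg hyK
  have hc : c = 0 := by
    rw [hcd, mul_add, add_mul, mul_smul_comm, smul_mul_assoc, ← Algebra.commutes d x, hxy, smul_add,
      smul_smul, add_left_inj, add_eq_left, smul_eq_zero, mul_eq_zero] at hxy2
    exact (hxy2.resolve_right hw).resolve_right ha
  exact ⟨y, not_separable_of_pow_mem 2 ⟨d, by rw [sq, hcd, hc, zero_smul, zero_add]⟩ hyK⟩

theorem matrix_three_identity {R : Type w} [CommRing R] (M : Matrix (Fin 3) (Fin 3) R) :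
    (2 : R) • (M * M * M) = ((2 : R) * M.trace) • (M * M) - (M.trace ^ 2 - (M * M).trace) • M +
      ((2 : R) * M.det) • (1 : Matrix (Fin 3) (Fin 3) R) := by
  ext i j
  fin_cases i <;> fin_cases j <;>
    simp [Matrix.trace, Matrix.diag, Matrix.mul_apply, Fin.sum_univ_three, Matrix.det_fin_three,
      Matrix.one_apply] <;> ring

/-- In characteristic three, an element of reduced trace zero whose square has reduced trace zero has a
central cube. -/
theorem exists_trace_form [Algebra.IsCentral K A] [FiniteDimensional K A] [CharP K 3]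
    (hA : Module.finrank K A = 3 ^ 2) :
    ∃ T : A →ₗ[K] K, T 1 = 0 ∧
      (∀ x : A, T x = 0 → T (x * x) = 0 → x ^ 3 ∈ (algebraMap K A).range) ∧
      (∀ (F : Type u) [Field F] [Algebra K F] (z : F ⊗[K] A), IsNilpotent z →
        TensorProduct.rid K F (LinearMap.lTensor F T z) = 0) := by
  obtain ⟨L, _, _, g, hg⟩ := exists_splitting_redCharpoly (A := A) hA
  have hι := (algebraMap K L).injective
  have hT : ∀ a : A, ∃ t : K, algebraMap K L t = (g a).trace := fun a => by
    obtain ⟨P, -, -, hP⟩ := hg a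
    refine ⟨-P.coeff 2, ?_⟩
    rw [Matrix.trace_eq_neg_charpoly_coeff, ← hP, coeff_map, map_neg, Fintype.card_fin]
  choose t ht using hT
  let T : A →ₗ[K] K :=
    { toFun := t
      map_add' := fun a b => hι (by rw [map_add, ht, ht, ht, map_add, Matrix.trace_add])
      map_smul' := fun r a => hι (by
        rw [RingHom.id_apply, smul_eq_mul, map_mul, ht, ht, map_smul, Matrix.trace_smul,
          Algebra.smul_def]) }
  haveI : Fact (Nat.Prime 3) := ⟨Nat.prime_three⟩
  haveI : CharP L 3 := charP_of_injective_algebraMap hι 3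
  refine ⟨T, hι ?_, fun x hx hxx => ?_, fun F _ _ z hz => ?_⟩
  · show algebraMap K L (t 1) = algebraMap K L 0
    rw [ht, map_one, Matrix.trace_one, map_zero, Fintype.card_fin]
    exact CharP.cast_eq_zero L 3
  · have h1 : (g x).trace = 0 := by rw [← ht, show t x = 0 from hx, map_zero]
    have h2 : (g x * g x).trace = 0 := by
      rw [← map_mul, ← ht, show t (x * x) = 0 from hxx, map_zero]
    have h3 := matrix_three_identity (g x)
    rw [h1, h2, mul_zero, zero_smul, zero_pow two_ne_zero, sub_zero, zero_smul, sub_zero, zero_add,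
      mul_smul] at h3
    have h20 : (2 : L) ≠ 0 := by
      intro h
      have := (CharP.cast_eq_zero_iff L 3 2).1 (by exact_mod_cast h)
      omega
    obtain ⟨P, -, -, hP⟩ := hg x
    refine ⟨(-1) ^ 3 * P.coeff 0, g.toRingHom.injective ?_⟩
    show g (algebraMap K A _) = g (x ^ 3)
    rw [AlgHom.commutes, map_pow, pow_succ (g x) 2, sq, smul_right_injective _ h20 h3,
      Matrix.det_eq_sign_charpoly_coeff, ← hP, coeff_map, Fintype.card_fin,
      IsScalarTower.algebraMap_apply K L (Matrix (Fin 3) (Fin 3) L), Algebra.algebraMap_eq_smul_one]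
    congr 1
    simp
  · let gR : A →ₐ[K] Matrix (Fin 3) (Fin 3) (F ⊗[K] L) :=
      ((Algebra.TensorProduct.includeRight : L →ₐ[K] F ⊗[K] L).mapMatrix).comp g
    let Φ : F ⊗[K] A →ₐ[K] Matrix (Fin 3) (Fin 3) (F ⊗[K] L) :=
      Algebra.TensorProduct.lift (IsScalarTower.toAlgHom K F _) gR
        (fun f a => Algebra.commutes f (gR a))
    have htr : ∀ w, (Φ w).trace = (Algebra.TensorProduct.includeLeft : F →ₐ[K] F ⊗[K] L)
        (TensorProduct.rid K F (LinearMap.lTensor F T w)) := by
      intro w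
      induction w with
      | zero => simp
      | add a b ha hb => rw [map_add, Matrix.trace_add, ha, hb, map_add, map_add, map_add]
      | tmul f a =>
        rw [Algebra.TensorProduct.lift_tmul, IsScalarTower.toAlgHom_apply, ← Algebra.smul_def,
          Matrix.trace_smul, LinearMap.lTensor_tmul, TensorProduct.rid_tmul,
          show (gR a).trace = Algebra.TensorProduct.includeRight (g a).trace from
            (map_sum (Algebra.TensorProduct.includeRight : L →ₐ[K] F ⊗[K] L) _ _).symm,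
          ← ht, Algebra.TensorProduct.includeRight_apply, Algebra.smul_def,
          Algebra.TensorProduct.algebraMap_apply, Algebra.algebraMap_self_apply,
          Algebra.TensorProduct.tmul_mul_tmul, one_mul, mul_one,
          Algebra.TensorProduct.includeLeft_apply, Algebra.algebraMap_eq_smul_one,
          TensorProduct.tmul_smul, TensorProduct.smul_tmul']
        rfl
    have h := Matrix.isNilpotent_trace_of_isNilpotent (hz.map Φ)
    rw [htr] at h
    refine (IsNilpotent.map_iff ?_).1 h |>.eq_zero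
    exact Algebra.TensorProduct.includeLeft_injective (algebraMap K L).injective

theorem isotropic_of_tensor [FiniteDimensional K A] (T : A →ₗ[K] K) (hT1 : T 1 = 0) {f : K[X]}
    (hf : Irreducible f) (hf3 : f.natDegree = 3) (v₀ v₁ v₂ : A)
    (h₀ : T v₀ = 0) (h₁ : T v₁ = 0) (h₂ : T v₂ = 0)
    (hne : ¬ (v₀ ∈ (algebraMap K A).range ∧ v₁ ∈ (algebraMap K A).range ∧ v₂ ∈ (algebraMap K A).range))
    (hdvd : f ∣ C (T (v₀ * v₀)) + C (T (v₀ * v₁ + v₁ * v₀)) * X +
      C (T (v₁ * v₁ + v₀ * v₂ + v₂ * v₀)) * X ^ 2 + C (T (v₁ * v₂ + v₂ * v₁)) * X ^ 3 +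
      C (T (v₂ * v₂)) * X ^ 4) :
    ∃ y : A, y ∉ (algebraMap K A).range ∧ T y = 0 ∧ T (y * y) = 0 := by
  have hsmall : ∀ {Q : K[X]}, f ∣ Q → Q.natDegree < 3 → Q = 0 := fun {Q} hQ hdeg =>
    eq_zero_of_dvd_of_natDegree_lt hQ (hf3.symm ▸ hdeg)
  have hT : ∀ k : K, T (algebraMap K A k) = 0 := fun k => by
    rw [Algebra.algebraMap_eq_smul_one, map_smul, hT1, smul_zero]
  have hkl : ∀ (k : K) (a : A), T (algebraMap K A k * a) = k * T a := fun k a => by
    rw [← Algebra.smul_def, map_smul, smul_eq_mul]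
  have hkr : ∀ (k : K) (a : A), T (a * algebraMap K A k) = k * T a := fun k a => by
    rw [← Algebra.commutes, hkl]
  set P := C (T (v₀ * v₀)) + C (T (v₀ * v₁ + v₁ * v₀)) * X +
      C (T (v₁ * v₁ + v₀ * v₂ + v₂ * v₀)) * X ^ 2 + C (T (v₁ * v₂ + v₂ * v₁)) * X ^ 3 +
      C (T (v₂ * v₂)) * X ^ 4 with hP
  by_cases hv2 : v₂ ∈ (algebraMap K A).range
  · obtain ⟨k, rfl⟩ := hv2
    have hP' : P = C (T (v₀ * v₀)) + C (T (v₀ * v₁ + v₁ * v₀)) * X + C (T (v₁ * v₁)) * X ^ 2 := by
      simp [hP, map_add, hkl, hkr, h₀, h₁, hT]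
    have h0 := hsmall hdvd (by
      rw [hP']
      have : (C (T (v₀ * v₀)) + C (T (v₀ * v₁ + v₁ * v₀)) * X + C (T (v₁ * v₁)) * X ^ 2).natDegree ≤ 2 := by
        compute_degree
      omega)
    rw [hP'] at h0
    have hc := fun i => congrArg (fun Q : K[X] => Q.coeff i) h0
    have hq0 : T (v₀ * v₀) = 0 := by simpa [coeff_X, coeff_C, coeff_X_pow] using hc 0
    have hq1 : T (v₁ * v₁) = 0 := by simpa [coeff_X, coeff_C, coeff_X_pow] using hc 2
    by_cases hv1 : v₁ ∈ (algebraMap K A).range
    · exact ⟨v₀, fun hv0 => hne ⟨hv0, hv1, ⟨k, rfl⟩⟩, h₀, hq0⟩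
    · exact ⟨v₁, hv1, h₁, hq1⟩
  by_cases hq2 : T (v₂ * v₂) = 0
  · exact ⟨v₂, hv2, h₂, hq2⟩
  have hdeg : P.natDegree = 4 := by rw [hP]; compute_degree!
  obtain ⟨h, hh⟩ := hdvd
  have hh0 : h ≠ 0 := by
    rintro rfl
    rw [hh, mul_zero, natDegree_zero] at hdeg
    omega
  obtain ⟨r, hr⟩ := exists_root_of_degree_eq_one (show h.degree = 1 by
    rw [degree_eq_natDegree hh0]
    rw [hh, natDegree_mul hf.ne_zero hh0, hf3] at hdeg
    exact_mod_cast (by omega : h.natDegree = 1))
  have hyq : T ((v₀ + r • v₁ + r ^ 2 • v₂) * (v₀ + r • v₁ + r ^ 2 • v₂)) = 0 := by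
    have hev : P.eval r = 0 := by rw [hh, eval_mul, hr.eq_zero, mul_zero]
    rw [← hev, hP]
    simp [mul_add, add_mul, map_add, map_smul]
    ring
  by_cases hy : v₀ + r • v₁ + r ^ 2 • v₂ ∈ (algebraMap K A).range
  swap
  · exact ⟨_, hy, by simp [h₀, h₁, h₂], hyq⟩
  exfalso
  obtain ⟨k, hk⟩ := hy
  obtain rfl : v₀ = algebraMap K A k - r • v₁ - r ^ 2 • v₂ := by rw [hk]; abel
  have hfac : P = (X - C r) ^ 2 * (C (T ((v₁ + r • v₂) * (v₁ + r • v₂))) +
      C (T ((v₁ + r • v₂) * v₂ + v₂ * (v₁ + r • v₂))) * X + C (T (v₂ * v₂)) * X ^ 2) := by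
    rw [hP]
    simp [mul_add, add_mul, mul_sub, sub_mul, map_add, map_sub, map_smul, hkl, hkr, hT, h₁, h₂]
    ring
  have hQ := (hf.prime.dvd_or_dvd (hfac ▸ Dvd.intro h hh.symm)).resolve_left fun hd => by
    have := natDegree_le_of_dvd (hf.prime.dvd_of_dvd_pow hd) (X_sub_C_ne_zero r)
    rw [natDegree_X_sub_C, hf3] at this
    omega
  have h0 := hsmall hQ (by
    refine lt_of_le_of_lt ?_ (by norm_num : 2 < 3)
    compute_degree)
  exact hq2 (by simpa [coeff_X, coeff_C, coeff_X_pow] using congrArg (fun Q : K[X] => Q.coeff 2) h0)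

theorem exists_inseparable_three [Algebra.IsCentral K A] [FiniteDimensional K A] [CharP K 3]
    (hA : Module.finrank K A = 3 ^ 2) {x : A} (hx : x ∉ (algebraMap K A).range) :
    ∃ v : A, ¬ IsSeparable K v := by
  classical
  haveI : Fact (Nat.Prime 3) := ⟨Nat.prime_three⟩
  obtain ⟨T, hT1, hcube, hnil⟩ := exists_trace_form (A := A) hA
  have hint : IsIntegral K x := Algebra.IsIntegral.isIntegral x
  set f := minpoly K x with hfdef
  have hf := minpoly.irreducible hint
  have hf3 : f.natDegree = 3 := natDegree_minpoly_eq_three hA hx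
  haveI : Fact (Irreducible f) := ⟨hf⟩
  let F := AdjoinRoot f
  let α : F := AdjoinRoot.root f
  have hind : ∀ {Q : K[X]}, aeval α Q = 0 → f ∣ Q := fun {Q} h => by
    rwa [AdjoinRoot.aeval_eq, AdjoinRoot.mk_eq_zero] at h
  let β : F ⊗[K] A := Algebra.TensorProduct.includeRight x
  set g := (f.map (algebraMap K F)) /ₘ (X - C α) with hg
  have hroot : (f.map (algebraMap K F)).IsRoot α := by
    rw [IsRoot.def, eval_map, ← aeval_def, AdjoinRoot.aeval_eq, AdjoinRoot.mk_self]
  have hfg : (X - C α) * g = f.map (algebraMap K F) := mul_divByMonic_eq_iff_isRoot.2 hroot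
  have hfm : (f.map (algebraMap K F)).Monic := (minpoly.monic hint).map _
  have hgm : g.Monic := (monic_X_sub_C α).of_mul_monic_left (hfg.symm ▸ hfm)
  have hg2 : g.natDegree = 2 := by
    rw [hg, natDegree_divByMonic _ (monic_X_sub_C α), natDegree_map, hf3, natDegree_X_sub_C]
  have hdual : ∀ j : Fin 3, ∃ φ : A →ₗ[K] K, ∀ i : Fin 3, φ (x ^ (i : ℕ)) = if i = j then 1 else 0 := by
    intro j
    have hli : LinearIndependent K fun i : Fin 3 => x ^ (i : ℕ) :=
      (linearIndependent_pow x).comp (Fin.cast hf3.symm) (Fin.cast_injective _)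
    let b := Module.Basis.span hli
    obtain ⟨φ, hφ⟩ := LinearMap.exists_extend (b.coord j)
    refine ⟨φ, fun i => ?_⟩
    have hb : ((b i : Submodule.span K (Set.range fun i : Fin 3 => x ^ (i : ℕ))) : A) = x ^ (i : ℕ) :=
      Module.Basis.span_apply hli i ▸ rfl
    rw [← hb, show φ (b i : A) = b.coord j (b i) from LinearMap.congr_fun hφ (b i),
      Module.Basis.coord_apply, Module.Basis.repr_self, Finsupp.single_apply]
  obtain ⟨φ₂, hφi⟩ := hdual 2
  have hgβ : aeval β g ≠ 0 := by
    intro h0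
    have h1 := congrArg (fun w => TensorProduct.rid K F (LinearMap.lTensor F φ₂ w)) h0
    rw [aeval_eq_sum_range, hg2] at h1
    simp [β, Finset.sum_range_succ, Algebra.TensorProduct.tmul_pow, Algebra.smul_def,
      Algebra.TensorProduct.algebraMap_apply, show φ₂ 1 = 0 from by simpa using hφi 0,
      show φ₂ x = 0 from by simpa using hφi 1, show φ₂ (x ^ 2) = 1 from by simpa using hφi 2,
      show g.coeff 2 = 1 from hg2 ▸ hgm.coeff_natDegree] at h1
  have hf0 : aeval β (f.map (algebraMap K F)) = 0 := by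
    rw [aeval_map_algebraMap, aeval_algHom_apply, minpoly.aeval, map_zero]
  set y := aeval β (X - C α) with hy
  have hy0 : y ≠ 0 := by
    intro h0
    rw [hy, map_sub, aeval_X, aeval_C, sub_eq_zero] at h0
    obtain ⟨φ, hφ⟩ := hdual 1
    have hφ1 : φ 1 = 0 := by simpa using hφ 0
    have hφx : φ x = 1 := by simpa using hφ 1
    have h2 := congrArg (fun w => TensorProduct.rid K F (LinearMap.lTensor F φ w)) h0
    simp [β, Algebra.TensorProduct.algebraMap_apply, hφ1, hφx] at h2
  have hyu : ¬ IsUnit y := fun hu => hgβ (hu.mul_right_eq_zero.1 (by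
    rw [hy, ← map_mul, hfg, hf0]))
  haveI : IsSimpleRing (F ⊗[K] A) := isSimpleRing_baseChange K A F
  haveI : IsArtinianRing (F ⊗[K] A) := IsArtinianRing.of_finite F _
  haveI : IsSemisimpleRing (F ⊗[K] A) := IsSimpleRing.isSemisimpleRing_iff_isArtinianRing.2 ‹_›
  obtain ⟨e, he, hI⟩ := IsSemisimpleRing.ideal_eq_span_idempotent (Ideal.span {y})
  have he0 : e ≠ 0 := by
    rintro rfl
    rw [Ideal.span_singleton_eq_bot.2 rfl, Ideal.span_singleton_eq_bot] at hI
    exact hy0 hI
  have he1 : e ≠ 1 := by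
    rintro rfl
    have h1 : (1 : F ⊗[K] A) ∈ Ideal.span {y} := hI ▸ Ideal.mem_span_singleton_self _
    obtain ⟨a, ha⟩ := Ideal.mem_span_singleton'.1 h1
    exact hyu (IsUnit.of_mul_eq_one_right a ha)
  obtain ⟨t, ht⟩ : ∃ t, e * t * (1 - e) ≠ 0 := by
    by_contra hc
    push Not at hc
    let J : TwoSidedIdeal (F ⊗[K] A) := TwoSidedIdeal.mk' {w | ∀ t, w * t * (1 - e) = 0}
      (fun t => by simp) (fun {a b} ha hb t => by rw [add_mul, add_mul, ha, hb, add_zero])
      (fun {a} ha t => by rw [neg_mul, neg_mul, ha, neg_zero])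
      (fun {a b} hb t => by rw [mul_assoc a, mul_assoc a, hb, mul_zero])
      (fun {a b} ha t => by rw [mul_assoc a]; exact ha _)
    have heJ : e ∈ J := (TwoSidedIdeal.mem_mk' ..).2 hc
    have h1J : (1 : F ⊗[K] A) ∈ J := by
      rcases IsSimpleRing.simple.eq_bot_or_eq_top J with hJ | hJ
      · rw [hJ, TwoSidedIdeal.mem_bot] at heJ
        exact absurd heJ he0
      · rw [hJ]; trivial
    have h2 := (TwoSidedIdeal.mem_mk' ..).1 h1J 1
    rw [one_mul, one_mul, sub_eq_zero] at h2
    exact he1 h2.symm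
  set z := e * t * (1 - e) with hzdef
  have hz2 : z * z = 0 := by
    have h0 : (1 - e) * e = 0 := by rw [sub_mul, one_mul, he.eq, sub_self]
    rw [hzdef, mul_assoc (e * t), ← mul_assoc (1 - e), ← mul_assoc (1 - e), h0]
    simp
  obtain ⟨v, hv⟩ : ∃ v : Fin 3 → A, z = (1 : F) ⊗ₜ[K] v 0 + α ⊗ₜ[K] v 1 + (α ^ 2) ⊗ₜ[K] v 2 := by
    induction z using TensorProduct.induction_on with
    | zero => exact ⟨0, by simp⟩
    | add a b ha hb =>
      obtain ⟨va, rfl⟩ := ha
      obtain ⟨vb, rfl⟩ := hb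
      exact ⟨va + vb, by simp only [Pi.add_apply, TensorProduct.tmul_add]; abel⟩
    | tmul c a =>
      obtain ⟨Q, rfl⟩ := AdjoinRoot.mk_surjective c
      refine ⟨fun i => (Q %ₘ f).coeff i • a, ?_⟩
      rw [← AdjoinRoot.mk_leftInverse (minpoly.monic hint) (AdjoinRoot.mk f Q),
        AdjoinRoot.modByMonicHom_mk, ← AdjoinRoot.aeval_eq,
        aeval_eq_sum_range' (n := 3) (hf3 ▸ natDegree_modByMonic_lt Q (minpoly.monic hint) hf.ne_one)]
      simp [Finset.sum_range_succ, TensorProduct.add_tmul, TensorProduct.smul_tmul, α]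
      rfl
  have hne : ¬ (v 0 ∈ (algebraMap K A).range ∧ v 1 ∈ (algebraMap K A).range ∧
      v 2 ∈ (algebraMap K A).range) := by
    rintro ⟨⟨a, ha⟩, ⟨b, hb⟩, ⟨c, hc⟩⟩
    have hzc : z = Algebra.TensorProduct.includeLeft (R := K) (S := K)
        (a • (1 : F) + b • α + c • α ^ 2) := by
      rw [hv, ← ha, ← hb, ← hc]
      simp [Algebra.algebraMap_eq_smul_one, TensorProduct.tmul_smul, TensorProduct.add_tmul,
        TensorProduct.smul_tmul']
    have hc0 : IsNilpotent (a • (1 : F) + b • α + c • α ^ 2) :=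
      (IsNilpotent.map_iff (Algebra.TensorProduct.includeLeft_injective (R := K) (S := K)
        (algebraMap K A).injective)).1 (hzc ▸ ⟨2, by rw [sq]; exact hz2⟩)
    exact ht (by rw [hzc, hc0.eq_zero, map_zero])
  have hTz := hnil F z ⟨2, by rw [sq]; exact hz2⟩
  have hT0 : C (T (v 0)) + C (T (v 1)) * X + C (T (v 2)) * X ^ 2 = 0 := by
    refine eq_zero_of_dvd_of_natDegree_lt (hind ?_) ?_
    · rw [hv] at hTz
      simp [Algebra.smul_def] at hTz
      simpa using hTz
    · rw [hf3]
      refine lt_of_le_of_lt ?_ (by norm_num : 2 < 3)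
      compute_degree
  have hcoef := fun i => congrArg (fun Q : K[X] => Q.coeff i) hT0
  have hzz := hnil F (z * z) ⟨1, by rw [pow_one, hz2]⟩
  rw [hv] at hzz
  have hdvd : f ∣ C (T (v 0 * v 0)) + C (T (v 0 * v 1 + v 1 * v 0)) * X +
      C (T (v 1 * v 1 + v 0 * v 2 + v 2 * v 0)) * X ^ 2 + C (T (v 1 * v 2 + v 2 * v 1)) * X ^ 3 +
      C (T (v 2 * v 2)) * X ^ 4 := by
    refine hind ?_
    rw [← hzz]
    simp [mul_add, add_mul, Algebra.smul_def, map_add]
    ring
  obtain ⟨w, hw, hw1, hw2⟩ := isotropic_of_tensor T hT1 hf hf3 (v 0) (v 1) (v 2)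
    (by simpa [coeff_X, coeff_C, coeff_X_pow] using hcoef 0)
    (by simpa [coeff_X, coeff_C, coeff_X_pow] using hcoef 1)
    (by simpa [coeff_X, coeff_C, coeff_X_pow] using hcoef 2) hne hdvd
  exact ⟨w, not_separable_of_pow_mem 3 (hcube w hw1 hw2) hw⟩

end Groth.Agent.CSALib
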