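import Groth.Agent.CSALib.BrauerRel
import Groth.Agent.CSALib.SkolemNoether
import Groth.Agent.GalDescX.GL
import Mathlib.LinearAlgebra.Matrix.Kronecker
import Mathlib.LinearAlgebra.Matrix.Reindex
import Mathlib.LinearAlgebra.Dimension.Free

/-!
Factor sets of split algebras over a Galois extension; the degree kills the class.
-/

universe u v w x

namespace Groth.Agent.CSALib

open TensorProduct Matrix
open scoped Kronecker

variable {k : Type u} [Field k] {K : Type v} [Field K] [Algebra k K]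

/-- `A` has a matrix representation over `K` whose Galois twists are given by the matrices `u σ`,
with factor set `c`. -/
def HasFactorSet (k : Type u) [Field k] (K : Type v) [Field K] [Algebra k K]
    (A : Type w) [Ring A] [Algebra k A] (c : (K ≃ₐ[k] K) → (K ≃ₐ[k] K) → K) : Prop :=
  ∃ (N : ℕ) (g : A →ₐ[k] Matrix (Fin N) (Fin N) K) (u : (K ≃ₐ[k] K) → GL (Fin N) K),
    N ≠ 0 ∧ Module.finrank k A = N ^ 2 ∧
    (∀ σ a, g a * (u σ : Matrix (Fin N) (Fin N) K) = (u σ : Matrix (Fin N) (Fin N) K) * (g a).map σ) ∧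
    ∀ σ τ, (u σ : Matrix (Fin N) (Fin N) K) * (u τ : Matrix (Fin N) (Fin N) K).map σ =
      c σ τ • (u (σ * τ) : Matrix (Fin N) (Fin N) K)

theorem HasFactorSet.of_fintype {A : Type w} [Ring A] [Algebra k A]
    {c : (K ≃ₐ[k] K) → (K ≃ₐ[k] K) → K} {ι : Type*} [Fintype ι] [DecidableEq ι] [Nonempty ι]
    (g : A →ₐ[k] Matrix ι ι K) (u : (K ≃ₐ[k] K) → GL ι K)
    (hd : Module.finrank k A = Fintype.card ι ^ 2)
    (hg : ∀ σ a, g a * (u σ : Matrix ι ι K) = (u σ : Matrix ι ι K) * (g a).map σ)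
    (hu : ∀ σ τ, (u σ : Matrix ι ι K) * (u τ : Matrix ι ι K).map σ =
      c σ τ • (u (σ * τ) : Matrix ι ι K)) :
    HasFactorSet k K A c := by
  let e := Fintype.equivFin ι
  let E : Matrix ι ι K ≃ₐ[K] Matrix (Fin (Fintype.card ι)) (Fin (Fintype.card ι)) K :=
    Matrix.reindexAlgEquiv K K e
  have hmap : ∀ (σ : K ≃ₐ[k] K) (M : Matrix ι ι K), (E M).map σ = E (M.map σ) := fun σ M => rfl
  refine ⟨Fintype.card ι, (E.toAlgHom.restrictScalars k).comp g,
    fun σ => Units.map E.toRingEquiv.toMonoidHom (u σ), Fintype.card_ne_zero, hd,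
    fun σ a => ?_, fun σ τ => ?_⟩
  · show E (g a) * E (u σ : Matrix ι ι K) = E (u σ : Matrix ι ι K) * (E (g a)).map σ
    rw [hmap, ← map_mul, ← map_mul, hg]
  · show E (u σ : Matrix ι ι K) * (E (u τ : Matrix ι ι K)).map σ = c σ τ • E _
    rw [hmap, ← map_mul, hu, map_smul]

/-- Kronecker product with the identity, on the left factor. -/
noncomputable def kronLeft (n m : ℕ) :
    Matrix (Fin n) (Fin n) K →ₐ[k] Matrix (Fin n × Fin m) (Fin n × Fin m) K where
  toFun M := M ⊗ₖ (1 : Matrix (Fin m) (Fin m) K)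
  map_one' := Matrix.one_kronecker_one
  map_mul' M N := by rw [← Matrix.mul_kronecker_mul, mul_one]
  map_zero' := Matrix.zero_kronecker _
  map_add' M N := Matrix.add_kronecker _ _ _
  commutes' r := by
    ext ⟨i, j⟩ ⟨i', j'⟩
    simp [Matrix.algebraMap_matrix_apply, Matrix.one_apply, ite_and, Prod.ext_iff]
    split_ifs <;> rfl

/-- Kronecker product with the identity, on the right factor. -/
noncomputable def kronRight (n m : ℕ) :
    Matrix (Fin m) (Fin m) K →ₐ[k] Matrix (Fin n × Fin m) (Fin n × Fin m) K where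
  toFun M := (1 : Matrix (Fin n) (Fin n) K) ⊗ₖ M
  map_one' := Matrix.one_kronecker_one
  map_mul' M N := by rw [← Matrix.mul_kronecker_mul, mul_one]
  map_zero' := Matrix.kronecker_zero _
  map_add' M N := Matrix.kronecker_add _ _ _
  commutes' r := by
    ext ⟨i, j⟩ ⟨i', j'⟩
    simp [Matrix.algebraMap_matrix_apply, Matrix.one_apply, ite_and, Prod.ext_iff]
    split_ifs <;> rfl

/-- Factor sets multiply. -/
theorem HasFactorSet.tensor {A : Type w} [Ring A] [Algebra k A] {B : Type x} [Ring B] [Algebra k B]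
    {c d : (K ≃ₐ[k] K) → (K ≃ₐ[k] K) → K} (hA : HasFactorSet k K A c) (hB : HasFactorSet k K B d) :
    HasFactorSet k K (A ⊗[k] B) (fun σ τ => c σ τ * d σ τ) := by
  obtain ⟨n, g, u, hn, hdA, hg, hu⟩ := hA
  obtain ⟨m, h, v, hm, hdB, hh, hv⟩ := hB
  have : Nonempty (Fin n × Fin m) := ⟨⟨⟨0, Nat.pos_of_ne_zero hn⟩, ⟨0, Nat.pos_of_ne_zero hm⟩⟩⟩
  let G : A ⊗[k] B →ₐ[k] Matrix (Fin n × Fin m) (Fin n × Fin m) K :=
    Algebra.TensorProduct.lift ((kronLeft n m).comp g) ((kronRight n m).comp h) fun a b => by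
      show g a ⊗ₖ (1 : Matrix (Fin m) (Fin m) K) * ((1 : Matrix (Fin n) (Fin n) K) ⊗ₖ h b) =
        ((1 : Matrix (Fin n) (Fin n) K) ⊗ₖ h b) * (g a ⊗ₖ (1 : Matrix (Fin m) (Fin m) K))
      rw [← Matrix.mul_kronecker_mul, ← Matrix.mul_kronecker_mul, one_mul, one_mul, mul_one, mul_one]
  have hG : ∀ a b, G (a ⊗ₜ b) = g a ⊗ₖ h b := fun a b => by
    show g a ⊗ₖ (1 : Matrix (Fin m) (Fin m) K) * ((1 : Matrix (Fin n) (Fin n) K) ⊗ₖ h b) = _
    rw [← Matrix.mul_kronecker_mul, one_mul, mul_one]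
  let w : (K ≃ₐ[k] K) → GL (Fin n × Fin m) K := fun σ =>
    ⟨(u σ : Matrix (Fin n) (Fin n) K) ⊗ₖ (v σ : Matrix (Fin m) (Fin m) K),
      ((u σ)⁻¹ : GL (Fin n) K).1 ⊗ₖ ((v σ)⁻¹ : GL (Fin m) K).1,
      by rw [← Matrix.mul_kronecker_mul, Units.mul_inv, Units.mul_inv, Matrix.one_kronecker_one],
      by rw [← Matrix.mul_kronecker_mul, Units.inv_mul, Units.inv_mul, Matrix.one_kronecker_one]⟩
  have hmap : ∀ (σ : K ≃ₐ[k] K) (M : Matrix (Fin n) (Fin n) K) (M' : Matrix (Fin m) (Fin m) K),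
      (M ⊗ₖ M').map σ = M.map σ ⊗ₖ M'.map σ := fun σ M M' => by
    ext ⟨i, j⟩ ⟨i', j'⟩
    simp
  refine HasFactorSet.of_fintype G w ?_ (fun σ t => ?_) fun σ τ => ?_
  · rw [Module.finrank_tensorProduct, hdA, hdB, Fintype.card_prod, Fintype.card_fin,
      Fintype.card_fin, mul_pow]
  · induction t using TensorProduct.induction_on with
    | zero => simp [Matrix.map_zero]
    | tmul a b =>
      simp only [hG, w]
      rw [hmap, ← Matrix.mul_kronecker_mul, ← Matrix.mul_kronecker_mul, hg, hh]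
    | add s t hs ht =>
      rw [map_add, add_mul, hs, ht, Matrix.map_add σ (map_add σ), mul_add]
  · simp only [w]
    rw [hmap, ← Matrix.mul_kronecker_mul, hu, hv, Matrix.smul_kronecker, Matrix.kronecker_smul,
      smul_smul]

theorem hasFactorSet_self (k : Type u) [Field k] (K : Type v) [Field K] [Algebra k K] :
    HasFactorSet k K k (fun _ _ => 1) := by
  refine ⟨1, Algebra.ofId k _, fun _ => 1, one_ne_zero, by simp, fun σ a => ?_, fun σ τ => ?_⟩
  · rw [Units.val_one, mul_one, one_mul]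
    ext i j
    rw [Fin.fin_one_eq_zero i, Fin.fin_one_eq_zero j]
    simp [Algebra.ofId_apply, Matrix.algebraMap_matrix_apply]
  · simp [Matrix.map_one]

theorem HasFactorSet.congr {A : Type w} [Ring A] [Algebra k A] {B : Type x} [Ring B] [Algebra k B]
    {c : (K ≃ₐ[k] K) → (K ≃ₐ[k] K) → K} (h : HasFactorSet k K A c) (e : A ≃ₐ[k] B) :
    HasFactorSet k K B c := by
  obtain ⟨N, g, u, hN, hd, hg, hu⟩ := h
  exact ⟨N, g.comp e.symm.toAlgHom, u, hN, by rw [← e.toLinearEquiv.finrank_eq, hd],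
    fun σ a => hg σ (e.symm a), hu⟩

theorem HasFactorSet.pow {A : Type w} [Ring A] [Algebra k A]
    {c : (K ≃ₐ[k] K) → (K ≃ₐ[k] K) → K} (h : HasFactorSet k K A c) (e : ℕ) :
    HasFactorSet k K (⨂[k] _i : Fin e, A) (fun σ τ => c σ τ ^ e) := by
  induction e with
  | zero =>
    simp only [pow_zero]
    exact (hasFactorSet_self k K).congr (powZero k A).symm
  | succ e ih =>
    simp only [pow_succ']
    exact (h.tensor ih).congr (powSucc k A e).symm

variable [FiniteDimensional k K] [IsGalois k K]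

omit [FiniteDimensional k K] [IsGalois k K] in
/-- A split algebra has a factor set. -/
theorem exists_factorSet {A : Type w} [Ring A] [Algebra k A] [Algebra.IsCentral k A]
    [IsSimpleRing A] [FiniteDimensional k A] {n : ℕ} [NeZero n]
    (φ : K ⊗[k] A ≃ₐ[K] Matrix (Fin n) (Fin n) K) :
    ∃ (g : A →ₐ[k] Matrix (Fin n) (Fin n) K) (u : (K ≃ₐ[k] K) → GL (Fin n) K)
      (c : (K ≃ₐ[k] K) → (K ≃ₐ[k] K) → K),
      Module.finrank k A = n ^ 2 ∧ (∀ σ τ, c σ τ ≠ 0) ∧
      (∀ σ a, g a * (u σ : Matrix (Fin n) (Fin n) K) = (u σ : Matrix (Fin n) (Fin n) K) * (g a).map σ) ∧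
      ∀ σ τ, (u σ : Matrix (Fin n) (Fin n) K) * (u τ : Matrix (Fin n) (Fin n) K).map σ =
        c σ τ • (u (σ * τ) : Matrix (Fin n) (Fin n) K) := by
  have := isSimpleRing_baseChange k A K
  have := isCentral_baseChange k A K
  let g : A →ₐ[k] Matrix (Fin n) (Fin n) K :=
    (φ.toAlgHom.restrictScalars k).comp Algebra.TensorProduct.includeRight
  have hdim : Module.finrank k A = n ^ 2 := by
    rw [← Module.finrank_baseChange (R := K) (S := k) (M' := A), φ.toLinearEquiv.finrank_eq,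
      Module.finrank_matrix, Module.finrank_self, Fintype.card_fin, mul_one, sq]
  let gt : (K ≃ₐ[k] K) → (K ⊗[k] A →ₐ[K] Matrix (Fin n) (Fin n) K) := fun σ =>
    Algebra.TensorProduct.lift (Algebra.ofId K _)
      ((AlgHom.mapMatrix (σ : K →ₐ[k] K)).comp g) fun x a => Algebra.commutes x _
  have hgt : ∀ (σ : K ≃ₐ[k] K) a, gt σ (1 ⊗ₜ a) = (g a).map σ := fun σ a => by simp [gt]
  have hsk : ∀ σ : K ≃ₐ[k] K, ∃ w : GL (Fin n) K, ∀ a,
      g a * (w : Matrix (Fin n) (Fin n) K) = (w : Matrix (Fin n) (Fin n) K) * (g a).map σ := by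
    intro σ
    obtain ⟨w, hw⟩ := skolem_noether K (gt σ) φ.toAlgHom
    refine ⟨w, fun a => ?_⟩
    have := hw (1 ⊗ₜ a)
    rw [hgt] at this
    conv_lhs => rw [show g a = φ.toAlgHom (1 ⊗ₜ a) from rfl, this]
    rw [mul_assoc, Units.inv_mul, mul_one]
  choose u hu using hsk
  have key : ∀ σ τ : K ≃ₐ[k] K, ∃ r : K, (u σ : Matrix (Fin n) (Fin n) K) * (u τ : Matrix (Fin n) (Fin n) K).map σ =
      r • (u (σ * τ) : Matrix (Fin n) (Fin n) K) := by
    intro σ τ
    let z : Matrix (Fin n) (Fin n) K := (u σ : Matrix (Fin n) (Fin n) K) *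
      (u τ : Matrix (Fin n) (Fin n) K).map σ * ((u (σ * τ))⁻¹ : GL (Fin n) K)
    have h1 : ∀ a, g a * ((u σ : Matrix (Fin n) (Fin n) K) * (u τ : Matrix (Fin n) (Fin n) K).map σ) =
        ((u σ : Matrix (Fin n) (Fin n) K) * (u τ : Matrix (Fin n) (Fin n) K).map σ) *
          (g a).map (σ * τ : K ≃ₐ[k] K) := by
      intro a
      rw [← mul_assoc, hu, mul_assoc, mul_assoc]
      congr 1
      have := congrArg (fun M : Matrix (Fin n) (Fin n) K => M.map σ) (hu τ a)
      simp only [Matrix.map_mul, Matrix.map_map] at this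
      exact this
    have h2 : ∀ a, Commute z (g a) := by
      intro a
      have e2 : (g a).map (σ * τ : K ≃ₐ[k] K) * ((u (σ * τ))⁻¹ : GL (Fin n) K).1 =
          ((u (σ * τ))⁻¹ : GL (Fin n) K).1 * g a := by
        rw [← Units.mul_right_inj (u (σ * τ)), ← mul_assoc, ← hu, mul_assoc, Units.mul_inv, mul_one,
          ← mul_assoc, Units.mul_inv, one_mul]
      show z * g a = g a * z
      simp only [z]
      rw [← mul_assoc (g a), h1, mul_assoc _ _ (g a), ← e2]
      simp only [mul_assoc]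
    have h3 : z ∈ Subalgebra.center K (Matrix (Fin n) (Fin n) K) := by
      refine Subalgebra.mem_center_iff.2 fun M => ?_
      obtain ⟨t, rfl⟩ := φ.surjective M
      induction t using TensorProduct.induction_on with
      | zero => simp
      | tmul x a =>
        have : φ (x ⊗ₜ[k] a) = x • g a := by
          rw [show g a = φ (1 ⊗ₜ a) from rfl, ← map_smul, TensorProduct.smul_tmul', smul_eq_mul,
            mul_one]
        rw [this, smul_mul_assoc, mul_smul_comm, (h2 a).eq]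
      | add s t hs ht => rw [map_add, add_mul, mul_add, hs, ht]
    obtain ⟨r, hr⟩ := Algebra.IsCentral.out h3
    refine ⟨r, ?_⟩
    have hr' : algebraMap K (Matrix (Fin n) (Fin n) K) r = z := hr
    calc _ = z * (u (σ * τ) : Matrix (Fin n) (Fin n) K) := by
            simp only [z, mul_assoc, Units.inv_mul, mul_one]
      _ = _ := by rw [← hr', Algebra.smul_def]
  choose c hc using key
  refine ⟨g, u, c, hdim, fun σ τ h0 => ?_, hu, hc⟩
  have h := hc σ τ
  rw [h0, zero_smul] at h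
  have h' : (u τ : Matrix (Fin n) (Fin n) K).map σ = 0 := by
    rw [← Units.mul_right_inj (u σ), h, mul_zero]
  exact (Units.ne_zero (u τ)) (Matrix.map_injective σ.injective (h'.trans (Matrix.map_zero _ (map_zero σ)).symm))

/-- An algebra whose factor set is a coboundary is split. -/
theorem similar_of_coboundary {A : Type w} [Ring A] [Algebra k A] [Algebra.IsCentral k A]
    [IsSimpleRing A] [FiniteDimensional k A] {c : (K ≃ₐ[k] K) → (K ≃ₐ[k] K) → K}
    (h : HasFactorSet k K A c) (f : (K ≃ₐ[k] K) → Kˣ)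
    (hf : ∀ σ τ, (f σ : K) * σ (f τ : K) = c σ τ * f (σ * τ)) : Similar k A k := by
  classical
  obtain ⟨N, g, u, hN, hd, hg, hu⟩ := h
  have hfix : ∀ x : K, (∀ σ : K ≃ₐ[k] K, σ x = x) → ∃ r : k, algebraMap k K r = x := fun x hx =>
    IntermediateField.mem_bot.1 ((IsGalois.mem_bot_iff_fixed _).2 hx)
  let B : (K ≃ₐ[k] K) → GL (Fin N) K := fun σ => Matrix.GeneralLinearGroup.scalar (Fin N) (f σ)⁻¹ * u σ
  have hB : ∀ σ, (B σ : Matrix (Fin N) (Fin N) K) = (f σ : K)⁻¹ • (u σ : Matrix (Fin N) (Fin N) K) := by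
    intro σ
    simp [B, Matrix.GeneralLinearGroup.scalar, ← Matrix.smul_eq_diagonal_mul]
  obtain ⟨P, hP⟩ := GalDescX.exists_gl_of_cocycle (k := k) N B fun σ τ => by
    rw [hB, hB, hB, smul_mul_assoc, show ((f τ : K)⁻¹ • (u τ : Matrix (Fin N) (Fin N) K)).map σ =
      σ (f τ : K)⁻¹ • (u τ : Matrix (Fin N) (Fin N) K).map σ from by
        ext i j; simp [map_mul], mul_smul_comm, hu, smul_smul, smul_smul]
    congr 1
    have h0 := hf σ τ
    have : σ (f τ : K) ≠ 0 := by simpa using (f τ).ne_zero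
    have := (f σ).ne_zero
    have := (f (σ * τ)).ne_zero
    rw [map_inv₀]
    field_simp
    linear_combination -h0
  let Pm : Matrix (Fin N) (Fin N) K := P
  let Pi : Matrix (Fin N) (Fin N) K := ((P⁻¹ : GL (Fin N) K) : Matrix (Fin N) (Fin N) K)
  have hPP : Pi * Pm = 1 := Units.inv_mul P
  have hPP' : Pm * Pi = 1 := Units.mul_inv P
  have hfixed : ∀ (a : A) (σ : K ≃ₐ[k] K), (Pi * g a * Pm).map σ = Pi * g a * Pm := by
    intro a σ
    have h1 : (B σ : Matrix (Fin N) (Fin N) K) * Pm.map σ = Pm := hP σ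
    have h2 : g a * (B σ : Matrix (Fin N) (Fin N) K) = (B σ : Matrix (Fin N) (Fin N) K) * (g a).map σ := by
      rw [hB, mul_smul_comm, smul_mul_assoc, hg]
    have h3 : Pi * (B σ : Matrix (Fin N) (Fin N) K) = Pi.map σ := by
      have : Pm.map σ * Pi.map σ = 1 := by
        rw [← Matrix.map_mul, hPP', Matrix.map_one _ (map_zero σ) (map_one σ)]
      calc Pi * (B σ : Matrix (Fin N) (Fin N) K)
          = Pi * ((B σ : Matrix (Fin N) (Fin N) K) * (Pm.map σ * Pi.map σ)) := by rw [this, mul_one]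
        _ = Pi * (Pm * Pi.map σ) := by rw [← mul_assoc (B σ : Matrix (Fin N) (Fin N) K), h1]
        _ = Pi.map σ := by rw [← mul_assoc, hPP, one_mul]
    rw [Matrix.map_mul, Matrix.map_mul]
    conv_rhs => rw [← h1, mul_assoc Pi, ← mul_assoc (g a), h2, mul_assoc, ← mul_assoc Pi, h3]
    rw [mul_assoc]
  have hex : ∀ a, ∃ M : Matrix (Fin N) (Fin N) k, M.map (algebraMap k K) = Pi * g a * Pm := by
    intro a
    choose r hr using fun i j => hfix ((Pi * g a * Pm) i j) fun σ =>
      congrFun (congrFun (hfixed a σ) i) j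
    exact ⟨r, by ext i j; exact hr i j⟩
  choose F hF using hex
  let ψ : Matrix (Fin N) (Fin N) k →ₐ[k] Matrix (Fin N) (Fin N) K := (Algebra.ofId k K).mapMatrix
  have hψ : Function.Injective ψ := Matrix.map_injective (algebraMap k K).injective
  have hF' : ∀ a, ψ (F a) = Pi * g a * Pm := hF
  let Φ : A →ₐ[k] Matrix (Fin N) (Fin N) k :=
    { toFun := F
      map_one' := hψ (by rw [hF', map_one, map_one, mul_one, hPP])
      map_mul' := fun a b => hψ (by
        rw [hF', map_mul, map_mul, hF', hF']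
        simp only [mul_assoc]
        rw [← mul_assoc Pm, hPP', one_mul])
      map_zero' := hψ (by rw [hF', map_zero, map_zero, mul_zero, zero_mul])
      map_add' := fun a b => hψ (by rw [hF', map_add, map_add, hF', hF', mul_add, add_mul])
      commutes' := fun r => hψ (by
        rw [hF', AlgHom.commutes, AlgHom.commutes, ← Algebra.commutes, mul_assoc, hPP, mul_one]) }
  have : Nontrivial (Matrix (Fin N) (Fin N) k) := by
    have : Nonempty (Fin N) := ⟨⟨0, Nat.pos_of_ne_zero hN⟩⟩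
    infer_instance
  have hinj : Function.Injective Φ := RingHom.injective Φ.toRingHom
  have hdim : Module.finrank k A = Module.finrank k (Matrix (Fin N) (Fin N) k) := by
    rw [hd, Module.finrank_matrix, Module.finrank_self, Fintype.card_fin, mul_one, sq]
  exact similar_of_algEquiv_matrix hN (AlgEquiv.ofBijective Φ ⟨hinj,
    (LinearMap.injective_iff_surjective_of_finrank_eq_finrank hdim (f := Φ.toLinearMap)).1 hinj⟩)

/-- If a Galois extension splits `A` then the degree of `A` kills its class. -/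
theorem similar_pow_degree {A : Type w} [Ring A] [Algebra k A] [Algebra.IsCentral k A]
    [IsSimpleRing A] [FiniteDimensional k A] {n : ℕ} [NeZero n]
    (φ : K ⊗[k] A ≃ₐ[K] Matrix (Fin n) (Fin n) K) :
    Similar k (⨂[k] _i : Fin n, A) k := by
  obtain ⟨g, u, c, hd, hc0, hg, hu⟩ := exists_factorSet φ
  obtain ⟨_, _, _⟩ := centralSimple_pow k A n
  refine similar_of_coboundary ((HasFactorSet.pow ⟨n, g, u, NeZero.ne n, hd, hg, hu⟩ n))
    (fun σ => Units.map (Matrix.detMonoidHom (n := Fin n) (R := K)) (u σ)) fun σ τ => ?_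
  have h := congrArg Matrix.det (hu σ τ)
  rw [Matrix.det_mul, Matrix.det_smul, Fintype.card_fin] at h
  simp only [Units.coe_map, Matrix.coe_detMonoidHom]
  rw [← h]
  congr 1
  exact AlgHom.map_det (σ : K →ₐ[k] K) _

end Groth.Agent.CSALib
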